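import Mathlib
import Cfsg.Agent.Lib.helper1.Coprime
import Cfsg.Agent.Lib.helper29.Rank2
import Cfsg.Agent.Lib.helper37.CoprimeGen

set_option autoImplicit false

namespace Cfsg.Agent.Lib.helper37

open Finset
open scoped commutatorElement
open scoped Pointwise

/-- If a subgroup `K` of a finite commutative group `A` is not "cocyclic" (no `a` with
`K ⊔ ⟨a⟩ = ⊤`), then for some prime `r` there are `a, b` with `a ^ r, b ^ r ∈ K` that are
independent modulo `K`. -/
theorem exists_rank_two_of_not_cocyclic {A : Type*} [Group A] [Finite A]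
    (hc : ∀ a b : A, a * b = b * a) (K : Subgroup A)
    (hno : ¬ ∃ a : A, K ⊔ Subgroup.zpowers a = ⊤) :
    ∃ r : ℕ, r.Prime ∧ r ∣ Nat.card A ∧ ∃ a b : A, a ^ r ∈ K ∧ b ^ r ∈ K ∧
      ∀ i j : ℕ, i < r → j < r → (i ≠ 0 ∨ j ≠ 0) → a ^ i * b ^ j ∉ K := by
  classical
  let _ : CommGroup A := { (inferInstance : Group A) with mul_comm := hc }
  have hncyc : ¬ IsCyclic (A ⧸ K) := by
    intro hcyc
    obtain ⟨g, hg⟩ := hcyc.exists_generator
    obtain ⟨a, rfl⟩ := QuotientGroup.mk_surjective g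
    apply hno
    refine ⟨a, ?_⟩
    rw [eq_top_iff]
    intro x _
    obtain ⟨n, hn⟩ := Subgroup.mem_zpowers_iff.mp (hg (x : A ⧸ K))
    have h1 : ((a ^ n : A) : A ⧸ K) = (x : A ⧸ K) := by
      rw [QuotientGroup.mk_zpow]; exact hn
    rw [QuotientGroup.eq] at h1
    have h2 : x = ((a ^ n)⁻¹ * x) * a ^ n := by
      rw [hc ((a ^ n)⁻¹ * x) (a ^ n)]; group
    rw [h2]
    exact Subgroup.mul_mem _ (Subgroup.mem_sup_left h1)
      (Subgroup.mem_sup_right (Subgroup.zpow_mem_zpowers a n))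
  let _ : Fintype (A ⧸ K) := Fintype.ofFinite _
  obtain ⟨r, hr, hlt⟩ := Cfsg.Agent.Lib.helper29.exists_prime_lt_card_pow_eq_one hncyc
  have := Fact.mk hr
  have h1lt : 1 < #{v : A ⧸ K | v ^ r = 1} := hr.one_lt.trans hlt
  obtain ⟨x, hxS, hx1⟩ := Finset.exists_mem_ne h1lt 1
  have hxr : x ^ r = 1 := (Finset.mem_filter.mp hxS).2
  have hox : orderOf x = r := orderOf_eq_prime hxr hx1
  have hy : ∃ y : A ⧸ K, y ^ r = 1 ∧ y ∉ Subgroup.zpowers x := by
    by_contra hall0
    have hall : ∀ y : A ⧸ K, y ^ r = 1 → y ∈ Subgroup.zpowers x := fun y hy => by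
      by_contra h
      exact hall0 ⟨y, hy, h⟩
    have hsub : ({v : A ⧸ K | v ^ r = 1} : Finset (A ⧸ K)) ⊆
        (Set.toFinset (Subgroup.zpowers x : Set (A ⧸ K))) := by
      intro v hv
      rw [Set.mem_toFinset]
      exact hall v (Finset.mem_filter.mp hv).2
    have hle := Finset.card_le_card hsub
    have hcz : (Set.toFinset (Subgroup.zpowers x : Set (A ⧸ K))).card = r := by
      rw [Set.toFinset_card, ← Nat.card_eq_fintype_card]
      exact (Nat.card_zpowers x).trans hox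
    omega
  obtain ⟨y, hyr, hyx⟩ := hy
  obtain ⟨a, rfl⟩ := QuotientGroup.mk_surjective x
  obtain ⟨b, rfl⟩ := QuotientGroup.mk_surjective y
  refine ⟨r, hr, ?_, a, b, ?_, ?_, ?_⟩
  · have h3 : r ∣ Nat.card (A ⧸ K) := hox ▸ orderOf_dvd_natCard _
    exact h3.trans (Subgroup.index_dvd_card K)
  · rw [← QuotientGroup.eq_one_iff, QuotientGroup.mk_pow]; exact hxr
  · rw [← QuotientGroup.eq_one_iff, QuotientGroup.mk_pow]; exact hyr
  · intro i j hi hj hij hmem
    rw [← QuotientGroup.eq_one_iff, QuotientGroup.mk_mul, QuotientGroup.mk_pow,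
      QuotientGroup.mk_pow] at hmem
    by_cases hj0 : j = 0
    · subst hj0
      have hi0 : i ≠ 0 := by tauto
      rw [pow_zero, mul_one] at hmem
      have hdvd := orderOf_dvd_of_pow_eq_one hmem
      rw [hox] at hdvd
      exact absurd (Nat.le_of_dvd (Nat.pos_of_ne_zero hi0) hdvd) (by omega)
    · apply hyx
      apply mem_of_pow_mem_of_exponent r _ _ hyr j hj0 hj
      have h4 : (b : A ⧸ K) ^ j = ((a : A ⧸ K) ^ i)⁻¹ := by
        rw [eq_inv_iff_mul_eq_one, mul_comm]; exact hmem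
      rw [h4]
      exact Subgroup.inv_mem _ (Subgroup.pow_mem _ (Subgroup.mem_zpowers _) i)

section Core

variable {H : Type*} [Group H]

/-- Core step, general abelian version: for a maximal `A`-invariant proper subgroup `M` of the
`q`-group `Q` (`A` abelian of order prime to `q`), some subgroup `B ≤ A` with `A = ⟨B, a⟩` has
`Q ∩ C(B)` not contained in `M`. -/
theorem exists_cocyclic_centralizer_not_le [Finite H] (q : ℕ)
    [hq : Fact q.Prime] (A Q M : Subgroup H)
    (hAc : ∀ a ∈ A, ∀ b ∈ A, a * b = b * a) (hcop : (Nat.card A).Coprime q)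
    (hQ : IsPGroup q Q) (hAQ : A ≤ Subgroup.normalizer (Q : Set H)) (hMQ : M ≤ Q) (hMne : M ≠ Q)
    (hAM : A ≤ Subgroup.normalizer (M : Set H))
    (hmax : ∀ M' : Subgroup H, M ≤ M' → M' ≤ Q → A ≤ Subgroup.normalizer (M' : Set H) →
      M' = M ∨ M' = Q) :
    ∃ B : Subgroup H, B ≤ A ∧ (∃ a ∈ A, B ⊔ Subgroup.zpowers a = A) ∧
      ¬ (Q ⊓ Subgroup.centralizer (B : Set H) ≤ M) := by
  have hQM := maximal_invariant_normal q A Q M hQ hAQ hMQ hMne hAM hmax
  have hcomm := maximal_invariant_commutator_le q A Q M hQ hAQ hMQ hMne hAM hmax hQM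
  have hn : (M.subgroupOf Q).Normal := (Subgroup.normal_subgroupOf_iff_le_normalizer hMQ).mpr hQM
  have hV : ∀ x y : ↥Q ⧸ M.subgroupOf Q, x * y = y * x := by
    intro x y
    induction x using QuotientGroup.induction_on with
    | H x =>
      induction y using QuotientGroup.induction_on with
      | H y =>
        rw [← QuotientGroup.mk_mul, ← QuotientGroup.mk_mul, QuotientGroup.eq,
          Subgroup.mem_subgroupOf]
        apply hcomm
        have h1 : (((x * y)⁻¹ * (y * x) : ↥Q) : H) = ⁅(y : H)⁻¹, (x : H)⁻¹⁆ := by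
          simp [commutatorElement_def, mul_assoc]
        rw [h1]
        exact Subgroup.commutator_mem_commutator (Q.inv_mem y.2) (Q.inv_mem x.2)
  let ψ : ↥A →* Monoid.End (↥Q ⧸ M.subgroupOf Q) :=
    (quotConj Q M).comp (Subgroup.inclusion (le_inf hAQ hAM))
  have hψ : ∀ (a : ↥A) (x : ↥Q), ψ a (x : ↥Q ⧸ M.subgroupOf Q) = (x : ↥Q ⧸ M.subgroupOf Q)
      ↔ (a : H) * (x : H)⁻¹ * (a : H)⁻¹ * (x : H) ∈ M :=
    fun a x => quotConj_mk_eq_iff Q M _ x
  have hAc' : ∀ a b : ↥A, a * b = b * a := fun a b => Subtype.ext (hAc a.1 a.2 b.1 b.2)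
  have hVq : IsPGroup q (↥Q ⧸ M.subgroupOf Q) := hQ.to_quotient _
  have hVr : ∀ r : ℕ, r ∣ Nat.card ↥A → ∀ v : ↥Q ⧸ M.subgroupOf Q, v ^ r = 1 → v = 1 := by
    intro r hr v hv
    obtain ⟨k, hk⟩ := hVq v
    have hcop' : Nat.gcd r (q ^ k) = 1 :=
      Nat.Coprime.pow_right _ (Nat.Coprime.coprime_dvd_left hr hcop)
    have := pow_gcd_eq_one.mpr ⟨hv, hk⟩
    rwa [hcop', pow_one] at this
  have hVnt : ∃ v : ↥Q ⧸ M.subgroupOf Q, v ≠ 1 := by
    by_contra hall
    apply hMne
    apply le_antisymm hMQ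
    intro x hx
    have h1 : ((⟨x, hx⟩ : ↥Q) : ↥Q ⧸ M.subgroupOf Q) = 1 := by
      by_contra h
      exact hall ⟨_, h⟩
    rw [QuotientGroup.eq_one_iff] at h1
    exact Subgroup.mem_subgroupOf.mp h1
  have hcyc : ∃ a : ↥A, ψ.ker ⊔ Subgroup.zpowers a = ⊤ := by
    by_contra hno
    obtain ⟨r, hr, hrA, a, b, har, hbr, hab⟩ := exists_rank_two_of_not_cocyclic hAc' ψ.ker hno
    obtain ⟨v, hv⟩ := hVnt
    apply hv
    apply hVr r hrA
    apply fpf_pow_eq_one' hV r hr.one_lt (ψ a) (ψ b)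
      ((show Commute a b from hAc' a b).map ψ) (by rw [← map_pow]; exact MonoidHom.mem_ker.mp har)
      (by rw [← map_pow]; exact MonoidHom.mem_ker.mp hbr)
    intro i j hi hj hij w hw
    have he : a ^ i * b ^ j ∉ ψ.ker := hab i j hi hj hij
    rw [← map_pow, ← map_pow, ← map_mul] at hw
    generalize a ^ i * b ^ j = e at he hw
    let F : Subgroup H :=
      ((MonoidHom.eqLocus (ψ e : (↥Q ⧸ M.subgroupOf Q) →* (↥Q ⧸ M.subgroupOf Q))
        (MonoidHom.id (↥Q ⧸ M.subgroupOf Q))).comap (QuotientGroup.mk' (M.subgroupOf Q))).map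
        Q.subtype
    have hFmem : ∀ x : ↥Q, (x : H) ∈ F ↔
        ψ e (x : ↥Q ⧸ M.subgroupOf Q) = (x : ↥Q ⧸ M.subgroupOf Q) := by
      intro x
      constructor
      · rintro ⟨y, hy, hyx⟩
        have hyx' : y = x := Subtype.ext hyx
        subst hyx'
        exact hy
      · intro h
        exact ⟨x, h, rfl⟩
    have hFQ : F ≤ Q := by
      rintro _ ⟨y, -, rfl⟩
      exact y.2
    have hMF : M ≤ F := by
      intro x hx
      apply (hFmem ⟨x, hMQ hx⟩).mpr
      have h1 : ((⟨x, hMQ hx⟩ : ↥Q) : ↥Q ⧸ M.subgroupOf Q) = 1 :=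
        (QuotientGroup.eq_one_iff _).mpr (Subgroup.mem_subgroupOf.mpr hx)
      rw [h1, map_one]
    have hAF : A ≤ Subgroup.normalizer (F : Set H) := by
      rw [Subgroup.le_normalizer_iff]
      intro c hc x hx
      have hxQ := hFQ hx
      have hcx : c * x * c⁻¹ ∈ Q := Subgroup.le_normalizer_iff.mp hAQ c hc x hxQ
      have h1 := (hFmem ⟨x, hxQ⟩).mp hx
      apply (hFmem ⟨c * x * c⁻¹, hcx⟩).mpr
      have h2 : ((⟨c * x * c⁻¹, hcx⟩ : ↥Q) : ↥Q ⧸ M.subgroupOf Q)
          = ψ ⟨c, hc⟩ ((⟨x, hxQ⟩ : ↥Q) : ↥Q ⧸ M.subgroupOf Q) := rfl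
      rw [h2]
      have h3 : ψ e (ψ ⟨c, hc⟩ ((⟨x, hxQ⟩ : ↥Q) : ↥Q ⧸ M.subgroupOf Q))
          = ψ ⟨c, hc⟩ (ψ e ((⟨x, hxQ⟩ : ↥Q) : ↥Q ⧸ M.subgroupOf Q)) := by
        have h4 : ψ e * ψ ⟨c, hc⟩ = ψ ⟨c, hc⟩ * ψ e := by
          rw [← map_mul, ← map_mul, hAc' e ⟨c, hc⟩]
        exact DFunLike.congr_fun h4 ((⟨x, hxQ⟩ : ↥Q) : ↥Q ⧸ M.subgroupOf Q)
      rw [h3, h1]
    rcases hmax F hMF hFQ hAF with hF | hF
    · induction w using QuotientGroup.induction_on with
      | H x =>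
        have h5 := (hFmem x).mpr hw
        rw [hF] at h5
        exact (QuotientGroup.eq_one_iff _).mpr (Subgroup.mem_subgroupOf.mpr h5)
    · exfalso
      apply he
      rw [MonoidHom.mem_ker]
      refine DFunLike.ext _ _ (fun x => ?_)
      obtain ⟨x', hx'⟩ := QuotientGroup.mk_surjective x
      rw [← hx']
      have hx'F : (x' : H) ∈ F := by
        rw [hF]
        exact x'.2
      exact (hFmem x').mp hx'F
  have hBA : ψ.ker.map A.subtype ≤ A := by
    rintro _ ⟨y, -, rfl⟩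
    exact y.2
  obtain ⟨a, ha⟩ := hcyc
  refine ⟨ψ.ker.map A.subtype, hBA, ⟨(a : H), a.2, ?_⟩, ?_⟩
  · have h6 := congrArg (Subgroup.map A.subtype) ha
    rw [Subgroup.map_sup, MonoidHom.map_zpowers, ← MonoidHom.range_eq_map,
      Subgroup.range_subtype] at h6
    exact h6
  · intro hle
    apply hMne
    apply le_antisymm hMQ
    intro g hg
    have hBM : ψ.ker.map A.subtype ≤ Subgroup.normalizer (M : Set H) := hBA.trans hAM
    have hqM : IsPGroup q ↥M := hQ.to_le hMQ
    obtain ⟨m, hm⟩ := hqM.exists_card_eq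
    have hcop2 : (Nat.card ↥(ψ.ker.map A.subtype)).Coprime (Nat.card ↥M) := by
      rw [hm]
      exact Nat.Coprime.pow_right _ (Nat.Coprime.coprime_dvd_left (Subgroup.card_dvd_of_le hBA) hcop)
    have hsolv : Group.IsSolvable ↥(ψ.ker.map A.subtype) := by
      have hcB : ∀ x y : ↥(ψ.ker.map A.subtype), x * y = y * x :=
        fun x y => Subtype.ext (hAc x.1 (hBA x.2) y.1 (hBA y.2))
      let _ : CommGroup ↥(ψ.ker.map A.subtype) :=
        { (inferInstance : Group ↥(ψ.ker.map A.subtype)) with mul_comm := hcB }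
      infer_instance
    obtain ⟨c, hc, hcg⟩ := Cfsg.Agent.Lib.helper1.coset_fixed (ψ.ker.map A.subtype) M hBM hcop2
      (Or.inl hsolv) g (by
        rintro _ ⟨k, hk, rfl⟩
        have h7 := (hψ k ⟨g⁻¹, Q.inv_mem hg⟩).mp (by rw [MonoidHom.mem_ker.mp hk]; rfl)
        simpa using h7)
    have hcQ : c ∈ Q := by
      have h8 := Q.mul_mem (hMQ hcg) hg
      simpa using h8
    have hcM : c ∈ M := hle ⟨hcQ, hc⟩
    have h9 := M.mul_mem (M.inv_mem hcg) hcM
    simpa using h9

/-- Cocyclic generation for an `A`-invariant `q`-subgroup `Q`, `A` abelian of order prime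
to `q`. -/
theorem qgroup_le_iSup_cocyclic [Finite H] (q : ℕ)
    [hq : Fact q.Prime] (A Q : Subgroup H)
    (hAc : ∀ a ∈ A, ∀ b ∈ A, a * b = b * a) (hcop : (Nat.card A).Coprime q)
    (hQ : IsPGroup q Q) (hAQ : A ≤ Subgroup.normalizer (Q : Set H)) :
    Q ≤ ⨆ B : {B : Subgroup H // B ≤ A ∧ ∃ a ∈ A, B ⊔ Subgroup.zpowers a = A},
      Q ⊓ Subgroup.centralizer ((B : Subgroup H) : Set H) := by
  set Y : Subgroup H := ⨆ B : {B : Subgroup H // B ≤ A ∧ ∃ a ∈ A, B ⊔ Subgroup.zpowers a = A},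
      Q ⊓ Subgroup.centralizer ((B : Subgroup H) : Set H) with hYdef
  by_contra hQY
  have hYQ : Y ≤ Q := iSup_le fun B => inf_le_left
  have hAY : A ≤ Subgroup.normalizer (Y : Set H) := by
    apply le_normalizer_iSup
    intro B
    rw [Subgroup.le_normalizer_iff]
    intro a ha x hx
    refine ⟨Subgroup.le_normalizer_iff.mp hAQ a ha x hx.1, ?_⟩
    change a * x * a⁻¹ ∈ Subgroup.centralizer ((B : Subgroup H) : Set H)
    rw [Subgroup.mem_centralizer_iff]
    intro b hb
    have h1 : Commute b a := (hAc a ha b (B.2.1 hb)).symm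
    have h2 : Commute b x := Subgroup.mem_centralizer_iff.mp hx.2 b hb
    exact ((h1.mul_right h2).mul_right h1.inv_right).eq
  let S : Set (Subgroup H) :=
    {M | Y ≤ M ∧ M ≤ Q ∧ M ≠ Q ∧ A ≤ Subgroup.normalizer (M : Set H)}
  have hYS : Y ∈ S := ⟨le_rfl, hYQ, fun h => hQY (h ▸ le_rfl), hAY⟩
  obtain ⟨M, hYM, ⟨hM1, hMQ, hMne, hAM⟩, hMmax⟩ := (Set.toFinite S).exists_le_maximal hYS
  obtain ⟨B, hBA, hBi, hB⟩ := exists_cocyclic_centralizer_not_le q A Q M hAc hcop hQ hAQ
    hMQ hMne hAM (by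
      intro M' hMM' hM'Q hAM'
      by_cases h : M' = Q
      · exact Or.inr h
      · left
        exact le_antisymm (hMmax ⟨hM1.trans hMM', hM'Q, h, hAM'⟩ hMM') hMM')
  apply hB
  exact (le_iSup (fun B : {B : Subgroup H // B ≤ A ∧ ∃ a ∈ A, B ⊔ Subgroup.zpowers a = A} =>
    Q ⊓ Subgroup.centralizer ((B : Subgroup H) : Set H)) ⟨B, hBA, hBi⟩).trans hYM

/-- **Coprime generation by centralizers of cocyclic subgroups.**  If an abelian subgroup `A`
normalizes a subgroup `X` of coprime order, then `X` is generated by the subgroups `X ∩ C(B)`,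
`B` ranging over the subgroups of `A` with `A = ⟨B, a⟩` for some `a`. -/
theorem coprime_gen_cocyclic [Finite H] (A X : Subgroup H)
    (hAc : ∀ a ∈ A, ∀ b ∈ A, a * b = b * a)
    (hcop : (Nat.card A).Coprime (Nat.card X)) (hAX : A ≤ Subgroup.normalizer (X : Set H)) :
    X = ⨆ B : {B : Subgroup H // B ≤ A ∧ ∃ a ∈ A, B ⊔ Subgroup.zpowers a = A},
      X ⊓ Subgroup.centralizer ((B : Subgroup H) : Set H) := by
  symm
  apply Subgroup.eq_of_le_of_card_ge (iSup_le fun B => inf_le_left)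
  apply Nat.le_of_dvd Nat.card_pos
  rw [← Nat.factorization_le_iff_dvd Nat.card_pos.ne' Nat.card_pos.ne', Finsupp.le_def]
  intro q
  by_cases hq : q.Prime
  · by_cases hqX : q ∣ Nat.card ↥X
    · have := Fact.mk hq
      have hsolv : Group.IsSolvable ↥A := by
        have hcA : ∀ x y : ↥A, x * y = y * x :=
          fun x y => Subtype.ext (hAc x.1 x.2 y.1 y.2)
        let _ : CommGroup ↥A := { (inferInstance : Group ↥A) with mul_comm := hcA }
        infer_instance
      obtain ⟨P, hP⟩ := Cfsg.Agent.Lib.helper1.exists_invariant_sylow (p := q) A X hAX hcop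
        (Or.inl hsolv)
      have hPX : (P : Subgroup ↥X).map X.subtype ≤ X := by
        rintro _ ⟨y, -, rfl⟩
        exact y.2
      have hcq : (Nat.card ↥A).Coprime q := Nat.Coprime.coprime_dvd_right hqX hcop
      have hle := qgroup_le_iSup_cocyclic q A ((P : Subgroup ↥X).map X.subtype) hAc hcq
        (P.isPGroup'.map _) hP
      have hle2 : (P : Subgroup ↥X).map X.subtype ≤
          ⨆ B : {B : Subgroup H // B ≤ A ∧ ∃ a ∈ A, B ⊔ Subgroup.zpowers a = A},
          X ⊓ Subgroup.centralizer ((B : Subgroup H) : Set H) :=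
        hle.trans (iSup_mono fun B => inf_le_inf_right _ hPX)
      have hdvd := Subgroup.card_dvd_of_le hle2
      rw [Subgroup.card_map_of_injective X.subtype_injective, Sylow.card_eq_multiplicity] at hdvd
      exact (Nat.Prime.pow_dvd_iff_le_factorization hq Nat.card_pos.ne').mp hdvd
    · rw [Nat.factorization_eq_zero_of_not_dvd hqX]
      exact Nat.zero_le _
  · rw [Nat.factorization_eq_zero_of_not_prime _ hq]
    exact Nat.zero_le _

/-- Commutator form: under the hypotheses of `coprime_gen_cocyclic`, `[X, A]` is generated by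
the subgroups `[X ∩ C(B), A]`. -/
theorem coprime_gen_cocyclic_commutator [Finite H] (A X : Subgroup H)
    (hAc : ∀ a ∈ A, ∀ b ∈ A, a * b = b * a)
    (hcop : (Nat.card A).Coprime (Nat.card X)) (hAX : A ≤ Subgroup.normalizer (X : Set H)) :
    ⁅X, A⁆ = ⨆ B : {B : Subgroup H // B ≤ A ∧ ∃ a ∈ A, B ⊔ Subgroup.zpowers a = A},
      ⁅X ⊓ Subgroup.centralizer ((B : Subgroup H) : Set H), A⁆ := by
  set N : Subgroup H := ⨆ B : {B : Subgroup H // B ≤ A ∧ ∃ a ∈ A, B ⊔ Subgroup.zpowers a = A},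
      ⁅X ⊓ Subgroup.centralizer ((B : Subgroup H) : Set H), A⁆ with hNdef
  have hsolv : Group.IsSolvable ↥A := by
    have hcA : ∀ x y : ↥A, x * y = y * x :=
      fun x y => Subtype.ext (hAc x.1 x.2 y.1 y.2)
    let _ : CommGroup ↥A := { (inferInstance : Group ↥A) with mul_comm := hcA }
    infer_instance
  -- each `X ∩ C(B)` is `A`-invariant
  have hinv : ∀ B : {B : Subgroup H // B ≤ A ∧ ∃ a ∈ A, B ⊔ Subgroup.zpowers a = A},
      A ≤ Subgroup.normalizer
        ((X ⊓ Subgroup.centralizer ((B : Subgroup H) : Set H) : Subgroup H) : Set H) := by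
    intro B
    rw [Subgroup.le_normalizer_iff]
    intro a ha x hx
    refine ⟨Subgroup.le_normalizer_iff.mp hAX a ha x hx.1, ?_⟩
    change a * x * a⁻¹ ∈ Subgroup.centralizer ((B : Subgroup H) : Set H)
    rw [Subgroup.mem_centralizer_iff]
    intro b hb
    have h1 : Commute b a := (hAc a ha b (B.2.1 hb)).symm
    have h2 : Commute b x := Subgroup.mem_centralizer_iff.mp hx.2 b hb
    exact ((h1.mul_right h2).mul_right h1.inv_right).eq
  have hAN : A ≤ Subgroup.normalizer (N : Set H) := by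
    apply le_normalizer_iSup
    intro B
    exact Cfsg.Agent.Lib.helper1.right_le_normalizer_commutator (hinv B)
  have hCN : X ⊓ Subgroup.centralizer (A : Set H) ≤ Subgroup.normalizer (N : Set H) := by
    apply le_normalizer_iSup
    intro B
    have h1 : X ⊓ Subgroup.centralizer (A : Set H) ≤
        X ⊓ Subgroup.centralizer ((B : Subgroup H) : Set H) :=
      inf_le_inf_left _ (Subgroup.centralizer_le B.2.1)
    exact h1.trans (Cfsg.Agent.Lib.helper1.left_le_normalizer_commutator _ _)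
  -- the subgroup of elements normalizing `N` and commuting with `A` modulo `N`
  let S : Subgroup H :=
    { carrier := {g | g ∈ Subgroup.normalizer (N : Set H) ∧ ∀ a ∈ A, ⁅g, a⁆ ∈ N}
      one_mem' := ⟨Subgroup.one_mem _, fun a _ => by
        rw [commutatorElement_one_left]; exact N.one_mem⟩
      mul_mem' := by
        rintro g h ⟨hg1, hg2⟩ ⟨hh1, hh2⟩
        refine ⟨Subgroup.mul_mem _ hg1 hh1, fun a ha => ?_⟩
        have h1 : ⁅g * h, a⁆ = g * ⁅h, a⁆ * g⁻¹ * ⁅g, a⁆ := by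
          simp [commutatorElement_def, mul_assoc]
        rw [h1]
        exact N.mul_mem ((Subgroup.mem_normalizer_iff.mp hg1 _).mp (hh2 a ha)) (hg2 a ha)
      inv_mem' := by
        rintro g ⟨hg1, hg2⟩
        refine ⟨Subgroup.inv_mem _ hg1, fun a ha => ?_⟩
        have h1 : ⁅g⁻¹, a⁆ = g⁻¹ * ⁅g, a⁆⁻¹ * g⁻¹⁻¹ := by
          simp [commutatorElement_def, mul_assoc]
        rw [h1]
        exact (Subgroup.mem_normalizer_iff.mp (Subgroup.inv_mem _ hg1) _).mp
          (N.inv_mem (hg2 a ha)) }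
  have hNS : N ≤ S := by
    intro n hn
    refine ⟨Subgroup.le_normalizer hn, fun a ha => ?_⟩
    have h1 : ⁅n, a⁆ = n * (a * n⁻¹ * a⁻¹) := by
      simp [commutatorElement_def, mul_assoc]
    rw [h1]
    exact N.mul_mem hn ((Subgroup.mem_normalizer_iff.mp (hAN ha) _).mp (N.inv_mem hn))
  have hCS : X ⊓ Subgroup.centralizer (A : Set H) ≤ S := by
    intro c hc
    refine ⟨hCN hc, fun a ha => ?_⟩
    have h1 : ⁅c, a⁆ = 1 := by
      rw [commutatorElement_eq_one_iff_mul_comm]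
      exact (Subgroup.mem_centralizer_iff.mp hc.2 a ha).symm
    rw [h1]
    exact N.one_mem
  have hXS : X ≤ S := by
    have hX := coprime_gen_cocyclic A X hAc hcop hAX
    rw [hX]
    apply iSup_le
    intro B
    have hcopB : (Nat.card ↥A).Coprime
        (Nat.card ↥(X ⊓ Subgroup.centralizer ((B : Subgroup H) : Set H))) :=
      Nat.Coprime.coprime_dvd_right (Subgroup.card_dvd_of_le inf_le_left) hcop
    have h1 := Cfsg.Agent.Lib.helper1.commutator_sup_fixed A
      (X ⊓ Subgroup.centralizer ((B : Subgroup H) : Set H)) (hinv B) hcopB (Or.inl hsolv)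
    rw [← h1]
    apply sup_le
    · exact (le_iSup (fun B : {B : Subgroup H // B ≤ A ∧ ∃ a ∈ A, B ⊔ Subgroup.zpowers a = A} =>
        ⁅X ⊓ Subgroup.centralizer ((B : Subgroup H) : Set H), A⁆) B).trans hNS
    · exact (inf_le_inf_right _ inf_le_left).trans hCS
  apply le_antisymm
  · rw [Subgroup.commutator_le]
    intro g hg a ha
    exact (hXS hg).2 a ha
  · apply iSup_le
    intro B
    exact Subgroup.commutator_mono inf_le_left le_rfl

end Core

end Cfsg.Agent.Lib.helper37
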