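import Mathlib
import Cfsg.Agent.Lib.helper44.SL3Defs

/-!
# S2287 piece TA (helper37): torus actions from the base configuration
-/

set_option autoImplicit false
set_option linter.unusedSimpArgs false

namespace Cfsg.Agent.Lib.helper44.SL3

-- TA
theorem base_actions {G : Type*} [Group G] {F : Type*} [Field F] (x : F → G) (h c : G) (ω : F)
    (hB : IsBase x h c ω) :
    (∀ a, (c * h * c⁻¹) * x a * (c * h * c⁻¹)⁻¹ = x (ω⁻¹ * ω⁻¹ * a)) ∧
    (∀ b, h * yy x c b * h⁻¹ = yy x c (ω * b)) ∧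
    (∀ b, (c * h * c⁻¹) * yy x c b * (c * h * c⁻¹)⁻¹ = yy x c (ω * b)) ∧
    (∀ b, (c * c * h * (c * c)⁻¹) * yy x c b * (c * c * h * (c * c)⁻¹)⁻¹ =
      yy x c (ω⁻¹ * ω⁻¹ * b)) ∧
    Commute (c * h * c⁻¹) (c * c * h * (c * c)⁻¹) ∧ Commute (c * c * h * (c * c)⁻¹) h ∧
    (∀ a b, yy x c (a + b) = yy x c a * yy x c b) ∧
    (∀ a, c * c * yy x c a * (c * c)⁻¹ = x a) := by
  have hc3 := hB.c3
  have hω := hB.ω0
  have r3 : c * c = c⁻¹ := by
    apply eq_inv_of_mul_eq_one_left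
    exact hc3
  have r4 : c⁻¹ * c⁻¹ = c := by
    rw [← mul_inv_rev, r3, inv_inv]
  have r1 : ∀ g : G, c⁻¹ * (c⁻¹ * g) = c * g := fun g => by rw [← mul_assoc, r4]
  have r2 : ∀ g : G, c * (c * g) = c⁻¹ * g := fun g => by rw [← mul_assoc, r3]
  have inv_act : ∀ (K : G), (∀ a, K * x a * K⁻¹ = x (ω * a)) →
      ∀ a, K⁻¹ * x a * K = x (ω⁻¹ * a) := by
    intro K hK a
    have h1 := hK (ω⁻¹ * a)
    rw [mul_inv_cancel_left₀ hω] at h1
    rw [← h1]
    simp only [mul_assoc, inv_mul_cancel_left, inv_mul_cancel, mul_one]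
  have hx_inv := inv_act h hB.h_x
  have k'x_inv := inv_act _ hB.k'_x
  have three : ∀ (a b d : G), a * b * d = 1 → b = a⁻¹ * d⁻¹ := by
    intro a b d h1
    calc b = a⁻¹ * (a * b * d) * d⁻¹ := by
          simp only [mul_assoc, inv_mul_cancel_left, mul_inv_cancel, mul_one]
      _ = a⁻¹ * d⁻¹ := by rw [h1, mul_one]
  have hk_eq : c * h * c⁻¹ = h⁻¹ * (c * c * h * (c * c)⁻¹)⁻¹ := three _ _ _ hB.hkk
  have conj2 : ∀ (K X : G), h⁻¹ * K⁻¹ * X * (h⁻¹ * K⁻¹)⁻¹ = h⁻¹ * (K⁻¹ * X * K) * h := by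
    intro K X
    simp only [mul_assoc, mul_inv_rev, inv_inv]
  have p1 : ∀ a, (c * h * c⁻¹) * x a * (c * h * c⁻¹)⁻¹ = x (ω⁻¹ * ω⁻¹ * a) := by
    intro a
    rw [hk_eq, conj2, k'x_inv, hx_inv, mul_assoc]
  have p5e : (c * h * c⁻¹) * (c * c * h * (c * c)⁻¹) = (c * c * h * (c * c)⁻¹) * (c * h * c⁻¹) := by
    have h1 : h * (c * h * c⁻¹) = (c * h * c⁻¹) * h := hB.hk.eq
    have e1 : (c * h * c⁻¹) * (c * c * h * (c * c)⁻¹) = c * (h * (c * h * c⁻¹)) * c⁻¹ := by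
      simp only [mul_assoc, mul_inv_rev, inv_inv, inv_mul_cancel_left, mul_inv_cancel_left,
        mul_inv_cancel, inv_mul_cancel, mul_one, one_mul, r1, r2, r3, r4]
    have e2 : (c * c * h * (c * c)⁻¹) * (c * h * c⁻¹) = c * ((c * h * c⁻¹) * h) * c⁻¹ := by
      simp only [mul_assoc, mul_inv_rev, inv_inv, inv_mul_cancel_left, mul_inv_cancel_left,
        mul_inv_cancel, inv_mul_cancel, mul_one, one_mul, r1, r2, r3, r4]
    rw [e1, e2, h1]
  refine ⟨p1, ?_, ?_, ?_, p5e, ?_, ?_, ?_⟩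
  · intro b
    unfold yy
    rw [← hB.k'_x b]
    simp only [mul_assoc, mul_inv_rev, inv_inv, inv_mul_cancel_left, mul_inv_cancel_left,
      mul_inv_cancel, inv_mul_cancel, mul_one, one_mul, r1, r2, r3, r4]
  · intro b
    unfold yy
    rw [← hB.h_x b]
    simp only [mul_assoc, mul_inv_rev, inv_inv, inv_mul_cancel_left, mul_inv_cancel_left,
      mul_inv_cancel, inv_mul_cancel, mul_one, one_mul, r1, r2, r3, r4]
  · intro b
    unfold yy
    rw [← p1 b]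
    simp only [mul_assoc, mul_inv_rev, inv_inv, inv_mul_cancel_left, mul_inv_cancel_left,
      mul_inv_cancel, inv_mul_cancel, mul_one, one_mul, r1, r2, r3, r4]
  · show (c * c * h * (c * c)⁻¹) * h = h * (c * c * h * (c * c)⁻¹)
    have e1 : (c * c * h * (c * c)⁻¹) * h
        = c * ((c * h * c⁻¹) * (c * c * h * (c * c)⁻¹)) * c⁻¹ := by
      simp only [mul_assoc, mul_inv_rev, inv_inv, inv_mul_cancel_left, mul_inv_cancel_left,
        mul_inv_cancel, inv_mul_cancel, mul_one, one_mul, r1, r2, r3, r4]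
    have e2 : h * (c * c * h * (c * c)⁻¹)
        = c * ((c * c * h * (c * c)⁻¹) * (c * h * c⁻¹)) * c⁻¹ := by
      simp only [mul_assoc, mul_inv_rev, inv_inv, inv_mul_cancel_left, mul_inv_cancel_left,
        mul_inv_cancel, inv_mul_cancel, mul_one, one_mul, r1, r2, r3, r4]
    rw [e1, e2, p5e]
  · intro a b
    unfold yy
    rw [hB.x_add]
    simp only [mul_assoc, inv_mul_cancel_left]
  · intro a
    unfold yy
    simp only [mul_assoc, mul_inv_rev, inv_inv, inv_mul_cancel_left, mul_inv_cancel_left,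
      mul_inv_cancel, inv_mul_cancel, mul_one, one_mul, r1, r2, r3, r4]

end Cfsg.Agent.Lib.helper44.SL3
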