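import Mathlib
import Cfsg.Prelude.Def_Classical
import Cfsg.Prelude.Def_GeometricClasses

set_option autoImplicit false

namespace Cfsg.Agent.Lib.helper96.FE

open Polynomial

/-- EVEN (M): a `K`-invariant subspace has even dimension. -/
theorem fe_even {F : Type*} [Field F] {ι : Type} [Fintype ι] [DecidableEq ι]
    (K : Subalgebra F (Matrix ι ι F)) (hK : Cfsg.Geo.IsFieldSubalgebra 2 K)
    (W : Submodule F (ι → F)) (hW : ∀ k ∈ K, ∀ w ∈ W, Matrix.mulVec k w ∈ W) :
    Even (Module.finrank F W) := by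
  classical
  have hfr : Module.finrank F ↥K = 2 := hK.finrank_eq
  haveI hnt : Nontrivial ↥K :=
    Module.nontrivial_of_finrank_pos (R := F) (by rw [hfr]; norm_num)
  have hIF : IsField ↥K :=
    { exists_pair_ne := hnt.exists_pair_ne
      mul_comm := fun x y => Subtype.ext (hK.comm x.1 x.2 y.1 y.2)
      mul_inv_cancel := by
        intro a ha
        obtain ⟨y, hyK, hy⟩ := hK.inv a.1 a.2 (fun h0 => ha (Subtype.ext h0))
        exact ⟨⟨y, hyK⟩, Subtype.ext hy⟩ }
  letI : Field ↥K := hIF.toField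
  letI : Module ↥K ↥W :=
    { smul := fun k w => ⟨Matrix.mulVec k.1 w.1, hW k.1 k.2 w.1 w.2⟩
      one_smul := fun w => Subtype.ext (Matrix.one_mulVec w.1)
      mul_smul := fun a b w => Subtype.ext (Matrix.mulVec_mulVec w.1 a.1 b.1).symm
      smul_zero := fun a => Subtype.ext (Matrix.mulVec_zero a.1)
      smul_add := fun a v w => Subtype.ext (Matrix.mulVec_add a.1 v.1 w.1)
      add_smul := fun a b w => Subtype.ext (Matrix.add_mulVec a.1 b.1 w.1)
      zero_smul := fun w => Subtype.ext (Matrix.zero_mulVec w.1) }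
  haveI : IsScalarTower F ↥K ↥W :=
    ⟨fun c k w => Subtype.ext (Matrix.smul_mulVec c k.1 w.1)⟩
  have h := Module.finrank_mul_finrank F ↥K ↥W
  rw [hfr] at h
  exact ⟨Module.finrank ↥K ↥W, by rw [← h]; ring⟩

end Cfsg.Agent.Lib.helper96.FE
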