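import Mathlib
import Cfsg.Prelude.Def_Characters
import Cfsg.Prelude.Def_Blocks
import Cfsg.Agent.Lib.helper48.BU_FAITH
import Cfsg.Agent.Lib.helper4.CharDecomp
import Cfsg.Agent.Lib.helper19.LinChar
import Cfsg.Agent.Lib.helper81.CharOrtho

/-!
S4501 split project (helper17), piece ABEL1 (helper37): a nontrivial irreducible character of
degree `< r` of a non-abelian simple group forces abelian Sylow `r`-subgroups.
Also the shared lemmas on the restriction of a character to a Sylow subgroup (used by ABEL2).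
-/

set_option autoImplicit false

namespace Cfsg.Agent.Lib.helper37.BW

open Cfsg

universe u

/-- The value at `1` of a character is its degree. -/
theorem h37_deg_eq {H : Type u} [Group H] {ψ : H → ℂ} (hψ : IsCharacter H ψ) :
    ψ 1 = (charDegree ψ : ℂ) := by
  obtain ⟨n, hn⟩ := Cfsg.Agent.Lib.helper4.exists_nat_degree hψ
  unfold charDegree
  rw [hn]
  simp

theorem h37_irr_isChar {H : Type u} [Group H] (ψ : IrrCharacter H) :
    IsCharacter H (ψ : H → ℂ) := by
  obtain ⟨n, ρ, _, h⟩ := ψ.2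
  exact ⟨n, ρ, h⟩

/-- The degree of a sum of irreducible characters. -/
theorem h37_sum_deg {H : Type u} [Group H] (l : List (IrrCharacter H)) :
    ((l.map Subtype.val).sum : H → ℂ) 1
      = ((l.map (fun ψ : IrrCharacter H => charDegree (ψ : H → ℂ))).sum : ℕ) := by
  induction l with
  | nil => simp
  | cons a t ih =>
    simp only [List.map_cons, List.sum_cons, Pi.add_apply, Nat.cast_add]
    rw [ih, h37_deg_eq (h37_irr_isChar a)]

/-- A sum of linear characters is constant `= degree` on commutators. -/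
theorem h37_comm_of_linear {H : Type u} [Group H] (l : List (IrrCharacter H))
    (hl : ∀ ψ ∈ l, (ψ : H → ℂ) 1 = 1) (x y : H) :
    ((l.map Subtype.val).sum : H → ℂ) (x * y * x⁻¹ * y⁻¹)
      = ((l.map Subtype.val).sum : H → ℂ) 1 := by
  induction l with
  | nil => simp
  | cons a t ih =>
    simp only [List.map_cons, List.sum_cons, Pi.add_apply]
    rw [ih (fun ψ hψ => hl ψ (List.mem_cons_of_mem _ hψ))]
    congr 1
    obtain ⟨f, hf⟩ := Cfsg.Agent.Lib.helper19.exists_hom_of_linear (a : H → ℂ)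
      (h37_irr_isChar a) (hl a (List.mem_cons_self))
    rw [hf, hf]
    have : f (x * y * x⁻¹ * y⁻¹) = 1 := by
      rw [map_mul, map_mul, map_mul, map_inv, map_inv, mul_right_comm (f x) (f y) (f x)⁻¹,
        mul_inv_cancel, one_mul, mul_inv_cancel]
    rw [this, map_one]

/-- Decomposition of the restriction of an irreducible character to a Sylow subgroup. -/
theorem h37_restrict_sylow {G : Type u} [Group G] [Finite G] (r : ℕ) [Fact r.Prime]
    (Q : Sylow r G) (χ : IrrCharacter G) :
    ∃ l : List (IrrCharacter (Q : Subgroup G)),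
      (fun h : (Q : Subgroup G) => (χ : G → ℂ) h) = (l.map Subtype.val).sum ∧
      (l.map (fun ψ : IrrCharacter (Q : Subgroup G) =>
        charDegree (ψ : ↥(Q : Subgroup G) → ℂ))).sum = charDegree (χ : G → ℂ) ∧
      ∀ ψ : IrrCharacter (Q : Subgroup G),
        ∃ j : ℕ, charDegree (ψ : ↥(Q : Subgroup G) → ℂ) = r ^ j := by
  classical
  have := Fintype.ofFinite G
  have : Fintype (Q : Subgroup G) := Fintype.ofFinite _
  have hχc : IsCharacter G (χ : G → ℂ) := h37_irr_isChar χ
  have hres := Cfsg.Agent.Lib.helper4.isCharacter_restrict (Q : Subgroup G) hχc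
  obtain ⟨l, hl⟩ := Cfsg.Agent.Lib.helper4.exists_irr_list_of_isCharacter hres
  refine ⟨l, hl, ?_, ?_⟩
  · have h1 := congrFun hl 1
    rw [h37_sum_deg l] at h1
    have h2 : (χ : G → ℂ) ((1 : (Q : Subgroup G)) : G) = (charDegree (χ : G → ℂ) : ℂ) := by
      rw [Subgroup.coe_one]; exact h37_deg_eq hχc
    rw [h2] at h1
    exact_mod_cast h1.symm
  · intro ψ
    have hd := Cfsg.Agent.Lib.helper81.irr_degree_dvd_card ψ
    obtain ⟨k, hk⟩ := (Q.isPGroup').exists_card_eq
    rw [hk] at hd
    obtain ⟨j, _, hj⟩ := (Nat.dvd_prime_pow (Fact.out : r.Prime)).mp hd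
    exact ⟨j, hj⟩

/-- ABEL1 : a nontrivial irreducible character of degree `< r` forces abelian Sylow
`r`-subgroups. -/
theorem sylow_comm_of_degree_lt {G : Type u} [Group G] [Finite G] [IsSimpleGroup G]
    (hna : ∃ x y : G, x * y ≠ y * x) (r : ℕ)
    [Fact r.Prime] (Q : Sylow r G) (χ : IrrCharacter G) (hχ : (χ : G → ℂ) ≠ fun _ => 1)
    (hdeg : charDegree (χ : G → ℂ) < r) :
    ∀ x ∈ (Q : Subgroup G), ∀ y ∈ (Q : Subgroup G), x * y = y * x := by
  classical
  have := Fintype.ofFinite G
  have hr : r.Prime := Fact.out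
  obtain ⟨l, hl, hsum, hpow⟩ := h37_restrict_sylow r Q χ
  have hlin : ∀ ψ ∈ l, (ψ : ↥(Q : Subgroup G) → ℂ) 1 = 1 := by
    intro ψ hψ
    have hle : charDegree (ψ : ↥(Q : Subgroup G) → ℂ) ≤ charDegree (χ : G → ℂ) := by
      rw [← hsum]
      exact List.single_le_sum (fun _ _ => Nat.zero_le _) _
        (List.mem_map_of_mem (f := fun ψ : IrrCharacter (Q : Subgroup G) =>
          charDegree (ψ : ↥(Q : Subgroup G) → ℂ)) hψ)
    obtain ⟨j, hj⟩ := hpow ψ
    have hj0 : j = 0 := by
      by_contra h0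
      have : r ≤ r ^ j := Nat.le_self_pow h0 r
      omega
    rw [h37_deg_eq (h37_irr_isChar ψ), hj, hj0]
    simp
  intro x hx y hy
  have h := h37_comm_of_linear l hlin ⟨x, hx⟩ ⟨y, hy⟩
  rw [← hl] at h
  have h' : (χ : G → ℂ) (x * y * x⁻¹ * y⁻¹) = (χ : G → ℂ) 1 := by
    simpa using h
  have hne : χ ≠ Cfsg.Agent.Lib.helper81.trivChar G := by
    intro h0
    apply hχ
    rw [h0]
    rfl
  have := Cfsg.Agent.Lib.helper48.BU.faithful_of_simple χ hne _ h'
  calc x * y = (x * y * x⁻¹ * y⁻¹) * (y * x) := by group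
    _ = y * x := by rw [this, one_mul]

end Cfsg.Agent.Lib.helper37.BW
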