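import Mathlib
import Cfsg.Prelude.Def_Characters
import Cfsg.Prelude.Def_Blocks
import Cfsg.Agent.Lib.helper37.BW_ABEL1
import Cfsg.Agent.Lib.helper61.BT_BURN
import Cfsg.Agent.Lib.helper69.StemExp

/-!
S4501 split project (helper17), piece ABEL2 (helper37): a nontrivial irreducible character of
degree exactly `r` of a non-abelian simple group forces abelian Sylow `r`-subgroups.
-/

set_option autoImplicit false

namespace Cfsg.Agent.Lib.helper37.BW

open Cfsg

universe u

/-- A list of positive naturals with sum zero is empty. -/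
theorem h37_nil_of_sum_zero {α : Type*} (f : α → ℕ) (hf : ∀ a, f a ≠ 0) (l : List α)
    (h : (l.map f).sum = 0) : l = [] := by
  cases l with
  | nil => rfl
  | cons a t =>
    exfalso
    simp only [List.map_cons, List.sum_cons] at h
    exact hf a (by omega)

/-- ABEL2 : a nontrivial irreducible character of degree exactly `r` forces abelian Sylow
`r`-subgroups. -/
theorem sylow_comm_of_degree_eq {G : Type u} [Group G] [Finite G] [IsSimpleGroup G]
    (hna : ∃ x y : G, x * y ≠ y * x) (r : ℕ)
    [Fact r.Prime] (Q : Sylow r G) (χ : IrrCharacter G) (hχ : (χ : G → ℂ) ≠ fun _ => 1)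
    (hdeg : charDegree (χ : G → ℂ) = r) :
    ∀ x ∈ (Q : Subgroup G), ∀ y ∈ (Q : Subgroup G), x * y = y * x := by
  classical
  have := Fintype.ofFinite G
  have hr : r.Prime := Fact.out
  have hne : χ ≠ Cfsg.Agent.Lib.helper81.trivChar G := by
    intro h0
    apply hχ
    rw [h0]
    rfl
  obtain ⟨l, hl, hsum, hpow⟩ := h37_restrict_sylow r Q χ
  have hle : ∀ ψ ∈ l, charDegree (ψ : ↥(Q : Subgroup G) → ℂ) ≤ r := by
    intro ψ hψ
    have h1 : charDegree (ψ : ↥(Q : Subgroup G) → ℂ) ≤ charDegree (χ : G → ℂ) := by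
      rw [← hsum]
      exact List.single_le_sum (fun _ _ => Nat.zero_le _) _
        (List.mem_map_of_mem (f := fun ψ : IrrCharacter (Q : Subgroup G) =>
          charDegree (ψ : ↥(Q : Subgroup G) → ℂ)) hψ)
    omega
  have hpos : ∀ ψ : IrrCharacter (Q : Subgroup G),
      charDegree (ψ : ↥(Q : Subgroup G) → ℂ) ≠ 0 := by
    intro ψ
    obtain ⟨j, hj⟩ := hpow ψ
    rw [hj]
    exact pow_ne_zero _ hr.ne_zero
  by_cases hall : ∀ ψ ∈ l, (ψ : ↥(Q : Subgroup G) → ℂ) 1 = 1
  · intro x hx y hy
    have h := h37_comm_of_linear l hall ⟨x, hx⟩ ⟨y, hy⟩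
    rw [← hl] at h
    have h' : (χ : G → ℂ) (x * y * x⁻¹ * y⁻¹) = (χ : G → ℂ) 1 := by
      simpa using h
    have := Cfsg.Agent.Lib.helper48.BU.faithful_of_simple χ hne _ h'
    calc x * y = (x * y * x⁻¹ * y⁻¹) * (y * x) := by group
      _ = y * x := by rw [this, one_mul]
  · exfalso
    simp only [not_forall] at hall
    obtain ⟨ψ, hψl, hψ1⟩ := hall
    -- the degree of ψ is r
    have hψr : charDegree (ψ : ↥(Q : Subgroup G) → ℂ) = r := by
      obtain ⟨j, hj⟩ := hpow ψ
      have h1 := hle ψ hψl
      rw [hj] at h1 ⊢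
      rcases Nat.lt_or_ge j 1 with h0 | h0
      · exfalso
        apply hψ1
        rw [h37_deg_eq (h37_irr_isChar ψ), hj]
        have : j = 0 := by omega
        rw [this]; simp
      · rcases Nat.lt_or_ge 1 j with h2 | h2
        · exfalso
          have : r ^ 2 ≤ r ^ j := Nat.pow_le_pow_right hr.pos h2
          have h3 : r < r ^ 2 := by
            have := hr.two_le
            nlinarith
          omega
        · have : j = 1 := by omega
          rw [this, pow_one]
    -- l = [ψ]
    obtain ⟨l₁, l₂, rfl⟩ := List.append_of_mem hψl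
    have hs : (l₁.map (fun ψ : IrrCharacter (Q : Subgroup G) =>
          charDegree (ψ : ↥(Q : Subgroup G) → ℂ))).sum = 0 ∧
        (l₂.map (fun ψ : IrrCharacter (Q : Subgroup G) =>
          charDegree (ψ : ↥(Q : Subgroup G) → ℂ))).sum = 0 := by
      rw [hdeg] at hsum
      simp only [List.map_append, List.map_cons, List.sum_append, List.sum_cons] at hsum
      rw [hψr] at hsum
      omega
    have hl₁ := h37_nil_of_sum_zero _ hpos l₁ hs.1
    have hl₂ := h37_nil_of_sum_zero _ hpos l₂ hs.2
    subst hl₁ hl₂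
    have hχψ : ∀ h : (Q : Subgroup G), (χ : G → ℂ) h = (ψ : ↥(Q : Subgroup G) → ℂ) h := by
      intro h
      have := congrFun hl h
      simpa using this
    -- Q is nontrivial with nontrivial centre
    have hQnt : Nontrivial (Q : Subgroup G) := by
      rw [← Finite.one_lt_card_iff_nontrivial]
      have hd := Cfsg.Agent.Lib.helper81.irr_degree_dvd_card ψ
      rw [hψr] at hd
      have := Nat.le_of_dvd Nat.card_pos hd
      have := hr.two_le
      omega
    have := hQnt
    have hZ : Nontrivial (Subgroup.center (Q : Subgroup G)) := (Q.isPGroup').center_nontrivial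
    obtain ⟨z, hz1⟩ := exists_ne (1 : Subgroup.center (Q : Subgroup G))
    have hzc : (z : (Q : Subgroup G)) ∈ Subgroup.center (Q : Subgroup G) := z.2
    have hzne : ((z : (Q : Subgroup G)) : G) ≠ 1 := by
      intro h
      apply hz1
      ext
      simpa using h
    -- χ vanishes at z
    have hcent : (Q : Subgroup G) ≤ Subgroup.centralizer ({((z : (Q : Subgroup G)) : G)} : Set G) := by
      intro q hq
      rw [Subgroup.mem_centralizer_iff]
      intro w hw
      rw [Set.mem_singleton_iff] at hw
      subst hw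
      have := Subgroup.mem_center_iff.mp hzc ⟨q, hq⟩
      have h2 := congrArg (Subtype.val) this
      simpa using h2.symm
    have hnd : ¬ r ∣ (Subgroup.centralizer ({((z : (Q : Subgroup G)) : G)} : Set G)).index := by
      intro h
      exact Q.not_dvd_index (h.trans (Subgroup.index_dvd_of_le hcent))
    have hcop : Nat.Coprime (charDegree (χ : G → ℂ))
        (Subgroup.centralizer ({((z : (Q : Subgroup G)) : G)} : Set G)).index := by
      rw [hdeg]
      exact (Nat.Prime.coprime_iff_not_dvd hr).mpr hnd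
    have hncyc : ¬ IsCyclic G := by
      intro hc
      obtain ⟨x, y, hxy⟩ := hna
      let _ := IsCyclic.commGroup (α := G)
      exact hxy (mul_comm x y)
    have hv := Cfsg.Agent.Lib.helper61.BT.burnside_vanish hncyc χ hne _ hzne hcop
    have hψz : (ψ : ↥(Q : Subgroup G) → ℂ) (z : (Q : Subgroup G)) = 0 := by
      rw [← hχψ]; exact hv
    obtain ⟨c, hc, _⟩ := Cfsg.Agent.Lib.helper69.irr_center_det ψ (z : (Q : Subgroup G)) hzc
    have hψ1' : (ψ : ↥(Q : Subgroup G) → ℂ) 1 = (r : ℂ) := by
      rw [h37_deg_eq (h37_irr_isChar ψ), hψr]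
    have hc0 : c = 0 := by
      have h1 := hc 1
      rw [one_mul, hψz, hψ1'] at h1
      have hr0 : (r : ℂ) ≠ 0 := by exact_mod_cast hr.ne_zero
      rcases mul_eq_zero.mp h1.symm with h | h
      · exact h
      · exact absurd h hr0
    have h2 := hc (z : (Q : Subgroup G))⁻¹
    rw [inv_mul_cancel, hψ1', hc0, zero_mul] at h2
    have hr0 : (r : ℂ) ≠ 0 := by exact_mod_cast hr.ne_zero
    exact hr0 h2

end Cfsg.Agent.Lib.helper37.BW
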