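import Mathlib

/-!
# Groups generated by 3-cycles (helper37)

* `c3 a b c`: the 3-cycle `a ↦ b ↦ c ↦ a`, with conjugation / rotation / inverse lemmas.
* `Full H Γ`: all 3-cycles on the finite set `Γ` lie in the subgroup `H`.
* `full_union`: a full set of at least 3 points can be enlarged by the support of any 3-cycle of
  `H` meeting it.
* `exists_max_full`: a maximal full set containing the support of a given 3-cycle; every 3-cycle
  of `H` has its support inside this set or disjoint from it.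
* `altOn Γ`: the alternating group on `Γ` inside `Perm α`.
* `fix_of_perfect_of_commute`: a perfect subgroup centralizing a 3-cycle fixes its support pointwise.
* `exists_disjoint_c3_of_sylow`: a Sylow 3-subgroup of `Perm (Fin n)` contains `n / 3` pairwise
  disjoint 3-cycles.
-/

set_option autoImplicit false

namespace Cfsg.Agent.Lib.helper37

open Equiv Equiv.Perm
open scoped Pointwise

section C3

variable {α : Type*} [DecidableEq α]

/-- the 3-cycle `a ↦ b ↦ c ↦ a` -/
def c3 (a b c : α) : Perm α := swap a b * swap b c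

theorem c3_conj (σ : Perm α) (a b c : α) :
    σ * c3 a b c * σ⁻¹ = c3 (σ a) (σ b) (σ c) := by
  unfold c3
  rw [Equiv.swap_apply_apply σ a b, Equiv.swap_apply_apply σ b c]
  group

theorem c3_inv (a b c : α) : (c3 a b c)⁻¹ = c3 c b a := by
  unfold c3
  rw [mul_inv_rev, swap_inv, swap_inv, swap_comm b c, swap_comm a b]

theorem c3_apply_left {a b c : α} (hab : a ≠ b) (hac : a ≠ c) : c3 a b c a = b := by
  unfold c3
  rw [Perm.mul_apply, swap_apply_of_ne_of_ne hab hac, swap_apply_left]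

theorem c3_apply_mid {a b c : α} (hac : a ≠ c) (hbc : b ≠ c) : c3 a b c b = c := by
  unfold c3
  rw [Perm.mul_apply, swap_apply_left, swap_apply_of_ne_of_ne hac.symm hbc.symm]

theorem c3_apply_right (a b c : α) : c3 a b c c = a := by
  unfold c3
  rw [Perm.mul_apply, swap_apply_right, swap_apply_right]

theorem c3_apply_of_ne {a b c x : α} (ha : x ≠ a) (hb : x ≠ b) (hc : x ≠ c) :
    c3 a b c x = x := by
  unfold c3
  rw [Perm.mul_apply, swap_apply_of_ne_of_ne hb hc, swap_apply_of_ne_of_ne ha hb]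

theorem c3_rot {a b c : α} (hab : a ≠ b) (hac : a ≠ c) (hbc : b ≠ c) :
    c3 a b c = c3 b c a := by
  have h := c3_conj (c3 a b c) a b c
  rw [c3_apply_left hab hac, c3_apply_mid hac hbc, c3_apply_right] at h
  rw [← h]
  group

theorem isThreeCycle_c3 [Fintype α] {a b c : α} (hab : a ≠ b) (hac : a ≠ c) (hbc : b ≠ c) :
    IsThreeCycle (c3 a b c) := by
  unfold c3
  rw [swap_comm a b]
  exact isThreeCycle_swap_mul_swap_same hab.symm hbc hac

theorem exists_c3_of_isThreeCycle [Fintype α] {g : Perm α} (hg : g.IsThreeCycle) :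
    ∃ a b c : α, a ≠ b ∧ a ≠ c ∧ b ≠ c ∧ g = c3 a b c := by
  have hne : g.support.Nonempty := by
    rw [← Finset.card_pos, hg.card_support]
    norm_num
  obtain ⟨a, ha⟩ := hne
  have h1 := hg.nodup_iff_mem_support.mpr ha
  have h2 := hg.eq_swap_mul_swap_iff_mem_support.mpr ha
  simp only [List.nodup_cons, List.mem_cons, List.not_mem_nil, or_false, not_or,
    List.nodup_nil, and_true, not_false_eq_true] at h1
  exact ⟨a, g a, g (g a), h1.1.1, h1.1.2, h1.2, h2⟩

/-- all 3-cycles on `Γ` lie in `H` -/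
def Full (H : Subgroup (Perm α)) (Γ : Finset α) : Prop :=
  ∀ a b c, a ∈ Γ → b ∈ Γ → c ∈ Γ → a ≠ b → a ≠ c → b ≠ c → c3 a b c ∈ H

theorem full_insert {H : Subgroup (Perm α)} {Γ : Finset α} (hF : Full H Γ)
    {a b x : α} (ha : a ∈ Γ) (hb : b ∈ Γ) (hx : x ∉ Γ) (hab : a ≠ b) (ht : c3 a b x ∈ H) :
    Full H (insert x Γ) := by
  have hxne : ∀ p ∈ Γ, x ≠ p := fun p hp h => hx (h ▸ hp)
  have key1 : ∀ p q r, p ∈ Γ → q ∈ Γ → r ∈ Γ → p ≠ q → p ≠ r → q ≠ r →
      c3 p q x ∈ H → c3 q r x ∈ H := by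
    intro p q r hp hq hr hpq hpr hqr h
    have hσ : c3 p q r ∈ H := hF p q r hp hq hr hpq hpr hqr
    have h1 := H.mul_mem (H.mul_mem hσ h) (H.inv_mem hσ)
    rw [c3_conj, c3_apply_left hpq hpr, c3_apply_mid hpr hqr,
      c3_apply_of_ne (hxne p hp) (hxne q hq) (hxne r hr)] at h1
    exact h1
  have key2 : ∀ p q r, p ∈ Γ → q ∈ Γ → r ∈ Γ → p ≠ q → p ≠ r → q ≠ r →
      c3 p q x ∈ H → c3 r p x ∈ H := by
    intro p q r hp hq hr hpq hpr hqr h
    have hσ : c3 r q p ∈ H := hF r q p hr hq hp hqr.symm hpr.symm hpq.symm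
    have h1 := H.mul_mem (H.mul_mem hσ h) (H.inv_mem hσ)
    rw [c3_conj, c3_apply_right, c3_apply_mid hpr.symm hpq.symm,
      c3_apply_of_ne (hxne r hr) (hxne q hq) (hxne p hp)] at h1
    exact h1
  have keyinv : ∀ p q, p ∈ Γ → q ∈ Γ → p ≠ q → c3 p q x ∈ H → c3 q p x ∈ H := by
    intro p q hp hq hpq h
    have h1 := H.inv_mem h
    rw [c3_inv, c3_rot (hxne q hq) (hxne p hp) hpq.symm] at h1
    exact h1
  have cl1 : ∀ p q r, p ∈ Γ → q ∈ Γ → r ∈ Γ → p ≠ q → p ≠ r → q ≠ r →
      c3 p q x ∈ H → c3 p r x ∈ H :=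
    fun p q r hp hq hr hpq hpr hqr h =>
      keyinv r p hr hp hpr.symm (key2 p q r hp hq hr hpq hpr hqr h)
  have cl2 : ∀ p q r, p ∈ Γ → q ∈ Γ → r ∈ Γ → p ≠ q → p ≠ r → q ≠ r →
      c3 p q x ∈ H → c3 r q x ∈ H :=
    fun p q r hp hq hr hpq hpr hqr h =>
      keyinv q r hq hr hqr (key1 p q r hp hq hr hpq hpr hqr h)
  have ha_all : ∀ r ∈ Γ, a ≠ r → c3 a r x ∈ H := by
    intro r hr har
    by_cases hrb : r = b
    · rw [hrb]; exact ht
    · exact cl1 a b r ha hb hr hab har (Ne.symm hrb) ht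
  have all : ∀ s r, s ∈ Γ → r ∈ Γ → s ≠ r → c3 s r x ∈ H := by
    intro s r hs hr hsr
    by_cases hsa : s = a
    · rw [hsa]; exact ha_all r hr (hsa ▸ hsr)
    · by_cases hra : r = a
      · rw [hra]
        exact keyinv a s ha hs (Ne.symm hsa) (ha_all s hs (Ne.symm hsa))
      · exact cl2 a r s ha hr hs (Ne.symm hra) (Ne.symm hsa) (Ne.symm hsr)
          (ha_all r hr (Ne.symm hra))
  intro u v w hu hv hw huv huw hvw
  rw [Finset.mem_insert] at hu hv hw
  rcases hu with hu | hu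
  · have hv' : v ∈ Γ := hv.resolve_left (fun h => huv (hu.trans h.symm))
    have hw' : w ∈ Γ := hw.resolve_left (fun h => huw (hu.trans h.symm))
    rw [c3_rot huv huw hvw, hu]
    exact all v w hv' hw' hvw
  · rcases hv with hv | hv
    · have hw' : w ∈ Γ := hw.resolve_left (fun h => hvw (hv.trans h.symm))
      rw [c3_rot huv huw hvw, c3_rot hvw huv.symm huw.symm, hv]
      exact all w u hw' hu huw.symm
    · rcases hw with hw | hw
      · rw [hw]; exact all u v hu hv huv
      · exact hF u v w hu hv hw huv huw hvw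

theorem full_union_of_left {H : Subgroup (Perm α)} {Γ : Finset α} (hF : Full H Γ)
    (h3 : 3 ≤ Γ.card) {a b c : α} (hab : a ≠ b) (hac : a ≠ c) (hbc : b ≠ c)
    (ht : c3 a b c ∈ H) (ha : a ∈ Γ) : Full H (insert b (insert c Γ)) := by
  by_cases hb : b ∈ Γ
  · by_cases hc : c ∈ Γ
    · rw [Finset.insert_eq_of_mem hc, Finset.insert_eq_of_mem hb]; exact hF
    · rw [Finset.insert_eq_of_mem (Finset.mem_insert_of_mem hb)]
      exact full_insert hF ha hb hc hab ht
  · by_cases hc : c ∈ Γ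
    · rw [Finset.insert_eq_of_mem hc]
      have ht' : c3 c a b ∈ H := by
        rw [← c3_rot hbc hab.symm hac.symm, ← c3_rot hab hac hbc]; exact ht
      exact full_insert hF hc ha hb hac.symm ht'
    · obtain ⟨u, hu, hua⟩ : ∃ u ∈ Γ, u ≠ a := Finset.exists_mem_ne (by omega) a
      obtain ⟨v, hv, hvu⟩ : ∃ v ∈ Γ.erase a, v ≠ u :=
        Finset.exists_mem_ne (by rw [Finset.card_erase_of_mem ha]; omega) u
      rw [Finset.mem_erase] at hv
      obtain ⟨hva, hv⟩ := hv
      have hub : u ≠ b := fun h => hb (h ▸ hu)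
      have huc : u ≠ c := fun h => hc (h ▸ hu)
      have hvb : v ≠ b := fun h => hb (h ▸ hv)
      have hvc : v ≠ c := fun h => hc (h ▸ hv)
      have hs : c3 a u v ∈ H := hF a u v ha hu hv hua.symm hva.symm hvu.symm
      have h1 := H.mul_mem (H.mul_mem ht hs) (H.inv_mem ht)
      rw [c3_conj, c3_apply_left hab hac, c3_apply_of_ne hua hub huc,
        c3_apply_of_ne hva hvb hvc] at h1
      rw [c3_rot hub.symm hvb.symm hvu.symm] at h1
      have hF1 : Full H (insert b Γ) := full_insert hF hu hv hb hvu.symm h1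
      have hc' : c ∉ insert b Γ := by
        rw [Finset.mem_insert]; rintro (h | h)
        · exact hbc h.symm
        · exact hc h
      have hF2 : Full H (insert c (insert b Γ)) :=
        full_insert hF1 (Finset.mem_insert_of_mem ha) (Finset.mem_insert_self b Γ) hc' hab ht
      rw [Finset.insert_comm]; exact hF2

theorem full_union {H : Subgroup (Perm α)} {Γ : Finset α} (hF : Full H Γ)
    (h3 : 3 ≤ Γ.card) {a b c : α} (hab : a ≠ b) (hac : a ≠ c) (hbc : b ≠ c)
    (ht : c3 a b c ∈ H) (hmeet : a ∈ Γ ∨ b ∈ Γ ∨ c ∈ Γ) : Full H (Γ ∪ {a, b, c}) := by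
  rcases hmeet with ha | hb | hc
  · have h := full_union_of_left hF h3 hab hac hbc ht ha
    have he : Γ ∪ {a, b, c} = insert b (insert c Γ) := by
      ext y
      simp only [Finset.mem_union, Finset.mem_insert, Finset.mem_singleton]
      constructor
      · rintro (h | rfl | rfl | rfl) <;> simp_all
      · rintro (rfl | rfl | h) <;> simp_all
    rw [he]; exact h
  · have ht' : c3 b c a ∈ H := by rw [← c3_rot hab hac hbc]; exact ht
    have h := full_union_of_left hF h3 hbc hab.symm hac.symm ht' hb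
    have he : Γ ∪ {a, b, c} = insert c (insert a Γ) := by
      ext y
      simp only [Finset.mem_union, Finset.mem_insert, Finset.mem_singleton]
      constructor
      · rintro (h | rfl | rfl | rfl) <;> simp_all
      · rintro (rfl | rfl | h) <;> simp_all
    rw [he]; exact h
  · have ht' : c3 c a b ∈ H := by
      rw [← c3_rot hbc hab.symm hac.symm, ← c3_rot hab hac hbc]; exact ht
    have h := full_union_of_left hF h3 hac.symm hbc.symm hab ht' hc
    have he : Γ ∪ {a, b, c} = insert a (insert b Γ) := by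
      ext y
      simp only [Finset.mem_union, Finset.mem_insert, Finset.mem_singleton]
      constructor
      · rintro (h | rfl | rfl | rfl) <;> simp_all
      · rintro (rfl | rfl | h) <;> simp_all
    rw [he]; exact h

theorem full_triple {H : Subgroup (Perm α)} {a b c : α} (hab : a ≠ b) (hac : a ≠ c)
    (hbc : b ≠ c) (ht : c3 a b c ∈ H) : Full H {a, b, c} := by
  have hinv : c3 c b a ∈ H := by rw [← c3_inv]; exact H.inv_mem ht
  have h1 : c3 b c a ∈ H := by rw [← c3_rot hab hac hbc]; exact ht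
  have h2 : c3 c a b ∈ H := by rw [← c3_rot hbc hab.symm hac.symm]; exact h1
  have h3 : c3 b a c ∈ H := by rw [← c3_rot hbc.symm hac.symm hab.symm]; exact hinv
  have h4 : c3 a c b ∈ H := by rw [← c3_rot hab.symm hbc hac]; exact h3
  intro u v w hu hv hw huv huw hvw
  simp only [Finset.mem_insert, Finset.mem_singleton] at hu hv hw
  rcases hu with rfl | rfl | rfl <;> rcases hv with rfl | rfl | rfl <;>
    rcases hw with rfl | rfl | rfl <;>
    first | exact absurd rfl huv | exact absurd rfl huw | exact absurd rfl hvw | assumption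

theorem exists_max_full [Fintype α] {H : Subgroup (Perm α)} {a b c : α}
    (hab : a ≠ b) (hac : a ≠ c) (hbc : b ≠ c) (ht : c3 a b c ∈ H) :
    ∃ Γ : Finset α, Full H Γ ∧ a ∈ Γ ∧ b ∈ Γ ∧ c ∈ Γ ∧
      ∀ a' b' c' : α, a' ≠ b' → a' ≠ c' → b' ≠ c' → c3 a' b' c' ∈ H →
        (a' ∈ Γ ∧ b' ∈ Γ ∧ c' ∈ Γ) ∨ (a' ∉ Γ ∧ b' ∉ Γ ∧ c' ∉ Γ) := by
  classical
  have hbase : Full H {a, b, c} := full_triple hab hac hbc ht
  let S : Finset (Finset α) :=
    Finset.univ.filter (fun Γ => Full H Γ ∧ a ∈ Γ ∧ b ∈ Γ ∧ c ∈ Γ)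
  have hS : S.Nonempty := ⟨{a, b, c}, by simp [S, hbase]⟩
  obtain ⟨Γ, hΓ, hmax⟩ := Finset.exists_max_image S Finset.card hS
  have hΓ' : Full H Γ ∧ a ∈ Γ ∧ b ∈ Γ ∧ c ∈ Γ := by
    simpa [S] using hΓ
  obtain ⟨hF, ha, hb, hc⟩ := hΓ'
  have h3 : 3 ≤ Γ.card := by
    have hsub : ({a, b, c} : Finset α) ⊆ Γ := by
      intro y hy
      simp only [Finset.mem_insert, Finset.mem_singleton] at hy
      rcases hy with rfl | rfl | rfl <;> assumption
    have hc3 : ({a, b, c} : Finset α).card = 3 := by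
      rw [Finset.card_insert_of_notMem (by simp [hab, hac]), Finset.card_pair hbc]
    calc 3 = ({a, b, c} : Finset α).card := hc3.symm
      _ ≤ Γ.card := Finset.card_le_card hsub
  refine ⟨Γ, hF, ha, hb, hc, ?_⟩
  intro a' b' c' hab' hac' hbc' ht'
  by_cases hmeet : a' ∈ Γ ∨ b' ∈ Γ ∨ c' ∈ Γ
  · left
    have hF' := full_union hF h3 hab' hac' hbc' ht' hmeet
    have hmem : Γ ∪ {a', b', c'} ∈ S := by
      simp only [S, Finset.mem_filter, Finset.mem_univ, true_and]
      exact ⟨hF', Finset.mem_union_left _ ha, Finset.mem_union_left _ hb,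
        Finset.mem_union_left _ hc⟩
    have hle := hmax _ hmem
    have heq := Finset.eq_of_subset_of_card_le (Finset.subset_union_left (s₂ := {a', b', c'})) hle
    have hsub : ∀ y ∈ ({a', b', c'} : Finset α), y ∈ Γ := by
      intro y hy
      have : y ∈ Γ ∪ {a', b', c'} := Finset.mem_union_right _ hy
      rwa [← heq] at this
    exact ⟨hsub a' (by simp), hsub b' (by simp), hsub c' (by simp)⟩
  · right
    exact ⟨fun h => hmeet (Or.inl h), fun h => hmeet (Or.inr (Or.inl h)),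
      fun h => hmeet (Or.inr (Or.inr h))⟩

/-! ### the alternating group on a finite subset -/

/-- the alternating group on `Γ`, inside `Perm α` -/
def altOn [Fintype α] (Γ : Finset α) : Subgroup (Perm α) :=
  (alternatingGroup {x // x ∈ Γ}).map (ofSubtype : Perm {x // x ∈ Γ} →* Perm α)

theorem ofSubtype_c3 (Γ : Finset α) (a b c : {x // x ∈ Γ}) :
    (ofSubtype (c3 a b c) : Perm α) = c3 (a : α) b c := by
  unfold c3
  rw [map_mul, ofSubtype_swap_eq, ofSubtype_swap_eq]

theorem altOn_le_of_full [Fintype α] {H : Subgroup (Perm α)} {Γ : Finset α} (hF : Full H Γ) :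
    altOn Γ ≤ H := by
  unfold altOn
  rw [← closure_three_cycles_eq_alternating, MonoidHom.map_closure, Subgroup.closure_le]
  rintro _ ⟨σ, hσ, rfl⟩
  obtain ⟨a, b, c, hab, hac, hbc, rfl⟩ := exists_c3_of_isThreeCycle hσ
  rw [SetLike.mem_coe, ofSubtype_c3]
  exact hF a b c a.2 b.2 c.2 (fun h => hab (Subtype.ext h)) (fun h => hac (Subtype.ext h))
    (fun h => hbc (Subtype.ext h))

theorem c3_mem_altOn [Fintype α] {Γ : Finset α} {a b c : α} (ha : a ∈ Γ) (hb : b ∈ Γ)
    (hc : c ∈ Γ) (hab : a ≠ b) (hac : a ≠ c) (hbc : b ≠ c) : c3 a b c ∈ altOn Γ := by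
  refine ⟨c3 ⟨a, ha⟩ ⟨b, hb⟩ ⟨c, hc⟩, ?_, ofSubtype_c3 Γ _ _ _⟩
  have h3 : IsThreeCycle (c3 (⟨a, ha⟩ : {x // x ∈ Γ}) ⟨b, hb⟩ ⟨c, hc⟩) :=
    isThreeCycle_c3 (fun h => hab (congrArg Subtype.val h)) (fun h => hac (congrArg Subtype.val h))
      (fun h => hbc (congrArg Subtype.val h))
  exact h3.mem_alternatingGroup

theorem altOn_commute [Fintype α] {Γ : Finset α} {a b c : α} (ha : a ∉ Γ) (hb : b ∉ Γ)
    (hc : c ∉ Γ) : ∀ x ∈ altOn Γ, x * c3 a b c = c3 a b c * x := by
  rintro _ ⟨σ, -, rfl⟩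
  have hd : Perm.Disjoint (ofSubtype σ : Perm α) (c3 a b c) := by
    intro x
    by_cases hx : x ∈ Γ
    · right
      exact c3_apply_of_ne (fun h => ha (h ▸ hx)) (fun h => hb (h ▸ hx)) (fun h => hc (h ▸ hx))
    · left
      exact ofSubtype_apply_of_not_mem σ hx
  exact hd.commute.eq

/-- `altOn Γ` is isomorphic to the alternating group of degree `|Γ|`. -/
noncomputable def altOnEquiv [Fintype α] (Γ : Finset α) :
    altOn Γ ≃* alternatingGroup (Fin Γ.card) :=
  ((alternatingGroup {x // x ∈ Γ}).equivMapOfInjective _ ofSubtype_injective).symm.trans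
    (Equiv.altCongrHom (Γ.equivFin))

/-! ### perfect groups centralizing a 3-cycle -/

theorem fix_of_perfect_of_commute {E : Subgroup (Perm α)} (hE : ⁅E, E⁆ = E) {a b c : α}
    (hab : a ≠ b) (hac : a ≠ c) (hbc : b ≠ c)
    (hcomm : ∀ e ∈ E, e * c3 a b c = c3 a b c * e) : ∀ e ∈ E, e a = a := by
  obtain ⟨d, hd⟩ : ∃ d : Perm α, d = c3 a b c := ⟨_, rfl⟩
  rw [← hd] at hcomm
  have hda : d a = b := by rw [hd]; exact c3_apply_left hab hac
  have hdb : d b = c := by rw [hd]; exact c3_apply_mid hac hbc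
  have hdc : d c = a := by rw [hd]; exact c3_apply_right a b c
  have hB : ∀ x, d x ≠ x → x = a ∨ x = b ∨ x = c := by
    intro x hx
    by_contra h
    apply hx
    rw [hd]
    exact c3_apply_of_ne (fun h' => h (Or.inl h')) (fun h' => h (Or.inr (Or.inl h')))
      (fun h' => h (Or.inr (Or.inr h')))
  have hmoves : ∀ x, (x = a ∨ x = b ∨ x = c) → d x ≠ x := by
    rintro x (rfl | rfl | rfl)
    · rw [hda]; exact hab.symm
    · rw [hdb]; exact hbc.symm
    · rw [hdc]; exact hac
  have happ : ∀ g : Perm α, g * d = d * g → ∀ x, g (d x) = d (g x) := by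
    intro g hg x
    exact congrArg (fun f : Perm α => f x) hg
  have hpres : ∀ g : Perm α, g * d = d * g → ∀ x, (x = a ∨ x = b ∨ x = c) →
      (g x = a ∨ g x = b ∨ g x = c) := by
    intro g hg x hx
    apply hB
    rw [← happ g hg x]
    exact fun h => hmoves x hx (g.injective h)
  have hdi : ∀ (i : ℕ) (x : α), (d ^ i) (d x) = d ((d ^ i) x) := by
    intro i x
    rw [← Perm.mul_apply, ← Perm.mul_apply, ← pow_succ, ← pow_succ']
  have hpow : ∀ g : Perm α, g * d = d * g →
      ∃ i : ℕ, ∀ y, (y = a ∨ y = b ∨ y = c) → g y = (d ^ i) y := by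
    intro g hg
    have main : ∀ i : ℕ, g a = (d ^ i) a →
        ∀ y, (y = a ∨ y = b ∨ y = c) → g y = (d ^ i) y := by
      intro i hi
      have hb' : g b = (d ^ i) b := by
        rw [← hda, happ g hg, hi, hdi]
      have hc' : g c = (d ^ i) c := by
        rw [← hdb, happ g hg, hb', hdi]
      rintro y (rfl | rfl | rfl)
      · exact hi
      · exact hb'
      · exact hc'
    rcases hpres g hg a (Or.inl rfl) with h | h | h
    · exact ⟨0, main 0 (by rw [pow_zero]; exact h)⟩
    · exact ⟨1, main 1 (by rw [pow_one, hda]; exact h)⟩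
    · exact ⟨2, main 2 (by rw [pow_two, Perm.mul_apply, hda, hdb]; exact h)⟩
  have hcommB : ∀ g h : Perm α, g * d = d * g → h * d = d * h →
      ∀ x, (x = a ∨ x = b ∨ x = c) → g (h x) = h (g x) := by
    intro g h hg hh x hx
    obtain ⟨i, hi⟩ := hpow g hg
    obtain ⟨j, hj⟩ := hpow h hh
    have hgdj : ∀ y, g ((d ^ j) y) = (d ^ j) (g y) := by
      intro y
      have h1 : g * d ^ j = d ^ j * g := (Commute.pow_right hg j)
      exact congrArg (fun f : Perm α => f y) h1
    have hhdi : ∀ y, h ((d ^ i) y) = (d ^ i) (h y) := by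
      intro y
      have h1 : h * d ^ i = d ^ i * h := (Commute.pow_right hh i)
      exact congrArg (fun f : Perm α => f y) h1
    rw [hj x hx, hgdj, hi x hx, hhdi, hj x hx, ← Perm.mul_apply, ← Perm.mul_apply,
      pow_mul_comm]
  have hinv : ∀ g : Perm α, g * d = d * g → g⁻¹ * d = d * g⁻¹ := by
    intro g hg
    calc g⁻¹ * d = g⁻¹ * (d * g) * g⁻¹ := by group
      _ = g⁻¹ * (g * d) * g⁻¹ := by rw [hg]
      _ = d * g⁻¹ := by group
  have hK : ⁅E, E⁆ ≤ MulAction.stabilizer (Perm α) a := by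
    rw [Subgroup.commutator_le]
    intro g hg h hh
    rw [MulAction.mem_stabilizer_iff, Perm.smul_def, commutatorElement_def]
    have hgc := hcomm g hg
    have hhc := hcomm h hh
    have hz : g⁻¹ (h⁻¹ a) = a ∨ g⁻¹ (h⁻¹ a) = b ∨ g⁻¹ (h⁻¹ a) = c :=
      hpres g⁻¹ (hinv g hgc) _ (hpres h⁻¹ (hinv h hhc) a (Or.inl rfl))
    simp only [Perm.mul_apply]
    rw [hcommB g h hgc hhc _ hz]
    simp
  intro e he
  have h1 : e ∈ MulAction.stabilizer (Perm α) a := hK (hE.symm ▸ he)
  rwa [MulAction.mem_stabilizer_iff, Perm.smul_def] at h1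

end C3

/-! ### disjoint 3-cycles in a Sylow 3-subgroup of the symmetric group -/

theorem exists_disjoint_c3_of_sylow (n : ℕ) (P : Sylow 3 (Perm (Fin n))) :
    ∃ f : Fin (n / 3) → Fin 3 → Fin n,
      Function.Injective (fun p : Fin (n / 3) × Fin 3 => f p.1 p.2) ∧
      ∀ i, c3 (f i 0) (f i 1) (f i 2) ∈ (P : Subgroup (Perm (Fin n))) := by
  let f₀ : Fin (n / 3) → Fin 3 → Fin n := fun i j =>
    ⟨3 * i.val + j.val, by have := i.isLt; have := j.isLt; omega⟩
  have hf₀ : Function.Injective (fun p : Fin (n / 3) × Fin 3 => f₀ p.1 p.2) := by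
    rintro ⟨i, j⟩ ⟨i', j'⟩ h
    have h' : 3 * i.val + j.val = 3 * i'.val + j'.val := congrArg Fin.val h
    have := j.isLt
    have := j'.isLt
    have h1 : i.val = i'.val := by omega
    have h2 : j.val = j'.val := by omega
    exact Prod.ext (Fin.ext h1) (Fin.ext h2)
  have hne : ∀ i (j j' : Fin 3), j ≠ j' → f₀ i j ≠ f₀ i j' := by
    intro i j j' hj h
    exact hj (congrArg Prod.snd (@hf₀ (i, j) (i, j') h))
  let d₀ : Fin (n / 3) → Perm (Fin n) := fun i => c3 (f₀ i 0) (f₀ i 1) (f₀ i 2)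
  have hdisj : ∀ i i', i ≠ i' → Perm.Disjoint (d₀ i) (d₀ i') := by
    intro i i' hii x
    by_cases hx : x = f₀ i 0 ∨ x = f₀ i 1 ∨ x = f₀ i 2
    · right
      have key : ∀ j, x ≠ f₀ i' j := by
        intro j hxj
        rcases hx with h | h | h
        · exact hii (congrArg Prod.fst (@hf₀ (i, 0) (i', j) (h.symm.trans hxj)))
        · exact hii (congrArg Prod.fst (@hf₀ (i, 1) (i', j) (h.symm.trans hxj)))
        · exact hii (congrArg Prod.fst (@hf₀ (i, 2) (i', j) (h.symm.trans hxj)))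
      exact c3_apply_of_ne (key 0) (key 1) (key 2)
    · left
      exact c3_apply_of_ne (fun h => hx (Or.inl h)) (fun h => hx (Or.inr (Or.inl h)))
        (fun h => hx (Or.inr (Or.inr h)))
  have hcommute : ∀ i i', d₀ i * d₀ i' = d₀ i' * d₀ i := by
    intro i i'
    by_cases hii : i = i'
    · rw [hii]
    · exact (hdisj i i' hii).commute.eq
  have hcube : ∀ i, d₀ i ^ 3 = 1 := by
    intro i
    have h3 : IsThreeCycle (d₀ i) :=
      isThreeCycle_c3 (hne i 0 1 (by decide)) (hne i 0 2 (by decide)) (hne i 1 2 (by decide))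
    rw [← h3.orderOf]
    exact pow_orderOf_eq_one _
  let Q : Subgroup (Perm (Fin n)) := Subgroup.closure (Set.range d₀)
  have hQc : ∀ g ∈ Q, ∀ h ∈ Q, g * h = h * g := by
    intro g hg h hh
    have hcomm : ∀ x ∈ Set.range d₀, ∀ y ∈ Set.range d₀, x * y = y * x := by
      rintro _ ⟨i, rfl⟩ _ ⟨i', rfl⟩
      exact hcommute i i'
    have hmc := Subgroup.isMulCommutative_closure hcomm
    have := hmc.is_comm.comm (⟨g, hg⟩ : Subgroup.closure (Set.range d₀)) ⟨h, hh⟩
    exact congrArg Subtype.val this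
  have hQ3 : ∀ g ∈ Q, g ^ 3 = 1 := by
    intro g hg
    induction hg using Subgroup.closure_induction with
    | mem x hx =>
      obtain ⟨i, rfl⟩ := hx
      exact hcube i
    | one => exact one_pow 3
    | mul x y hx hy ihx ihy =>
      have hc : Commute x y := hQc x hx y hy
      rw [hc.mul_pow, ihx, ihy, one_mul]
    | inv x hx ih => rw [inv_pow, ih, inv_one]
  have hQ : IsPGroup 3 Q := by
    intro g
    refine ⟨1, ?_⟩
    apply Subtype.ext
    rw [pow_one, Subgroup.coe_pow]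
    exact hQ3 g.1 g.2
  obtain ⟨P', hP'⟩ := hQ.exists_le_sylow
  obtain ⟨g, hg⟩ := MulAction.exists_smul_eq (Perm (Fin n)) P' P
  refine ⟨fun i j => g (f₀ i j), fun p q h => hf₀ (g.injective h), ?_⟩
  intro i
  have h1 : d₀ i ∈ (P' : Subgroup (Perm (Fin n))) := hP' (Subgroup.subset_closure ⟨i, rfl⟩)
  have h2 : g * d₀ i * g⁻¹ ∈ (P : Subgroup (Perm (Fin n))) := by
    have h3 : MulAut.conj g • d₀ i ∈ MulAut.conj g • (P' : Subgroup (Perm (Fin n))) :=
      Subgroup.smul_mem_pointwise_smul _ _ _ h1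
    rw [← Sylow.coe_subgroup_smul, hg] at h3
    exact h3
  rw [c3_conj] at h2
  exact h2

end Cfsg.Agent.Lib.helper37
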