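import Mathlib

/-!
# S1238 (fusion-simple groups of 2-rank 2): the configuration of Case II

`Cfg S T z u y s`: `S` a 2-subgroup (a Sylow 2-subgroup in the application), `z` a central involution
of `S`, `W = {1, z, u, z * u}` a four-subgroup of `S`, `T = C_S(W) = C_S(u)`, `y` an element of the
ambient group normalizing `T` and permuting `z → u → z * u → z`, and `s ∈ S` with `s u s⁻¹ = z * u`.
Only a definition and its immediate consequences.
-/

set_option autoImplicit false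

namespace Cfsg.Agent.Lib.helper37.S1238

structure Cfg {G : Type*} [Group G] (S T : Subgroup G) (z u y s : G) : Prop where
  TS : T ≤ S
  zT : z ∈ T
  uT : u ∈ T
  zz : z * z = 1
  uu : u * u = 1
  z1 : z ≠ 1
  u1 : u ≠ 1
  uz : u ≠ z
  zc : ∀ g ∈ S, g * z = z * g
  uc : ∀ t ∈ T, t * u = u * t
  cent : ∀ g ∈ S, g * u = u * g → g ∈ T
  yT : ∀ t : G, y * t * y⁻¹ ∈ T ↔ t ∈ T
  yz : y * z * y⁻¹ = u
  yu : y * u * y⁻¹ = z * u
  sS : s ∈ S
  su : s * u * s⁻¹ = z * u

namespace Cfg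

variable {G : Type*} [Group G] {S T : Subgroup G} {z u y s : G}

theorem zS (h : Cfg S T z u y s) : z ∈ S := h.TS h.zT

theorem uS (h : Cfg S T z u y s) : u ∈ S := h.TS h.uT

theorem zu_comm (h : Cfg S T z u y s) : z * u = u * z := (h.zc u h.uS).symm

theorem z_inv (h : Cfg S T z u y s) : z⁻¹ = z := inv_eq_of_mul_eq_one_right h.zz

theorem u_inv (h : Cfg S T z u y s) : u⁻¹ = u := inv_eq_of_mul_eq_one_right h.uu

/-- `s z s⁻¹ = z`. -/
theorem sz (h : Cfg S T z u y s) : s * z * s⁻¹ = z := by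
  rw [h.zc s h.sS, mul_assoc, mul_inv_cancel, mul_one]

/-- `s (z u) s⁻¹ = u`. -/
theorem szu (h : Cfg S T z u y s) : s * (z * u) * s⁻¹ = u := by
  have e : s * (z * u) * s⁻¹ = (s * z * s⁻¹) * (s * u * s⁻¹) := by group
  rw [e, h.sz, h.su, ← mul_assoc, h.zz, one_mul]

/-- `s ∉ T`. -/
theorem s_not_mem (h : Cfg S T z u y s) : s ∉ T := by
  intro hs
  have h1 := h.uc s hs
  have h2 : s * u * s⁻¹ = u := by rw [h1, mul_assoc, mul_inv_cancel, mul_one]
  rw [h.su] at h2
  have h3 : z = 1 := by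
    have := congrArg (· * u⁻¹) h2
    simpa using this
  exact h.z1 h3

/-- `y (z u) y⁻¹ = z`. -/
theorem yzu (h : Cfg S T z u y s) : y * (z * u) * y⁻¹ = z := by
  have e : y * (z * u) * y⁻¹ = (y * z * y⁻¹) * (y * u * y⁻¹) := by group
  rw [e, h.yz, h.yu, h.zu_comm, ← mul_assoc, h.uu, one_mul]

end Cfg

end Cfsg.Agent.Lib.helper37.S1238
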