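import Mathlib
import Cfsg.Agent.Lib.helper26.Suz64b

set_option autoImplicit false

namespace Cfsg.Agent.Lib.helper37.S1238

open Cfsg.Agent.Lib.helper26

/-- PIECE E2a. A `Hyp64` group has no `a, b` with `a² = b² = (ab)² ≠ 1` (no quaternion subgroup). -/
theorem hyp64_no_quat {T : Type*} [Group T] [Finite T] {ρ : MulAut T} (H : S64.Hyp64 ρ)
    (hinv : ∀ g : T, g * g = 1 → g ∈ Subgroup.center T)
    (a b : T) (hb : b * b = a * a) (hab : (a * b) * (a * b) = a * a) (ha : a * a ≠ 1) : False := by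
  have hρ : Fpf3.Hyp ρ := H.hyp
  set c := a * a with hc
  have hcZ : c ∈ Subgroup.center T := S64.sq_mem_center H a
  have hcc : c * c = 1 := S64.center_sq H hcZ
  -- cm a b = c
  have h1 : S64.cm a b = c := by
    have h := S64.mul_sq H a b
    rw [hab, hb, ← hc, hcc, one_mul] at h
    exact h.symm
  -- cm a (ρ b) = ρ (ρ c)
  have h2 : S64.cm a (ρ b) = ρ (ρ c) := by rw [S64.cm_rho_right H a b, h1]
  -- e := a * ρ b has square 1
  have h3 : (a * ρ b) * (a * ρ b) = 1 := by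
    have h := S64.mul_sq H a (ρ b)
    rw [h, h2, ← map_mul, hb, ← hc]
    have h4 := Fpf3.prod3 hρ c
    exact h4
  have h5 : a * ρ b ∈ Subgroup.center T := hinv _ h3
  -- then a * a = ρ c
  have h6 : c = ρ c := by
    have hcomm := Subgroup.mem_center_iff.mp h5
    have e1 : a = (a * ρ b) * (ρ b)⁻¹ := by group
    have e2 : c = (a * ρ b) * (a * ρ b) * ((ρ b)⁻¹ * (ρ b)⁻¹) := by
      rw [hc]
      conv_lhs => rw [e1]
      have := hcomm (ρ b)⁻¹
      calc (a * ρ b) * (ρ b)⁻¹ * ((a * ρ b) * (ρ b)⁻¹)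
          = (a * ρ b) * ((ρ b)⁻¹ * (a * ρ b)) * (ρ b)⁻¹ := by group
        _ = (a * ρ b) * ((a * ρ b) * (ρ b)⁻¹) * (ρ b)⁻¹ := by rw [this]
        _ = (a * ρ b) * (a * ρ b) * ((ρ b)⁻¹ * (ρ b)⁻¹) := by group
    rw [h3, one_mul, ← mul_inv_rev, ← map_mul, hb] at e2
    have h7 : ρ c * ρ c = 1 := by rw [← map_mul, hcc, map_one]
    have h8 : (ρ c)⁻¹ = ρ c := inv_eq_of_mul_eq_one_right h7
    rw [h8] at e2
    exact e2
  exact ha (hρ.fp c h6.symm)

end Cfsg.Agent.Lib.helper37.S1238
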