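import Mathlib
import Cfsg.Prelude.Def_Solvable

set_option autoImplicit false

namespace Cfsg.Agent.Lib.helper37.S3390

/-- Configuration of case (3): `T = S ∩ G_α` has index 2 in the 2-group `S`, its fixed points are
exactly `α` and `n • α`, and every other point has trivial stabilizer in `S`. -/
structure Cfg (G : Type*) [Group G] (Ω : Type*) [MulAction G Ω] (S : Subgroup G) (α : Ω) (n : G) :
    Prop where
  h3 : ∀ g : G, ∀ a b c : Ω, a ≠ b → a ≠ c → b ≠ c → g • a = a → g • b = b → g • c = c → g = 1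
  hT1 : S ⊓ MulAction.stabilizer G α ≠ ⊥
  hnS : n ∈ S
  hnα : n • α ≠ α
  hnT : ∀ t ∈ S ⊓ MulAction.stabilizer G α, n * t * n⁻¹ ∈ S ⊓ MulAction.stabilizer G α
  hfixT : ∀ ω : Ω, (∀ t ∈ S ⊓ MulAction.stabilizer G α, t • ω = ω) → ω = α ∨ ω = n • α
  hTn : ∀ t ∈ S ⊓ MulAction.stabilizer G α, t • (n • α) = n • α
  hidx : (S ⊓ MulAction.stabilizer G α).relIndex S = 2
  hreg : ∀ ω : Ω, ω ≠ α → ω ≠ n • α → S ⊓ MulAction.stabilizer G ω = ⊥

/-- fixity 2 in elementwise form: an element with three distinct fixed points is trivial. -/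
theorem fix3 {G : Type*} [Group G] {Ω : Type*} [Finite Ω] [MulAction G Ω]
    (hfix : ∀ g : G, g ≠ 1 → Nat.card (MulAction.fixedBy Ω g) ≤ 2) :
    ∀ g : G, ∀ a b c : Ω, a ≠ b → a ≠ c → b ≠ c → g • a = a → g • b = b → g • c = c → g = 1 := by
  intro g a b c hab hac hbc ha hb hc
  by_contra hg
  have h := hfix g hg
  have hsub : ({a, b, c} : Set Ω) ⊆ MulAction.fixedBy Ω g := by
    intro x hx
    rcases hx with rfl | rfl | rfl
    · exact ha
    · exact hb
    · exact hc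
  have h3 : ({a, b, c} : Set Ω).ncard = 3 := Set.ncard_eq_three.mpr ⟨a, b, c, hab, hac, hbc, rfl⟩
  have h4 := Set.ncard_le_ncard hsub (Set.toFinite _)
  rw [Nat.card_coe_set_eq] at h
  omega

/-- Piece A: if `T = S ∩ G_α` is a nontrivial proper subgroup of the 2-group `S`, some `n ∈ S`
normalizes `T` and moves `α`, and `Fix(T) = {α, n • α}`. -/
theorem exists_swap {G : Type*} [Group G] [Finite G] {Ω : Type*} [MulAction G Ω]
    (h3 : ∀ g : G, ∀ a b c : Ω, a ≠ b → a ≠ c → b ≠ c → g • a = a → g • b = b → g • c = c → g = 1)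
    (S : Subgroup G) (hS : IsPGroup 2 S) (α : Ω)
    (h1 : S ⊓ MulAction.stabilizer G α ≠ ⊥) (h4 : ¬ S ≤ MulAction.stabilizer G α) :
    ∃ n ∈ S, n • α ≠ α ∧
      (∀ t ∈ S ⊓ MulAction.stabilizer G α, n * t * n⁻¹ ∈ S ⊓ MulAction.stabilizer G α) ∧
      (∀ ω : Ω, (∀ t ∈ S ⊓ MulAction.stabilizer G α, t • ω = ω) → ω = α ∨ ω = n • α) ∧
      (∀ t ∈ S ⊓ MulAction.stabilizer G α, t • (n • α) = n • α) := by
  have : Fact (Nat.Prime 2) := ⟨Nat.prime_two⟩
  have : Group.IsNilpotent ↥S := hS.isNilpotent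
  have hlt : (S ⊓ MulAction.stabilizer G α).subgroupOf S < ⊤ := by
    rw [lt_top_iff_ne_top]
    intro h
    apply h4
    intro s hs
    have : (⟨s, hs⟩ : ↥S) ∈ (S ⊓ MulAction.stabilizer G α).subgroupOf S := by rw [h]; trivial
    exact (Subgroup.mem_subgroupOf.mp this).2
  have hnc := Group.normalizerCondition_of_isNilpotent (G := ↥S) _ hlt
  obtain ⟨x, hxN, hxT⟩ := SetLike.exists_of_lt hnc
  have hxT' : (x : G) ∉ S ⊓ MulAction.stabilizer G α := fun h => hxT (Subgroup.mem_subgroupOf.mpr h)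
  have hxα : (x : G) • α ≠ α := fun h => hxT' ⟨x.2, h⟩
  have hnorm : ∀ t ∈ S ⊓ MulAction.stabilizer G α,
      (x : G) * t * (x : G)⁻¹ ∈ S ⊓ MulAction.stabilizer G α := by
    intro t ht
    have h := (Subgroup.mem_normalizer_iff.mp hxN ⟨t, ht.1⟩).mp (Subgroup.mem_subgroupOf.mpr ht)
    exact Subgroup.mem_subgroupOf.mp h
  have hnorm' : ∀ t ∈ S ⊓ MulAction.stabilizer G α,
      (x : G)⁻¹ * t * (x : G) ∈ S ⊓ MulAction.stabilizer G α := by
    intro t ht
    have hx' : x⁻¹ ∈ Subgroup.normalizer (((S ⊓ MulAction.stabilizer G α).subgroupOf S : Subgroup ↥S) : Set ↥S) :=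
      inv_mem hxN
    have h := (Subgroup.mem_normalizer_iff.mp hx' ⟨t, ht.1⟩).mp (Subgroup.mem_subgroupOf.mpr ht)
    have h' := Subgroup.mem_subgroupOf.mp h
    simpa using h'
  have hTn : ∀ t ∈ S ⊓ MulAction.stabilizer G α, t • ((x : G) • α) = (x : G) • α := by
    intro t ht
    have h : ((x : G)⁻¹ * t * (x : G)) • α = α := MulAction.mem_stabilizer_iff.mp (hnorm' t ht).2
    have h' : t • ((x : G) • α) = (x : G) • (((x : G)⁻¹ * t * (x : G)) • α) := by
      simp [mul_smul]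
    rw [h', h]
  refine ⟨x, x.2, hxα, hnorm, ?_, hTn⟩
  intro ω hω
  by_contra hne
  have hne1 : ω ≠ α := fun h => hne (Or.inl h)
  have hne2 : ω ≠ (x : G) • α := fun h => hne (Or.inr h)
  obtain ⟨t, ht1⟩ := (Subgroup.ne_bot_iff_exists_ne_one).mp h1
  rcases t with ⟨t, ht⟩
  have := h3 t α ((x : G) • α) ω (Ne.symm hxα) (Ne.symm hne1) (Ne.symm hne2)
    ht.2 (hTn _ ht) (hω _ ht)
  apply ht1
  apply Subtype.ext
  exact this

end Cfsg.Agent.Lib.helper37.S3390
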