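import Mathlib
import Cfsg.Agent.Lib.helper68.HallPet
import Cfsg.Agent.Lib.helper79.PearlX

/-! S5238G pieces K2 (`pg_x_notin`) and K3 (`pg_com_surj`), helper37 (row owner, canonical names):
wrappers of helper79's landed x-facts (`h79_px_not_mem`, `h79_px_onto`) plus the case `n = 2`. -/

set_option autoImplicit false

namespace Cfsg.Agent.Lib.helper65.PearlG

open Cfsg.Agent.Lib.helper68

variable {G : Type*} [Group G] [Finite G]

/-- K2. -/
theorem pg_x_notin (p : ℕ) [Fact p.Prime] (n : ℕ) (hG : Nat.card G = p ^ n) (hn : 3 ≤ n) (x : G)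
    (hC : Nat.card (Subgroup.centralizer ({x} : Set G)) = p ^ 2) : x ∉ gam G 2 :=
  Cfsg.Agent.Lib.helper79.h79_px_not_mem p n hG x hC hn

/-- K3. -/
theorem pg_com_surj (p : ℕ) [Fact p.Prime] (n : ℕ) (hG : Nat.card G = p ^ n) (x : G)
    (hC : Nat.card (Subgroup.centralizer ({x} : Set G)) = p ^ 2) (w : ℕ) (hw : 1 ≤ w)
    (hwn : w + 1 ≤ n) (m : G) (hm : m ∈ gam G (w + 1)) : ∃ g ∈ gam G w, m = com x g := by
  by_cases hn : 3 ≤ n
  · obtain ⟨g, hg, h⟩ := Cfsg.Agent.Lib.helper79.h79_px_onto p n hG x hC hn w hw hwn m hm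
    exact ⟨g, hg, h.symm⟩
  · have hn2 : n = 2 := by omega
    have hw1 : w = 1 := by omega
    subst hn2 hw1
    have hcomm := IsPGroup.commutative_of_card_eq_prime_sq hG
    have hm1 : m = 1 := by
      have h2 : gam G (1 + 1) ≤ ⊥ := by
        unfold gam
        show (⊤ : Subgroup G).lowerCentralSeries 1 ≤ ⊥
        rw [Subgroup.top_lowerCentralSeries_one, commutator_def, Subgroup.commutator_le]
        intro a _ b _
        rw [Subgroup.mem_bot, commutatorElement_def, hcomm a b]
        group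
      exact Subgroup.mem_bot.mp (h2 hm)
    refine ⟨1, Subgroup.one_mem _, ?_⟩
    rw [hm1]
    unfold com
    group

end Cfsg.Agent.Lib.helper65.PearlG
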