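import Mathlib
import Cfsg.Agent.Lib.helper37.S1238Defs

/-!
# S1238 / S5213: the configuration of Case II without the element `y`

`Cfg0 S T z u s` is `Cfg S T z u y s` with the three fields about `y` removed, so that it makes sense
inside a 2-group. `Cfg.toCfg0` forgets `y`.
-/

set_option autoImplicit false

namespace Cfsg.Agent.Lib.helper37.S1238

structure Cfg0 {G : Type*} [Group G] (S T : Subgroup G) (z u s : G) : Prop where
  TS : T ≤ S
  zT : z ∈ T
  uT : u ∈ T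
  zz : z * z = 1
  uu : u * u = 1
  z1 : z ≠ 1
  u1 : u ≠ 1
  uz : u ≠ z
  zc : ∀ g ∈ S, g * z = z * g
  uc : ∀ t ∈ T, t * u = u * t
  cent : ∀ g ∈ S, g * u = u * g → g ∈ T
  sS : s ∈ S
  su : s * u * s⁻¹ = z * u

theorem Cfg.toCfg0 {G : Type*} [Group G] {S T : Subgroup G} {z u y s : G} (h : Cfg S T z u y s) :
    Cfg0 S T z u s :=
  ⟨h.TS, h.zT, h.uT, h.zz, h.uu, h.z1, h.u1, h.uz, h.zc, h.uc, h.cent, h.sS, h.su⟩

namespace Cfg0

variable {G : Type*} [Group G] {S T : Subgroup G} {z u s : G}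

theorem zS (h : Cfg0 S T z u s) : z ∈ S := h.TS h.zT

theorem uS (h : Cfg0 S T z u s) : u ∈ S := h.TS h.uT

theorem zu_comm (h : Cfg0 S T z u s) : z * u = u * z := (h.zc u h.uS).symm

theorem z_inv (h : Cfg0 S T z u s) : z⁻¹ = z := inv_eq_of_mul_eq_one_right h.zz

theorem u_inv (h : Cfg0 S T z u s) : u⁻¹ = u := inv_eq_of_mul_eq_one_right h.uu

/-- `s z s⁻¹ = z`. -/
theorem sz (h : Cfg0 S T z u s) : s * z * s⁻¹ = z := by
  rw [h.zc s h.sS, mul_assoc, mul_inv_cancel, mul_one]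

/-- `s (z u) s⁻¹ = u`. -/
theorem szu (h : Cfg0 S T z u s) : s * (z * u) * s⁻¹ = u := by
  have e : s * (z * u) * s⁻¹ = (s * z * s⁻¹) * (s * u * s⁻¹) := by group
  rw [e, h.sz, h.su, ← mul_assoc, h.zz, one_mul]

/-- `s ∉ T`. -/
theorem s_not_mem (h : Cfg0 S T z u s) : s ∉ T := by
  intro hs
  have h1 := h.uc s hs
  have h2 : s * u * s⁻¹ = u := by rw [h1, mul_assoc, mul_inv_cancel, mul_one]
  rw [h.su] at h2
  have h3 : z = 1 := by
    have := congrArg (· * u⁻¹) h2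
    simpa using this
  exact h.z1 h3

end Cfg0

end Cfsg.Agent.Lib.helper37.S1238
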