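import Mathlib
import Cfsg.Agent.Lib.helper26.Suz64b
import Cfsg.Agent.Lib.helper88.S1237A
import Cfsg.Agent.Lib.helper78.S1237B
import Cfsg.Agent.Lib.helper52.S1237D16
import Cfsg.Agent.Lib.helper52.S1237D64

set_option autoImplicit false

namespace Cfsg.Agent.Lib.helper37.S1237

open Cfsg.Agent.Lib.helper26

universe u

/-- the subgroup of elements whose square lies in `V` (class two, `V` = involutions ∪ 1, central) -/
def sqSub {T : Type*} [Group T] [Finite T] (V : Subgroup T) (hV : ∀ x : T, x ∈ V ↔ x * x = 1)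
    (hVc : V ≤ Subgroup.center T)
    (hc2 : ∀ a b : T, a * b * a⁻¹ * b⁻¹ ∈ Subgroup.center T) : Subgroup T where
  carrier := {x | x * x ∈ V}
  one_mem' := by
    show (1 : T) * 1 ∈ V
    rw [mul_one]; exact V.one_mem
  mul_mem' := by
    intro x y hx hy
    show (x * y) * (x * y) ∈ V
    have hx' : x * x ∈ V := hx
    have hy' : y * y ∈ V := hy
    have hc : S64.cm y x ∈ Subgroup.center T := hc2 y x
    have h1 : S64.cm (y * y) x = S64.cm y x * S64.cm y x := Fix2.c2_mul_left hc2 y y x
    have h2 : S64.cm (y * y) x = 1 := S64.cm_center_left (hVc hy') x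
    have h3 : S64.cm y x ∈ V := (hV _).mpr (by rw [← h1, h2])
    have e : (x * y) * (x * y) = S64.cm y x * (x * x) * (y * y) := by
      have hcomm := Subgroup.mem_center_iff.mp hc
      calc (x * y) * (x * y) = x * (S64.cm y x * x * y) * y := by unfold S64.cm; group
        _ = S64.cm y x * (x * x) * (y * y) := by
          rw [show x * (S64.cm y x * x * y) * y = (x * S64.cm y x) * x * y * y by group, hcomm x]
          group
    rw [e]
    exact V.mul_mem (V.mul_mem h3 hx') hy'
  inv_mem' := by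
    intro x hx
    show x⁻¹ * x⁻¹ ∈ V
    have hx' : x * x ∈ V := hx
    rw [← mul_inv_rev]
    exact V.inv_mem hx'

theorem mem_sqSub {T : Type*} [Group T] [Finite T] (V : Subgroup T) (hV : ∀ x : T, x ∈ V ↔ x * x = 1)
    (hVc : V ≤ Subgroup.center T)
    (hc2 : ∀ a b : T, a * b * a⁻¹ * b⁻¹ ∈ Subgroup.center T) (x : T) :
    x ∈ sqSub V hV hVc hc2 ↔ x * x ∈ V := Iff.rfl



theorem abelian_or_64 (n : ℕ) : ∀ (T : Type u) [Group T] [Finite T], Nat.card T = n →
    IsPGroup 2 T → ∀ V : Subgroup T, (∀ x : T, x ∈ V ↔ x * x = 1) → Nat.card V = 4 →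
    V ≤ Subgroup.center T → ∀ ρ : MulAut T, Fpf3.Hyp ρ →
    (∀ a b : T, a * b = b * a) ∨ Nat.card T = 64 := by
  induction n using Nat.strong_induction_on with
  | _ n ih =>
  intro T _ _ hn hT V hV hV4 hVc ρ hρ
  by_cases hab : ∀ a b : T, a * b = b * a
  · exact Or.inl hab
  right
  have hc2 : ∀ a b : T, a * b * a⁻¹ * b⁻¹ ∈ Subgroup.center T :=
    fun a b => Cfsg.Agent.Lib.helper78.S1237.class_two_of_two_engel hT (fun x g => Fix2.comm_conj_self hρ x g) a b
  set E := sqSub V hV hVc hc2 with hEdef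
  have hE : ∀ x : T, x ∈ E ↔ x * x ∈ V := fun x => mem_sqSub V hV hVc hc2 x
  have hVE : V ≤ E := by
    intro v hv
    rw [hE, (hV v).mp hv]
    exact V.one_mem
  -- ρ preserves V and E
  have hρV : ∀ v ∈ V, ρ v ∈ V := by
    intro v hv
    rw [hV, ← map_mul, (hV v).mp hv, map_one]
  have hρE : ∀ y ∈ E, ρ y ∈ E := by
    intro y hy
    rw [hE, ← map_mul]
    exact hρV _ ((hE y).mp hy)
  have hmod : Nat.card E % 3 = 1 := Fpf3.card_mod_three hρ E hρE
  -- |E| ≤ 64 by Chevalley–Warning in the group ↥E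
  have hle : Nat.card E ≤ 64 := by
    refine Cfsg.Agent.Lib.helper88.S1237.card_le_64_of_anisotropic (V.subgroupOf E) ?_ ?_ ?_ ?_ ?_
    · intro x hx
      rw [Subgroup.mem_center_iff]
      intro g
      apply Subtype.ext
      have := Subgroup.mem_center_iff.mp (hVc (Subgroup.mem_subgroupOf.mp hx)) (g : T)
      simpa using this
    · rw [Nat.card_congr (Subgroup.subgroupOfEquivOfLe hVE).toEquiv, hV4]
    · intro v hv
      apply Subtype.ext
      have := (hV _).mp (Subgroup.mem_subgroupOf.mp hv)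
      simpa using this
    · intro x
      rw [Subgroup.mem_subgroupOf]
      exact (hE x).mp x.2
    · intro x hx
      rw [Subgroup.mem_subgroupOf, hV]
      have := congrArg Subtype.val hx
      simpa using this
  -- |E| is a power of 2, divisible by 4
  have : Fact (Nat.Prime 2) := ⟨Nat.prime_two⟩
  obtain ⟨m, hm⟩ := (IsPGroup.iff_card.mp (hT.to_subgroup E))
  have h4 : 4 ∣ Nat.card E := by
    rw [← hV4, ← Nat.card_congr (Subgroup.subgroupOfEquivOfLe hVE).toEquiv]
    exact Subgroup.card_subgroup_dvd_card _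
  have hcases : Nat.card E = 4 ∨ Nat.card E = 16 ∨ Nat.card E = 64 := by
    rw [hm] at hle hmod h4 ⊢
    have hm6 : m ≤ 6 := by
      by_contra hcon
      have : 2 ^ 7 ≤ 2 ^ m := Nat.pow_le_pow_right (by norm_num) (by omega)
      omega
    interval_cases m <;> omega
  rcases hcases with hc | hc | hc
  · -- E = V: every element has square 1, so T = V is abelian
    exfalso
    have hEV : E = V := by
      symm
      apply Subgroup.eq_of_le_of_card_ge hVE
      rw [hc, hV4]
    have hall : ∀ x : T, x * x = 1 := by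
      intro x
      by_contra hx
      obtain ⟨j, hj⟩ := (IsPGroup.iff_orderOf.mp hT) x
      have hj2 : 2 ≤ j := by
        by_contra hcon
        have hj1 : j ≤ 1 := by omega
        have : x ^ 2 = 1 := by
          have h1 : x ^ 2 ^ j = 1 := by rw [← hj]; exact pow_orderOf_eq_one x
          interval_cases j
          · rw [pow_zero, pow_one] at h1; rw [h1, one_pow]
          · rw [pow_one] at h1; exact h1
        exact hx (by rw [← pow_two]; exact this)
      set y := x ^ 2 ^ (j - 2) with hy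
      have hy4 : y ^ 4 = 1 := by
        rw [hy, ← pow_mul, show 2 ^ (j - 2) * 4 = 2 ^ j by
          rw [show (4 : ℕ) = 2 ^ 2 by norm_num, ← pow_add]; congr 1; omega, ← hj]
        exact pow_orderOf_eq_one x
      have hy2 : y ^ 2 ≠ 1 := by
        rw [hy, ← pow_mul]
        intro h
        have hdvd := orderOf_dvd_of_pow_eq_one h
        rw [hj, show 2 ^ (j - 2) * 2 = 2 ^ (j - 1) by
          rw [← pow_succ]; congr 1; omega] at hdvd
        have := Nat.le_of_dvd (by positivity) hdvd
        have h2 : 2 ^ (j - 1) < 2 ^ j := Nat.pow_lt_pow_right (by norm_num) (by omega)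
        omega
      have hyE : y ∈ E := by
        rw [hE, hV]
        have : y * y * (y * y) = y ^ 4 := by
          rw [show (4 : ℕ) = 2 + 2 by norm_num, pow_add, pow_two]
        rw [this, hy4]
      rw [hEV, hV, ← pow_two] at hyE
      exact hy2 hyE
    apply hab
    intro a b
    have ha := hVc ((hV a).mpr (hall a))
    exact (Subgroup.mem_center_iff.mp ha b).symm
  · exfalso
    refine Cfsg.Agent.Lib.helper52.S1237.e16_contra hT V hV hV4 hVc ρ hρ hc2 hab E hE hc ?_
    intro T' _ _ hlt hT' V' hV' hV4' hVc' ρ' hρ'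
    exact ih (Nat.card T') (by rw [← hn]; exact hlt) T' rfl hT' V' hV' hV4' hVc' ρ' hρ'
  · exact Cfsg.Agent.Lib.helper52.S1237.e64_top hT V hV hV4 hVc ρ hρ hc2 E hE hc

/-- PIECE DM. -/
theorem card_eq_64 {T : Type u} [Group T] [Finite T] (hT : IsPGroup 2 T) (V : Subgroup T)
    (hV : ∀ x : T, x ∈ V ↔ x * x = 1) (hV4 : Nat.card V = 4) (hVc : V ≤ Subgroup.center T)
    (ρ : MulAut T) (hρ : Fpf3.Hyp ρ) (hna : ¬ ∀ a b : T, a * b = b * a) :
    Nat.card T = 64 := by
  rcases abelian_or_64 (Nat.card T) T rfl hT V hV hV4 hVc ρ hρ with h | h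
  · exact absurd h hna
  · exact h

end Cfsg.Agent.Lib.helper37.S1237
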