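import Mathlib
import Cfsg.Agent.S0012
import Cfsg.Agent.S0014

/-!
# S5238, block G, step (7): jump counting + Burnside basis (helper37)

`jump_rank`: a finite `p`-group `G` of order `p ^ n` with a chain `P 2 ≥ P 3 ≥ … ≥ P n = 1`,
`|P i| = p ^ (n - i)`, `P 2` normal and inside the Frattini subgroup, such that `p`-th powers shift
the depth by exactly `p - 1` on the layers `2 ≤ i ≤ n - p`, has all its subgroups generated by at
most `p` elements.
-/

set_option autoImplicit false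

namespace Cfsg.Agent.Lib.helper37.PearlJump

variable {G : Type*} [Group G] [Finite G]

theorem card_mul_relIndex_of_le {A B : Subgroup G} (h : A ≤ B) :
    Nat.card A * A.relIndex B = Nat.card B := by
  have := Subgroup.relIndex_mul_relIndex (H := (⊥ : Subgroup G)) (K := A) (L := B) bot_le h
  rwa [Subgroup.relIndex_bot_left, Subgroup.relIndex_bot_left] at this

/-- A subgroup `H` of a finite `p`-group with `|H| ≤ p ^ d * |Φ(H)|` is generated by at most `d`
elements (Burnside basis theorem, landed S0014). -/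
theorem exists_gens_of_frattini (p : ℕ) [Fact p.Prime] (hG : IsPGroup p G) (H : Subgroup G)
    (d : ℕ) (h : Nat.card H ≤ p ^ d * Nat.card (frattini H)) :
    ∃ T : Finset G, T.card ≤ d ∧ Subgroup.closure (T : Set G) = H := by
  classical
  have hp := (Fact.out : p.Prime)
  have hHp : IsPGroup p H := hG.to_subgroup H
  obtain ⟨k, hk⟩ := hHp.index (frattini H)
  have hcm := Subgroup.card_mul_index (frattini H)
  have hkd : k ≤ d := by
    have hpos : 0 < Nat.card (frattini H) := Nat.card_pos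
    rw [← hcm, hk, mul_comm] at h
    have := Nat.le_of_mul_le_mul_right h hpos
    exact (Nat.pow_le_pow_iff_right hp.one_lt).mp this
  haveI : Fintype H := Fintype.ofFinite H
  obtain ⟨T, -, hTc, hT⟩ := (Cfsg.Agent.S0014.result p k hHp hk).1 Finset.univ (by
    rw [Finset.coe_univ, Subgroup.closure_univ])
  refine ⟨T.map ⟨Subtype.val, Subtype.val_injective⟩, ?_, ?_⟩
  · rw [Finset.card_map]; omega
  · rw [Finset.coe_map]
    have := MonoidHom.map_closure H.subtype (T : Set H)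
    show Subgroup.closure (H.subtype '' (T : Set H)) = H
    rw [← this, hT, ← MonoidHom.range_eq_map, Subgroup.range_subtype]

theorem card_inf_le_mul (p : ℕ) (K A B : Subgroup G) (hAB : A ≤ B)
    (hidx : Nat.card B = p * Nat.card A) :
    Nat.card ↥(K ⊓ B) ≤ p * Nat.card ↥(K ⊓ A) := by
  have h0 := card_mul_relIndex_of_le hAB
  have h1 : A.relIndex B = p := by
    rw [hidx, mul_comm] at h0
    exact Nat.eq_of_mul_eq_mul_right Nat.card_pos h0
  have hne : A.relIndex B ≠ 0 := by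
    intro hz
    rw [hz, mul_zero] at h0
    exact (Nat.card_pos (α := B)).ne h0
  have h2 : A.relIndex (K ⊓ B) ≤ A.relIndex B :=
    Subgroup.relIndex_le_of_le_right inf_le_right hne
  have e : A ⊓ (K ⊓ B) = K ⊓ A :=
    le_antisymm (le_inf (inf_le_right.trans inf_le_left) inf_le_left)
      (le_inf inf_le_right (le_inf inf_le_left (inf_le_right.trans hAB)))
  have h3 : A.relIndex (K ⊓ B) = (K ⊓ A).relIndex (K ⊓ B) := by
    have := Subgroup.inf_relIndex_right (H := A) (K := K ⊓ B)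
    rw [e] at this
    exact this.symm
  have h4 := card_mul_relIndex_of_le (inf_le_inf_left K hAB : K ⊓ A ≤ K ⊓ B)
  rw [← h4, ← h3, mul_comm]
  exact Nat.mul_le_mul_right _ (h2.trans h1.le)

theorem mul_card_inf_le_of_jump (p : ℕ) [Fact p.Prime] (n : ℕ) (hG : Nat.card G = p ^ n)
    (L A B : Subgroup G) (hAB : A ≤ B) (hj : ∃ m ∈ L, m ∈ B ∧ m ∉ A) :
    p * Nat.card ↥(L ⊓ A) ≤ Nat.card ↥(L ⊓ B) := by
  have hp := (Fact.out : p.Prime)
  obtain ⟨m, hmL, hmB, hmA⟩ := hj
  have hle : L ⊓ A ≤ L ⊓ B := inf_le_inf_left L hAB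
  have h4 := card_mul_relIndex_of_le hle
  have hne : (L ⊓ A).relIndex (L ⊓ B) ≠ 1 := by
    intro h1
    rw [Subgroup.relIndex_eq_one] at h1
    exact hmA (h1 ⟨hmL, hmB⟩).2
  have hdvd : (L ⊓ A).relIndex (L ⊓ B) ∣ p ^ n := by
    rw [← hG]
    exact (Subgroup.relIndex_dvd_card _ _).trans (Subgroup.card_subgroup_dvd_card _)
  obtain ⟨k, -, hk⟩ := (Nat.dvd_prime_pow hp).mp hdvd
  have hk0 : k ≠ 0 := by
    rintro rfl
    exact hne (by simpa using hk)
  have hpk : p ≤ (L ⊓ A).relIndex (L ⊓ B) := by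
    rw [hk]
    exact Nat.le_self_pow hk0 p
  rw [← h4, mul_comm]
  exact Nat.mul_le_mul_left _ hpk

theorem jump_count (p : ℕ) [Fact p.Prime] (n : ℕ) (hn : 2 ≤ n) (hG : Nat.card G = p ^ n)
    (P : ℕ → Subgroup G) (hanti : ∀ i, P (i + 1) ≤ P i)
    (hcard : ∀ i, 2 ≤ i → i ≤ n → Nat.card (P i) = p ^ (n - i)) (K L : Subgroup G)
    (hKL : ∀ i, 2 ≤ i → i + p ≤ n → (∃ m ∈ K, m ∈ P i ∧ m ∉ P (i + 1)) →
      ∃ m ∈ L, m ∈ P (i + p - 1) ∧ m ∉ P (i + p)) :
    ∀ d j, 2 ≤ j → n ≤ j + d →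
      Nat.card ↥(K ⊓ P j) ≤ p ^ (p - 1) * Nat.card ↥(L ⊓ P (j + p - 1)) := by
  have hp := (Fact.out : p.Prime)
  have hpp : 0 < p ^ (p - 1) := pow_pos hp.pos _
  have hanti' : ∀ i j, i ≤ j → P j ≤ P i := by
    intro i j hij
    induction j, hij using Nat.le_induction with
    | base => exact le_rfl
    | succ j _ ih => exact (hanti j).trans ih
  have hPn : P n = ⊥ := by
    have h1 := hcard n hn le_rfl
    rw [Nat.sub_self, pow_zero] at h1
    exact Subgroup.eq_bot_of_card_eq _ h1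
  intro d
  induction d with
  | zero =>
    intro j hj hnj
    have hPj : P j = ⊥ := le_bot_iff.mp (hPn ▸ hanti' n j (by omega))
    rw [hPj, inf_bot_eq, Subgroup.card_bot]
    exact Nat.one_le_iff_ne_zero.mpr (Nat.mul_ne_zero hpp.ne' Nat.card_pos.ne')
  | succ d ih =>
    intro j hj hnj
    by_cases hnj' : n ≤ j + d
    · exact ih j hj hnj'
    have hjlt : j < n := by omega
    have ih1 := ih (j + 1) (by omega) (by omega)
    have e1 : j + 1 + p - 1 = j + p := by omega
    rw [e1] at ih1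
    have hstep : P (j + p) ≤ P (j + p - 1) := by
      have := hanti (j + p - 1)
      have e2 : j + p - 1 + 1 = j + p := by have := hp.pos; omega
      rwa [e2] at this
    have hbmono : Nat.card ↥(L ⊓ P (j + p)) ≤ Nat.card ↥(L ⊓ P (j + p - 1)) :=
      Subgroup.card_le_of_le (inf_le_inf_left L hstep)
    by_cases hjump : ∃ m ∈ K, m ∈ P j ∧ m ∉ P (j + 1)
    · by_cases hjp : j + p ≤ n
      · have hL := hKL j hj hjp hjump
        have hb : p * Nat.card ↥(L ⊓ P (j + p)) ≤ Nat.card ↥(L ⊓ P (j + p - 1)) :=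
          mul_card_inf_le_of_jump p n hG L (P (j + p)) (P (j + p - 1)) hstep hL
        have ha : Nat.card ↥(K ⊓ P j) ≤ p * Nat.card ↥(K ⊓ P (j + 1)) := by
          apply card_inf_le_mul p K (P (j + 1)) (P j) (hanti j)
          rw [hcard j hj hjlt.le, hcard (j + 1) (by omega) (by omega)]
          have e3 : n - j = (n - (j + 1)) + 1 := by omega
          rw [e3, pow_succ, mul_comm]
        calc Nat.card ↥(K ⊓ P j) ≤ p * Nat.card ↥(K ⊓ P (j + 1)) := ha
          _ ≤ p * (p ^ (p - 1) * Nat.card ↥(L ⊓ P (j + p))) := Nat.mul_le_mul_left _ ih1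
          _ = p ^ (p - 1) * (p * Nat.card ↥(L ⊓ P (j + p))) := by ring
          _ ≤ p ^ (p - 1) * Nat.card ↥(L ⊓ P (j + p - 1)) := Nat.mul_le_mul_left _ hb
      · calc Nat.card ↥(K ⊓ P j) ≤ Nat.card ↥(P j) := Subgroup.card_le_of_le inf_le_right
          _ = p ^ (n - j) := hcard j hj hjlt.le
          _ ≤ p ^ (p - 1) := Nat.pow_le_pow_right hp.pos (by omega)
          _ ≤ p ^ (p - 1) * Nat.card ↥(L ⊓ P (j + p - 1)) :=
              Nat.le_mul_of_pos_right _ Nat.card_pos
    · have hle : K ⊓ P j ≤ K ⊓ P (j + 1) := by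
        intro m hm
        refine ⟨hm.1, ?_⟩
        by_contra hc
        exact hjump ⟨m, hm.1, hm.2, hc⟩
      calc Nat.card ↥(K ⊓ P j) ≤ Nat.card ↥(K ⊓ P (j + 1)) := Subgroup.card_le_of_le hle
        _ ≤ p ^ (p - 1) * Nat.card ↥(L ⊓ P (j + p)) := ih1
        _ ≤ p ^ (p - 1) * Nat.card ↥(L ⊓ P (j + p - 1)) := Nat.mul_le_mul_left _ hbmono

/-- **JUMP + Burnside basis** (step (7) of block G of S5238). -/
theorem jump_rank (p : ℕ) [Fact p.Prime] (n : ℕ) (hG : Nat.card G = p ^ n)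
    (P : ℕ → Subgroup G) (hanti : ∀ i, P (i + 1) ≤ P i) (hnorm : (P 2).Normal)
    (hcard : ∀ i, 2 ≤ i → i ≤ n → Nat.card (P i) = p ^ (n - i)) (hfr : P 2 ≤ frattini G)
    (hpow : ∀ i, 2 ≤ i → i + p ≤ n → ∀ m ∈ P i, m ∉ P (i + 1) →
      m ^ p ∈ P (i + p - 1) ∧ m ^ p ∉ P (i + p))
    (H : Subgroup G) : ∃ T : Finset G, T.card ≤ p ∧ Subgroup.closure (T : Set G) = H := by
  classical
  have hp := (Fact.out : p.Prime)
  have hGp : IsPGroup p G := IsPGroup.of_card hG
  by_cases hnp : n ≤ p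
  · apply exists_gens_of_frattini p hGp H p
    calc Nat.card H ≤ Nat.card G := Subgroup.card_le_card_group H
      _ = p ^ n := hG
      _ ≤ p ^ p := Nat.pow_le_pow_right hp.pos hnp
      _ ≤ p ^ p * Nat.card (frattini H) := Nat.le_mul_of_pos_right _ Nat.card_pos
  have hn2 : 2 ≤ n := by have := hp.two_le; omega
  have hP2 : Nat.card (P 2) = p ^ (n - 2) := hcard 2 le_rfl hn2
  by_cases htop : H ⊔ P 2 = ⊤
  · have hH : H = ⊤ := by
      apply frattini_nongenerating
      exact top_le_iff.mp (htop ▸ sup_le_sup_left hfr H)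
    subst hH
    have hidx : (frattini G).index ∣ p ^ 2 := by
      have h1 : (frattini G).index ∣ (P 2).index := Subgroup.index_dvd_of_le hfr
      have h2 : (P 2).index = p ^ 2 := by
        have h3 := Subgroup.card_mul_index (P 2)
        rw [hP2, hG] at h3
        have e : p ^ n = p ^ (n - 2) * p ^ 2 := by
          rw [← pow_add]; congr 1; omega
        rw [e] at h3
        exact Nat.eq_of_mul_eq_mul_left (pow_pos hp.pos _) h3
      exact h2 ▸ h1
    obtain ⟨k, hk2, hk⟩ := (Nat.dvd_prime_pow hp).mp hidx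
    haveI : Fintype G := Fintype.ofFinite G
    obtain ⟨T, -, hTc, hT⟩ := (Cfsg.Agent.S0014.result p k hGp hk).1 Finset.univ (by
      rw [Finset.coe_univ, Subgroup.closure_univ])
    exact ⟨T, by have := hp.two_le; omega, hT⟩
  apply exists_gens_of_frattini p hGp H p
  have hΦc : Nat.card ((frattini H).map H.subtype) = Nat.card (frattini H) :=
    Subgroup.card_map_of_injective H.subtype_injective
  have hKL : ∀ i, 2 ≤ i → i + p ≤ n → (∃ m ∈ H, m ∈ P i ∧ m ∉ P (i + 1)) →
      ∃ m ∈ (frattini H).map H.subtype, m ∈ P (i + p - 1) ∧ m ∉ P (i + p) := by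
    rintro i hi hip ⟨m, hmH, hmi, hmi'⟩
    obtain ⟨h1, h2⟩ := hpow i hi hip m hmi hmi'
    refine ⟨m ^ p, ?_, h1, h2⟩
    exact Subgroup.mem_map.mpr ⟨(⟨m, hmH⟩ : H) ^ p,
      (Cfsg.Agent.S0012.result p (hGp.to_subgroup H)).2 _, rfl⟩
  have hcount := jump_count p n hn2 hG P hanti hcard H ((frattini H).map H.subtype) hKL n 2
    le_rfl (by omega)
  have hcount' : Nat.card ↥(H ⊓ P 2) ≤ p ^ (p - 1) * Nat.card (frattini H) := by
    rw [← hΦc]
    exact hcount.trans (Nat.mul_le_mul_left _ (Subgroup.card_le_of_le inf_le_left))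
  have hr : (P 2).relIndex H ≤ p := by
    haveI := hnorm
    have hsup := Subgroup.relIndex_sup_right (H := H) (K := P 2)
    rw [← hsup]
    have h5 := card_mul_relIndex_of_le (le_sup_right : P 2 ≤ H ⊔ P 2)
    have hdvd : Nat.card ↥(H ⊔ P 2) ∣ p ^ n := hG ▸ Subgroup.card_subgroup_dvd_card _
    obtain ⟨k, hkn, hk⟩ := (Nat.dvd_prime_pow hp).mp hdvd
    have hkn' : k ≠ n := by
      rintro rfl
      exact htop (Subgroup.eq_top_of_card_eq _ (hk.trans hG.symm))
    rw [hk, hP2] at h5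
    have h6 : p ^ (n - 2) * (P 2).relIndex (H ⊔ P 2) ≤ p ^ (n - 2) * p := by
      rw [h5, ← pow_succ]
      exact Nat.pow_le_pow_right hp.pos (by omega)
    exact Nat.le_of_mul_le_mul_left h6 (pow_pos hp.pos _)
  have h7 := card_mul_relIndex_of_le (inf_le_left : H ⊓ P 2 ≤ H)
  rw [Subgroup.inf_relIndex_left] at h7
  have e : p ^ p = p ^ (p - 1) * p := by
    rw [← pow_succ]; congr 1; have := hp.pos; omega
  calc Nat.card H = Nat.card ↥(H ⊓ P 2) * (P 2).relIndex H := h7.symm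
    _ ≤ (p ^ (p - 1) * Nat.card (frattini H)) * p := Nat.mul_le_mul hcount' hr
    _ = p ^ p * Nat.card (frattini H) := by rw [e]; ring

end Cfsg.Agent.Lib.helper37.PearlJump
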