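import Mathlib

set_option autoImplicit false

namespace Cfsg.Agent.Lib.helper37

/-- In a finite field with `2 ≠ 0`, the quotient of two non-squares is a square. -/
theorem h37_isSquare_div_of_not_isSquare {F : Type*} [Field F] [Fintype F] (h2 : (2 : F) ≠ 0)
    (α β : F) (hα : ¬ IsSquare α) (hβ : ¬ IsSquare β) : IsSquare (α / β) := by
  classical
  have hα0 : α ≠ 0 := fun h => hα (h ▸ IsSquare.zero)
  have hβ0 : β ≠ 0 := fun h => hβ (h ▸ IsSquare.zero)
  have h1 : quadraticChar F α = -1 := quadraticChar_neg_one_iff_not_isSquare.mpr hα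
  have h3 : quadraticChar F β = -1 := quadraticChar_neg_one_iff_not_isSquare.mpr hβ
  have h4 : quadraticChar F (α * β) = 1 := by
    rw [map_mul, h1, h3]; norm_num
  have h5 : IsSquare (α * β) := (quadraticChar_one_iff_isSquare (mul_ne_zero hα0 hβ0)).mp h4
  obtain ⟨s, hs⟩ := h5
  refine ⟨s / β, ?_⟩
  field_simp
  rw [hs]
  ring

/-- In the quadratic field `F(√δ)` over a finite field `F` (`2 ≠ 0`), an element whose norm is a
square of `F` is a square: the norm is injective modulo squares. -/
theorem h37_isSquare_of_isSquare_norm {F : Type*} [Field F] [Fintype F] (h2 : (2 : F) ≠ 0)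
    (δ : F) [Fact (∀ r : F, r ^ 2 ≠ δ + 0 * r)] (z : QuadraticAlgebra F δ 0)
    (hz : IsSquare (QuadraticAlgebra.norm z)) : IsSquare z := by
  classical
  have hδ : ¬ IsSquare δ := by
    rintro ⟨s, hs⟩
    exact (Fact.out : ∀ r : F, r ^ 2 ≠ δ + 0 * r) s (by rw [hs]; ring)
  obtain ⟨n, hn⟩ := hz
  rw [QuadraticAlgebra.norm_def] at hn
  -- `hn : z.re * z.re + 0 * z.re * z.im - δ * z.im * z.im = n * n`
  have key : ∀ s t : F, s * s + δ * (t * t) = z.re → 2 * (s * t) = z.im → IsSquare z := by
    intro s t h1 h3
    refine ⟨⟨s, t⟩, ?_⟩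
    ext
    · simp only [QuadraticAlgebra.re_mul]
      rw [← h1]; ring
    · simp only [QuadraticAlgebra.im_mul]
      rw [← h3]; ring
  by_cases hb : z.im = 0
  · by_cases ha : IsSquare z.re
    · obtain ⟨s, hs⟩ := ha
      exact key s 0 (by rw [hs]; ring) (by rw [hb]; ring)
    · obtain ⟨t, ht⟩ := h37_isSquare_div_of_not_isSquare h2 z.re δ ha hδ
      have hδ0 : δ ≠ 0 := fun h => hδ (h ▸ IsSquare.zero)
      refine key 0 t ?_ (by rw [hb]; ring)
      have : z.re = δ * (t * t) := by rw [← ht]; field_simp
      rw [this]; ring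
  · -- `y₁ = (a + n)/2`, `y₂ = (a - n)/2`, `y₁ * y₂ = δ * (b/2)^2`
    have hprod : ((z.re + n) / 2) * ((z.re - n) / 2) = δ * ((z.im / 2) * (z.im / 2)) := by
      field_simp
      linear_combination hn
    have hδ0 : δ ≠ 0 := fun h => hδ (h ▸ IsSquare.zero)
    have hy1 : (z.re + n) / 2 ≠ 0 := by
      intro h0
      rw [h0, zero_mul] at hprod
      have : z.im / 2 = 0 := by
        rcases mul_eq_zero.mp hprod.symm with h | h
        · exact absurd h hδ0
        · exact mul_self_eq_zero.mp h
      exact hb (by
        have h3 := div_eq_zero_iff.mp this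
        rcases h3 with h3 | h3
        · exact h3
        · exact absurd h3 h2)
    have hy2 : (z.re - n) / 2 ≠ 0 := by
      intro h0
      rw [h0, mul_zero] at hprod
      have : z.im / 2 = 0 := by
        rcases mul_eq_zero.mp hprod.symm with h | h
        · exact absurd h hδ0
        · exact mul_self_eq_zero.mp h
      exact hb (by
        have h3 := div_eq_zero_iff.mp this
        rcases h3 with h3 | h3
        · exact h3
        · exact absurd h3 h2)
    -- one of `y₁`, `y₂` is a square
    have hsq : IsSquare ((z.re + n) / 2) ∨ IsSquare ((z.re - n) / 2) := by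
      by_cases h1 : IsSquare ((z.re + n) / 2)
      · exact Or.inl h1
      · right
        obtain ⟨u, hu⟩ := h37_isSquare_div_of_not_isSquare h2 _ δ h1 hδ
        have hu0 : u ≠ 0 := by
          intro h; rw [h, mul_zero] at hu
          rcases div_eq_zero_iff.mp hu with h' | h'
          · exact hy1 h'
          · exact hδ0 h'
        refine ⟨(z.im / 2) / u, ?_⟩
        have e1 : (z.re + n) / 2 = δ * (u * u) := by rw [← hu]; field_simp
        rw [e1] at hprod
        have e2 : (z.re - n) / 2 = ((z.im / 2) * (z.im / 2)) / (u * u) := by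
          field_simp
          field_simp at hprod
          linear_combination hprod
        rw [e2]; field_simp
    rcases hsq with ⟨s, hs⟩ | ⟨s, hs⟩
    · have hs0 : s ≠ 0 := by
        intro h; rw [h, mul_zero] at hs; exact hy1 hs
      refine key s (z.im / (2 * s)) ?_ (by field_simp)
      have e2 : δ * (z.im / (2 * s) * (z.im / (2 * s))) = (z.re - n) / 2 := by
        rw [hs] at hprod
        field_simp
        field_simp at hprod
        linear_combination -hprod
      rw [e2, ← hs]; field_simp; ring
    · have hs0 : s ≠ 0 := by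
        intro h; rw [h, mul_zero] at hs; exact hy2 hs
      refine key s (z.im / (2 * s)) ?_ (by field_simp)
      have e2 : δ * (z.im / (2 * s) * (z.im / (2 * s))) = (z.re + n) / 2 := by
        rw [hs] at hprod
        field_simp
        field_simp at hprod
        linear_combination -hprod
      rw [e2, ← hs]; field_simp; ring

end Cfsg.Agent.Lib.helper37
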