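import Cfsg.Agent.Lib.helper95.APDefs

set_option autoImplicit false

namespace Cfsg.Agent.Lib.helper95.AP

open Equiv

/-- if the centraliser of `b` is not inside the alternating group, a good pair `(a, b)` has an odd
companion (an odd `τ` commuting with `b`) -/
theorem h37_goodBoth_of_centralizer (p : ℕ) {m : ℕ} (a b : Perm (Fin m)) (h : Good p a b)
    (hc : ¬ (Subgroup.centralizer {b} ≤ alternatingGroup (Fin m))) : GoodBoth p a b := by
  refine ⟨h, ?_⟩
  obtain ⟨τ, hτc, hτa⟩ := SetLike.not_le_iff_exists.mp hc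
  have hcomm : b * τ = τ * b := (Subgroup.mem_centralizer_iff.mp hτc) b rfl
  have hsign : Perm.sign τ = -1 := by
    rcases Int.units_eq_one_or (Perm.sign τ) with h1 | h1
    · exact absurd (Perm.mem_alternatingGroup.mpr h1) hτa
    · exact h1
  refine ⟨τ, hsign, ?_⟩
  have hconj : τ * b * τ⁻¹ = b := by
    rw [← hcomm, mul_assoc, mul_inv_cancel, mul_one]
  rw [hconj]
  exact h

/-- a list of proper `p`-powers (exponent ≥ 1) with sum exactly `p ^ e` has a repeated entry -/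
theorem h37_not_nodup_of_sum_eq (p : ℕ) (hp : p.Prime) (e : ℕ) (L : List ℕ) (hL0 : L ≠ [])
    (hpow : ∀ l ∈ L, ∃ j : ℕ, 1 ≤ j ∧ l = p ^ j ∧ l < p ^ e) (hsum : L.sum = p ^ e) :
    ¬ L.Nodup := by
  intro hnd
  have hne : L.toFinset.Nonempty := by
    obtain ⟨x, hx⟩ := List.exists_mem_of_ne_nil L hL0
    exact ⟨x, List.mem_toFinset.mpr hx⟩
  obtain ⟨l0, hl0, hmin⟩ := Finset.exists_min_image L.toFinset id hne
  rw [List.mem_toFinset] at hl0
  obtain ⟨j0, hj0, hl0eq, hl0lt⟩ := hpow l0 hl0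
  have hj0e : j0 < e := by
    rw [hl0eq] at hl0lt
    exact (Nat.pow_lt_pow_iff_right hp.one_lt).mp hl0lt
  have hrest : p ^ (j0 + 1) ∣ (L.erase l0).sum := by
    apply List.dvd_sum
    intro x hx
    obtain ⟨hxne, hxL⟩ := (hnd.mem_erase_iff).mp hx
    obtain ⟨j, hj, hxeq, hxlt⟩ := hpow x hxL
    have hle : l0 ≤ x := hmin x (List.mem_toFinset.mpr hxL)
    rw [hl0eq, hxeq] at hle
    have hjj : j0 ≤ j := (Nat.pow_le_pow_iff_right hp.one_lt).mp hle
    have hjne : j0 ≠ j := by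
      intro hEq
      apply hxne
      rw [hxeq, hl0eq, hEq]
    rw [hxeq]
    exact pow_dvd_pow p (by omega)
  have htot : p ^ (j0 + 1) ∣ L.sum := by
    rw [hsum]; exact pow_dvd_pow p (by omega)
  rw [← List.sum_erase hl0] at htot
  have hl0dvd : p ^ (j0 + 1) ∣ l0 := (Nat.dvd_add_left hrest).mp htot
  rw [hl0eq] at hl0dvd
  have := (Nat.pow_dvd_pow_iff_le_right hp.one_lt).mp hl0dvd
  omega

/-- INTV helper: the odd companion comes for free.  If `b` has cycle type `L` (as in INTV) and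
`(finRotate (p ^ e), b)` is a good pair, then it is a `GoodBoth` pair. -/
theorem h37_goodBoth_of_good (p : ℕ) (hp : p.Prime) (e : ℕ) (L : List ℕ) (hL0 : L ≠ [])
    (hpow : ∀ l ∈ L, ∃ j : ℕ, 1 ≤ j ∧ l = p ^ j ∧ l < p ^ e) (hsum : L.sum ≤ p ^ e)
    (b : Perm (Fin (p ^ e))) (hb : b.cycleType = (L : Multiset ℕ))
    (h : Good p (finRotate (p ^ e)) b) : GoodBoth p (finRotate (p ^ e)) b := by
  apply h37_goodBoth_of_centralizer p _ b h
  rw [Perm.centralizer_le_alternating_iff]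
  rintro ⟨-, hcard, hcount⟩
  rw [hb, Fintype.card_fin, Multiset.sum_coe] at hcard
  have hnd : L.Nodup := by
    rw [← Multiset.coe_nodup, ← hb]
    exact Multiset.nodup_iff_count_le_one.mpr hcount
  -- `p` divides `L.sum` and `p ^ e`
  have hpL : p ∣ L.sum := by
    apply List.dvd_sum
    intro x hx
    obtain ⟨j, hj, hxeq, -⟩ := hpow x hx
    rw [hxeq]
    exact dvd_pow_self p (by omega)
  have he : 1 ≤ e := by
    obtain ⟨x, hx⟩ := List.exists_mem_of_ne_nil L hL0
    obtain ⟨j, hj, hxeq, hxlt⟩ := hpow x hx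
    rw [hxeq] at hxlt
    have := (Nat.pow_lt_pow_iff_right hp.one_lt).mp hxlt
    omega
  have hpe : p ∣ p ^ e := dvd_pow_self p (by omega)
  rcases Nat.lt_or_ge L.sum (p ^ e) with hlt | hge
  · -- then `p ^ e = L.sum + 1`, impossible mod `p`
    have hEq : p ^ e = L.sum + 1 := by omega
    rw [hEq] at hpe
    have h1 : p ∣ 1 := (Nat.dvd_add_right hpL).mp hpe
    exact hp.one_lt.ne' (Nat.dvd_one.mp h1)
  · exact h37_not_nodup_of_sum_eq p hp e L hL0 hpow (le_antisymm hsum hge) hnd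

end Cfsg.Agent.Lib.helper95.AP
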