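import Mathlib

/-!
# The Baer trick

For a group `K` of class at most two in which every element has a unique square root
(given by an exponent `h` with `x ^ (2 * h) = x`), the operation
`x ∘ y = x * y * ⁅y, x⁆ ^ h` makes `K` an abelian group `Baer D` with the same powers, on
which every endomorphism of `K` still acts.  As an application: coprime action on such a
`p`-group, equivariant for a `p`-group `E`, has a nontrivial `E`-fixed element of order
`p` that is moved by the coprime group.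
-/

set_option autoImplicit false

namespace Cfsg.Agent.Lib.helper37

open scoped commutatorElement

/-- Data for the Baer trick: class at most two and an exponent giving square roots. -/
structure BaerData (K : Type*) [Group K] where
  /-- the exponent: `x ^ h` is the square root of `x` -/
  h : ℕ
  hh : ∀ x : K, x ^ (2 * h) = x
  hcl : ∀ x y z : K, ⁅x, y⁆ * z = z * ⁅x, y⁆

namespace BaerData

variable {K : Type*} [Group K] (D : BaerData K)

include D in
lemma comm_mul_right (x y z : K) : ⁅x, y * z⁆ = ⁅x, y⁆ * ⁅x, z⁆ := by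
  have h1 : ⁅x, y⁆ * ⁅x, z⁆ = x * y * x⁻¹ * (y⁻¹ * ⁅x, z⁆) := by
    simp [commutatorElement_def, mul_assoc]
  rw [h1, ← D.hcl x z y⁻¹]
  simp [commutatorElement_def, mul_assoc]

include D in
lemma comm_mul_left (x y z : K) : ⁅x * y, z⁆ = ⁅x, z⁆ * ⁅y, z⁆ := by
  have h1 : ⁅x, z⁆ * ⁅y, z⁆ = x * (z * x⁻¹ * z⁻¹ * ⁅y, z⁆) := by
    simp [commutatorElement_def, mul_assoc]
  have h2 : z * x⁻¹ * z⁻¹ * ⁅y, z⁆ = ⁅y, z⁆ * (z * x⁻¹ * z⁻¹) := (D.hcl y z _).symm
  rw [h1, h2]
  simp [commutatorElement_def, mul_assoc]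

include D in
lemma comm_central_right (x y u v : K) : ⁅x, y * ⁅u, v⁆ ^ D.h⁆ = ⁅x, y⁆ := by
  have hc : Commute x (⁅u, v⁆ ^ D.h) := (Commute.pow_left (D.hcl u v x) D.h).symm
  have h1 : ⁅x, ⁅u, v⁆ ^ D.h⁆ = 1 := commutatorElement_eq_one_iff_commute.mpr hc
  rw [D.comm_mul_right, h1, mul_one]

include D in
lemma comm_central_left (x y u v : K) : ⁅x * ⁅u, v⁆ ^ D.h, y⁆ = ⁅x, y⁆ := by
  have hc : Commute (⁅u, v⁆ ^ D.h) y := Commute.pow_left (D.hcl u v y) D.h
  have h1 : ⁅⁅u, v⁆ ^ D.h, y⁆ = 1 := commutatorElement_eq_one_iff_commute.mpr hc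
  rw [D.comm_mul_left, h1, mul_one]

include D in
lemma comm_pow_comm (u v x y : K) : Commute (⁅u, v⁆ ^ D.h) (⁅x, y⁆ ^ D.h) :=
  Commute.pow_left (Commute.pow_right (D.hcl u v _) _) _

include D in
lemma central_pow (u v z : K) : ⁅u, v⁆ ^ D.h * z = z * ⁅u, v⁆ ^ D.h :=
  Commute.pow_left (D.hcl u v z) D.h

end BaerData

/-- The Baer group of `K`: the same underlying set with `x ∘ y = x * y * ⁅y, x⁆ ^ h`. -/
@[ext] structure Baer {K : Type*} [Group K] (D : BaerData K) where
  /-- the underlying element -/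
  val : K

namespace Baer

variable {K : Type*} [Group K] {D : BaerData K}

instance : Mul (Baer D) := ⟨fun a b => ⟨a.val * b.val * ⁅b.val, a.val⁆ ^ D.h⟩⟩
instance : One (Baer D) := ⟨⟨1⟩⟩
instance : Inv (Baer D) := ⟨fun a => ⟨a.val⁻¹⟩⟩

@[simp] lemma val_mul (a b : Baer D) : (a * b).val = a.val * b.val * ⁅b.val, a.val⁆ ^ D.h := rfl
@[simp] lemma val_one : (1 : Baer D).val = 1 := rfl
@[simp] lemma val_inv (a : Baer D) : (a⁻¹).val = a.val⁻¹ := rfl

lemma mul_assoc' (a b c : Baer D) : a * b * c = a * (b * c) := by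
  apply Baer.ext
  obtain ⟨x⟩ := a; obtain ⟨y⟩ := b; obtain ⟨z⟩ := c
  simp only [val_mul]
  rw [D.comm_central_right, D.comm_central_left, D.comm_mul_right, D.comm_mul_left]
  -- x y [y,x]^h z ([z,x][z,y])^h = x (y z [z,y]^h) ([y,x][z,x])^h
  rw [(show Commute ⁅z, x⁆ ⁅z, y⁆ from D.hcl z x ⁅z, y⁆).mul_pow,
    (show Commute ⁅y, x⁆ ⁅z, x⁆ from D.hcl y x ⁅z, x⁆).mul_pow]
  have e1 : x * y * ⁅y, x⁆ ^ D.h * z = x * y * z * ⁅y, x⁆ ^ D.h := by
    rw [mul_assoc (x * y), D.central_pow, ← mul_assoc]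
  rw [e1]
  have e2 : ⁅y, x⁆ ^ D.h * (⁅z, x⁆ ^ D.h * ⁅z, y⁆ ^ D.h)
      = ⁅z, y⁆ ^ D.h * (⁅y, x⁆ ^ D.h * ⁅z, x⁆ ^ D.h) := by
    rw [← mul_assoc]
    exact ((D.comm_pow_comm y x z y).mul_left (D.comm_pow_comm z x z y)).eq
  calc x * y * z * ⁅y, x⁆ ^ D.h * (⁅z, x⁆ ^ D.h * ⁅z, y⁆ ^ D.h)
      = x * y * z * (⁅y, x⁆ ^ D.h * (⁅z, x⁆ ^ D.h * ⁅z, y⁆ ^ D.h)) := by simp [mul_assoc]
    _ = x * y * z * (⁅z, y⁆ ^ D.h * (⁅y, x⁆ ^ D.h * ⁅z, x⁆ ^ D.h)) := by rw [e2]
    _ = x * (y * z * ⁅z, y⁆ ^ D.h) * (⁅y, x⁆ ^ D.h * ⁅z, x⁆ ^ D.h) := by simp [mul_assoc]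

lemma mul_comm' (a b : Baer D) : a * b = b * a := by
  apply Baer.ext
  obtain ⟨x⟩ := a; obtain ⟨y⟩ := b
  simp only [val_mul]
  -- x y [y,x]^h = y x [x,y]^h
  have e1 : x * y = y * x * ⁅x, y⁆ := by
    rw [← D.hcl x y (y * x)]; simp [commutatorElement_def, mul_assoc]
  have e2 : ⁅x, y⁆ * ⁅y, x⁆ ^ D.h = ⁅x, y⁆ ^ D.h := by
    have h3 : ⁅y, x⁆ = ⁅x, y⁆⁻¹ := (commutatorElement_inv x y).symm
    rw [h3, inv_pow]
    have h4 : ⁅x, y⁆ ^ D.h * ⁅x, y⁆ ^ D.h = ⁅x, y⁆ := by
      rw [← pow_add, ← two_mul, D.hh]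
    calc ⁅x, y⁆ * (⁅x, y⁆ ^ D.h)⁻¹ = ⁅x, y⁆ ^ D.h * ⁅x, y⁆ ^ D.h * (⁅x, y⁆ ^ D.h)⁻¹ := by rw [h4]
      _ = ⁅x, y⁆ ^ D.h := by simp
  rw [e1, mul_assoc, e2]

instance : CommGroup (Baer D) where
  mul_assoc := mul_assoc'
  one_mul a := by apply Baer.ext; simp
  mul_one a := by apply Baer.ext; simp
  inv_mul_cancel a := by
    apply Baer.ext
    have : ⁅a.val, a.val⁻¹⁆ = 1 :=
      commutatorElement_eq_one_iff_commute.mpr (Commute.inv_right (Commute.refl _))
    simp [this]
  mul_comm := mul_comm'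

@[simp] lemma val_pow (a : Baer D) (n : ℕ) : (a ^ n).val = a.val ^ n := by
  induction n with
  | zero => simp
  | succ n ih =>
    rw [pow_succ, val_mul, ih, pow_succ]
    have : ⁅a.val, a.val ^ n⁆ = 1 :=
      commutatorElement_eq_one_iff_commute.mpr (Commute.pow_right (Commute.refl _) n)
    rw [this, one_pow, mul_one]

/-- An endomorphism of `K` acts on the Baer group. -/
def map (D : BaerData K) (φ : Monoid.End K) : Baer D →* Baer D where
  toFun a := ⟨φ a.val⟩
  map_one' := by apply Baer.ext; simp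
  map_mul' a b := by apply Baer.ext; simp [map_commutatorElement]

@[simp] lemma map_val (φ : Monoid.End K) (a : Baer D) : (map D φ a).val = φ a.val := rfl

lemma map_mul_apply (φ ψ : Monoid.End K) (a : Baer D) :
    map D (φ * ψ) a = map D φ (map D ψ a) := rfl

lemma map_one_apply (a : Baer D) : map D (1 : Monoid.End K) a = a := rfl

/-- the underlying equivalence -/
def valEquiv (D : BaerData K) : Baer D ≃ K where
  toFun := Baer.val
  invFun := Baer.mk
  left_inv _ := rfl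
  right_inv _ := rfl

instance [Finite K] : Finite (Baer D) := Finite.of_equiv K (valEquiv D).symm

lemma isPGroup {p : ℕ} (D : BaerData K) (hK : IsPGroup p K) : IsPGroup p (Baer D) := by
  intro z
  obtain ⟨k, hk⟩ := hK z.val
  exact ⟨k, Baer.ext (by simpa using hk)⟩

end Baer

/-- **Baer-trick fixed point lemma.**  Let `K` be a finite `p`-group of class at most two
with square roots (`D : BaerData K`), acted on by a group `Q` of order prime to `p` and by
a `p`-group `E`, such that each `e ∈ E` permutes the action of `Q` (e.g. `E` normalizes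
`Q`).  If `Q` acts nontrivially on `K`, then there is an element of order `p` in `K` fixed
by `E` and moved by `Q`. -/
theorem baer_exists_fixed {K : Type*} [Group K] [Finite K] (D : BaerData K) (p : ℕ)
    [Fact p.Prime] (hK : IsPGroup p K) {Q E : Type*} [Group Q] [Finite Q] [Group E] [Finite E]
    (f : Q →* Monoid.End K) (g : E →* Monoid.End K)
    (hc : ∀ e : E, ∃ σ : Q ≃ Q, ∀ q, g e * f q = f (σ q) * g e)
    (hQ : (Nat.card Q).Coprime p) (hE : IsPGroup p E)
    (hne : ∃ q x, f q x ≠ x) :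
    ∃ x : K, x ≠ 1 ∧ x ^ p = 1 ∧ (∀ e, g e x = x) ∧ ∃ q, f q x ≠ x := by
  classical
  have := Fintype.ofFinite Q
  have hp : p.Prime := Fact.out
  set n := Nat.card Q with hn
  let ν : Baer D →* Baer D := ∏ q : Q, Baer.map D (f q)
  have hν : ∀ x, ν x = ∏ q : Q, Baer.map D (f q) x :=
    fun x => MonoidHom.finsetProd_apply _ _ _
  have hB : IsPGroup p (Baer D) := Baer.isPGroup D hK
  -- `ν x` is `Q`-fixed
  have h1 : ∀ r x, Baer.map D (f r) (ν x) = ν x := by
    intro r x
    rw [hν, map_prod]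
    refine Fintype.prod_equiv (Equiv.mulLeft r) _ _ (fun q => ?_)
    rw [Equiv.coe_mulLeft, map_mul]; rfl
  -- `ν` is `E`-equivariant
  have h2 : ∀ e x, Baer.map D (g e) (ν x) = ν (Baer.map D (g e) x) := by
    intro e x
    obtain ⟨σ, hσ⟩ := hc e
    rw [hν, hν, map_prod]
    refine Fintype.prod_equiv σ _ _ (fun q => ?_)
    rw [← Baer.map_mul_apply, hσ q]; rfl
  -- on `Q`-fixed points `ν` is the `n`-th power
  have h3 : ∀ x, (∀ q, Baer.map D (f q) x = x) → ν x = x ^ n := by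
    intro x hx
    rw [hν, Finset.prod_congr rfl (fun q _ => hx q), Finset.prod_const, Finset.card_univ, hn,
      Nat.card_eq_fintype_card]
  -- an element killed by both `n` and a power of `p` is trivial
  have h4 : ∀ z : Baer D, z ^ n = 1 → z = 1 := by
    intro z hz
    obtain ⟨k, hk⟩ := hB z
    have := pow_gcd_eq_one.mpr ⟨hz, hk⟩
    rwa [Nat.Coprime.gcd_eq_one (Nat.Coprime.pow_right k hQ), pow_one] at this
  -- the kernel of `ν` is nontrivial
  have hker : ν.ker ≠ ⊥ := by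
    intro hbot
    obtain ⟨q₀, x₀, hx₀⟩ := hne
    apply hx₀
    have hall : ∀ x : Baer D, ν x = x ^ n := by
      intro x
      have hy : x ^ n * (ν x)⁻¹ ∈ ν.ker := by
        rw [MonoidHom.mem_ker, map_mul, map_inv, map_pow, h3 (ν x) (fun q => h1 q x)]
        simp
      rw [hbot, Subgroup.mem_bot, mul_inv_eq_one] at hy
      exact hy.symm
    have hfix : ∀ q (x : Baer D), Baer.map D (f q) x = x := by
      intro q x
      have e1 : (Baer.map D (f q) x * x⁻¹) ^ n = 1 := by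
        rw [mul_pow, inv_pow, ← map_pow, ← hall x, h1, mul_inv_cancel]
      exact mul_inv_eq_one.mp (h4 _ e1)
    have := congrArg Baer.val (hfix q₀ ⟨x₀⟩)
    simpa using this
  -- the action of `E` on the kernel
  let act : MulAction E ν.ker :=
    { smul := fun e m => ⟨Baer.map D (g e) m.1, by
        rw [MonoidHom.mem_ker, ← h2, (MonoidHom.mem_ker).mp m.2, map_one]⟩
      one_smul := fun m => by
        apply Subtype.ext
        show Baer.map D (g 1) m.1 = m.1
        rw [map_one]; rfl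
      mul_smul := fun e e' m => by
        apply Subtype.ext
        show Baer.map D (g (e * e')) m.1 = Baer.map D (g e) (Baer.map D (g e') m.1)
        rw [map_mul]; rfl }
  have hsmul : ∀ (e : E) (m : ν.ker), ((e • m : ν.ker) : Baer D) = Baer.map D (g e) m.1 :=
    fun _ _ => rfl
  have hdvd : p ∣ Nat.card ν.ker := by
    rcases (hB.to_subgroup ν.ker).card_eq_or_dvd with h | h
    · exact absurd (Subgroup.card_eq_one.mp h) hker
    · exact h
  have hone : (1 : ν.ker) ∈ MulAction.fixedPoints E ν.ker := by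
    intro e
    apply Subtype.ext
    rw [hsmul]; simp
  obtain ⟨b, hbfix, hb1⟩ := hE.exists_fixed_point_of_prime_dvd_card_of_fixed_point
    (ν.ker) hdvd hone
  -- pass to an element of order `p`
  obtain ⟨k, hk⟩ := (IsPGroup.iff_orderOf.mp hB) b.1
  have hb1' : b.1 ≠ 1 := fun h => hb1 (Subtype.ext h).symm
  have hk0 : k ≠ 0 := by
    rintro rfl
    rw [pow_zero, orderOf_eq_one_iff] at hk
    exact hb1' hk
  obtain ⟨k', rfl⟩ := Nat.exists_eq_succ_of_ne_zero hk0
  set c : Baer D := b.1 ^ (p ^ k') with hc_def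
  have hc1 : c ≠ 1 := by
    intro h
    have := orderOf_dvd_of_pow_eq_one h
    rw [hk] at this
    have h5 := Nat.le_of_dvd (pow_pos hp.pos _) this
    exact absurd h5 (not_le.mpr (Nat.pow_lt_pow_right hp.one_lt (Nat.lt_succ_self k')))
  have hcp : c ^ p = 1 := by
    rw [hc_def, ← pow_mul, ← pow_succ, ← hk, pow_orderOf_eq_one]
  have hcker : ν c = 1 := by
    rw [hc_def, map_pow, (MonoidHom.mem_ker).mp b.2, one_pow]
  have hcE : ∀ e, Baer.map D (g e) c = c := by
    intro e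
    have := congrArg (Subtype.val) (hbfix e)
    rw [hsmul] at this
    rw [hc_def, map_pow, this]
  refine ⟨c.val, fun h => hc1 (Baer.ext h), ?_, fun e => congrArg Baer.val (hcE e), ?_⟩
  · have := congrArg Baer.val hcp
    simpa using this
  · by_contra hcon
    have hcQ : ∀ q, Baer.map D (f q) c = c := by
      intro q
      apply Baer.ext
      by_contra h
      exact hcon ⟨q, h⟩
    have := h3 c hcQ
    rw [hcker] at this
    exact hc1 (h4 c this.symm)

end Cfsg.Agent.Lib.helper37
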