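import Mathlib
import Cfsg.Agent.Lib.helper37.BaerConj

/-!
# Thompson's strengthening of the `P × Q` lemma for odd primes (normal form)

`centralizer_of_baer_fix`: `p` odd, `P` a normal `p`-subgroup of the finite group `G`, `Q` a
subgroup of order prime to `p` normalized by the `p`-subgroup `E`.  If every element of order
dividing `p` of `C_P(E)` is centralized by `Q`, then `Q` centralizes `P`.
-/

set_option autoImplicit false

namespace Cfsg.Agent.Lib.helper37

open scoped commutatorElement

theorem centralizer_of_baer_fix {G : Type*} [Group G] [Finite G] (p : ℕ) [Fact p.Prime]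
    (hp2 : p ≠ 2) (P Q E : Subgroup G) [hPn : P.Normal] (hP : IsPGroup p P)
    (hQ : (Nat.card Q).Coprime p) (hE : IsPGroup p E)
    (hEQ : E ≤ Subgroup.normalizer (Q : Set G))
    (hfix : ∀ x ∈ P, x ∈ Subgroup.centralizer (E : Set G) → x ^ p = 1 →
      x ∈ Subgroup.centralizer (Q : Set G)) :
    Q ≤ Subgroup.centralizer (P : Set G) := by
  have hp : p.Prime := Fact.out
  obtain ⟨H, hHchar, hH1, hH2, hH3⟩ := Cfsg.Agent.S0093.result hP
  set C : Subgroup G := H.map P.subtype with hC
  have hCP : C ≤ P := Subgroup.map_subtype_le H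
  have hconj : ∀ (g : G) (x : ↥P), x ∈ H → MulAut.conjNormal g x ∈ H := by
    intro g x hx
    exact Subgroup.characteristic_iff_map_le.mp hHchar (MulAut.conjNormal g) ⟨x, hx, rfl⟩
  have hCn : C.Normal := by
    constructor
    rintro _ ⟨x, hx, rfl⟩ g
    exact ⟨MulAut.conjNormal g x, hconj g x hx, by simp⟩
  have hCp : IsPGroup p C := hP.to_le hCP
  -- class two
  have hcl : ∀ x y z : ↥C, ⁅x, y⁆ * z = z * ⁅x, y⁆ := by
    rintro ⟨_, x, hx, rfl⟩ ⟨_, y, hy, rfl⟩ ⟨_, z, hz, rfl⟩
    apply Subtype.ext
    have h1 : ⁅x, y⁆ ∈ Subgroup.centralizer (H : Set ↥P) :=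
      (hH2 (Subgroup.commutator_mem_commutator hx (Subgroup.mem_top y))).2
    have h2 := Subgroup.mem_centralizer_iff.mp h1 z hz
    have h3 := congrArg (P.subtype) h2
    simp only [map_mul, map_commutatorElement] at h3
    simp only [Subgroup.coe_mul, commutatorElement_def, Subgroup.coe_inv]
    simp only [commutatorElement_def, Subgroup.coe_subtype] at h3
    simpa [mul_assoc] using h3.symm
  -- square roots
  obtain ⟨k, hk⟩ := IsPGroup.iff_card.mp hCp
  have hodd : Odd (Nat.card ↥C) := by
    rw [hk]; exact (hp.odd_of_ne_two hp2).pow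
  obtain ⟨m, hm⟩ := hodd
  have h2N : 2 * ((Nat.card ↥C + 1) / 2) = Nat.card ↥C + 1 := by omega
  let D : BaerData ↥C :=
    { h := (Nat.card ↥C + 1) / 2
      hh := fun x => by rw [h2N, pow_succ, pow_card_eq_one', one_mul]
      hcl := hcl }
  -- `Q` centralizes `C`
  have hQC : ∀ q ∈ Q, ∀ c ∈ C, q * c * q⁻¹ = c := by
    by_contra hcon
    have hne : ∃ (q : ↥Q) (x : ↥C), ((conjEnd C).comp Q.subtype) q x ≠ x := by
      by_contra h2
      apply hcon
      intro q hq c hc
      by_contra h3
      refine h2 ⟨⟨q, hq⟩, ⟨c, hc⟩, fun h => h3 ?_⟩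
      have := congrArg Subtype.val h
      simpa [conjEnd_apply] using this
    have hcomm : ∀ e : ↥E, ∃ σ : ↥Q ≃ ↥Q, ∀ q,
        ((conjEnd C).comp E.subtype) e * ((conjEnd C).comp Q.subtype) q
          = ((conjEnd C).comp Q.subtype) (σ q) * ((conjEnd C).comp E.subtype) e := by
      intro e
      have hen : (e : G) ∈ Subgroup.normalizer (Q : Set G) := hEQ e.2
      have hen' : (e : G)⁻¹ ∈ Subgroup.normalizer (Q : Set G) := inv_mem hen
      refine ⟨⟨fun q => ⟨e * q * (e : G)⁻¹, (Subgroup.mem_normalizer_iff.mp hen q).mp q.2⟩,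
        fun q => ⟨(e : G)⁻¹ * q * e, by
          have := (Subgroup.mem_normalizer_iff.mp hen' q).mp q.2
          simpa using this⟩, ?_, ?_⟩, ?_⟩
      · intro q; apply Subtype.ext; simp [mul_assoc]
      · intro q; apply Subtype.ext; simp [mul_assoc]
      · intro q
        ext x
        simp [conjEnd_apply, mul_assoc]
    obtain ⟨x, hx1, hxp, hxE, q, hq⟩ := baer_exists_fixed D p hCp
      ((conjEnd C).comp Q.subtype) ((conjEnd C).comp E.subtype) hcomm hQ hE hne
    have hxP : (x : G) ∈ P := hCP x.2
    have hxcent : (x : G) ∈ Subgroup.centralizer (E : Set G) := by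
      rw [Subgroup.mem_centralizer_iff]
      intro e he
      have := congrArg Subtype.val (hxE ⟨e, he⟩)
      simp only [MonoidHom.comp_apply, Subgroup.coe_subtype, conjEnd_apply] at this
      calc e * (x : G) = e * x * e⁻¹ * e := by group
        _ = x * e := by rw [this]
    have hxp' : (x : G) ^ p = 1 := by
      have := congrArg Subtype.val hxp
      simpa using this
    have hxQ : (x : G) ∈ Subgroup.centralizer (Q : Set G) := hfix _ hxP hxcent hxp'
    apply hq
    apply Subtype.ext
    simp only [MonoidHom.comp_apply, Subgroup.coe_subtype, conjEnd_apply]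
    have h1 := Subgroup.mem_centralizer_iff.mp hxQ q q.2
    calc (q : G) * x * (q : G)⁻¹ = x * q * (q : G)⁻¹ := by rw [h1]
      _ = x := by group
  -- conclude with the critical subgroup
  intro q hq
  have ha : (MulAut.conjNormal q : MulAut ↥P) = 1 := by
    apply Cfsg.Agent.S0121.result hP H hHchar hH1 hH2 hH3
    · have h1 : orderOf (MulAut.conjNormal q : MulAut ↥P) ∣ orderOf q := orderOf_map_dvd _ q
      have h2 : orderOf q ∣ Nat.card Q := Subgroup.orderOf_dvd_natCard Q hq
      exact Nat.Coprime.coprime_dvd_left (h1.trans h2) hQ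
    · intro x hx
      apply Subtype.ext
      rw [MulAut.conjNormal_apply]
      exact hQC q hq _ ⟨x, hx, rfl⟩
  rw [Subgroup.mem_centralizer_iff]
  intro y hy
  have h1 := congrArg (fun a : MulAut ↥P => ((a ⟨y, hy⟩ : ↥P) : G)) ha
  simp only [MulAut.conjNormal_apply, MulAut.one_apply] at h1
  calc y * q = q * y * q⁻¹ * q := by rw [h1]
    _ = q * y := by group

end Cfsg.Agent.Lib.helper37
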