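import Mathlib
import Cfsg.Prelude.Def_G2

set_option autoImplicit false

namespace Cfsg.Agent.Lib.helper37

open Cfsg.Lie Matrix

variable {F : Type*} [Field F]

/-- coordinates of the Zorn product -/
theorem zornMul_coords (x y : Fin 8 → F) :
    zornMul x y = ![x 0 * y 0 + (x 1 * y 4 + x 2 * y 5 + x 3 * y 6),
      x 0 * y 1 + y 7 * x 1 - (x 5 * y 6 - x 6 * y 5),
      x 0 * y 2 + y 7 * x 2 - (x 6 * y 4 - x 4 * y 6),
      x 0 * y 3 + y 7 * x 3 - (x 4 * y 5 - x 5 * y 4),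
      y 0 * x 4 + x 7 * y 4 + (x 2 * y 3 - x 3 * y 2),
      y 0 * x 5 + x 7 * y 5 + (x 3 * y 1 - x 1 * y 3),
      y 0 * x 6 + x 7 * y 6 + (x 1 * y 2 - x 2 * y 1),
      (x 4 * y 1 + x 5 * y 2 + x 6 * y 3) + x 7 * y 7] := by
  simp [zornMul, dot3, cross3]

/-- an element of `GL₈` from a pair of mutually inverse linear maps -/
noncomputable def mkGL8 (f f' : (Fin 8 → F) →ₗ[F] (Fin 8 → F)) (h1 : ∀ x, f (f' x) = x)
    (h2 : ∀ x, f' (f x) = x) : GL (Fin 8) F :=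
  ⟨LinearMap.toMatrix' f, LinearMap.toMatrix' f', by
    rw [← LinearMap.toMatrix'_comp]
    have : f ∘ₗ f' = LinearMap.id := LinearMap.ext h1
    rw [this, LinearMap.toMatrix'_id], by
    rw [← LinearMap.toMatrix'_comp]
    have : f' ∘ₗ f = LinearMap.id := LinearMap.ext h2
    rw [this, LinearMap.toMatrix'_id]⟩

theorem mkGL8_mulVec (f f' : (Fin 8 → F) →ₗ[F] (Fin 8 → F)) (h1 : ∀ x, f (f' x) = x)
    (h2 : ∀ x, f' (f x) = x) (x : Fin 8 → F) :
    ((mkGL8 f f' h1 h2 : GL (Fin 8) F) : Matrix (Fin 8) (Fin 8) F) *ᵥ x = f x := by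
  show LinearMap.toMatrix' f *ᵥ x = f x
  rw [← Matrix.toLin'_apply, Matrix.toLin'_toMatrix']

/-- the action of `G₂(F)` on `F⁸` -/
def gact (g : G2 F) (x : Fin 8 → F) : Fin 8 → F :=
  ((g : GL (Fin 8) F) : Matrix (Fin 8) (Fin 8) F) *ᵥ x

theorem gact_mul (g h : G2 F) (x : Fin 8 → F) : gact (g * h) x = gact g (gact h x) := by
  simp [gact, Matrix.mulVec_mulVec]

theorem gact_one (x : Fin 8 → F) : gact (1 : G2 F) x = x := by
  simp [gact]

theorem gact_add (g : G2 F) (x y : Fin 8 → F) : gact g (x + y) = gact g x + gact g y := by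
  simp [gact, Matrix.mulVec_add]

theorem gact_sub (g : G2 F) (x y : Fin 8 → F) : gact g (x - y) = gact g x - gact g y := by
  simp [gact, Matrix.mulVec_sub]

theorem gact_smul (g : G2 F) (c : F) (x : Fin 8 → F) : gact g (c • x) = c • gact g x := by
  simp [gact, Matrix.mulVec_smul]

theorem gact_zero (g : G2 F) : gact g (0 : Fin 8 → F) = 0 := by
  simp [gact]

theorem gact_zornMul (g : G2 F) (x y : Fin 8 → F) :
    gact g (zornMul x y) = zornMul (gact g x) (gact g y) := by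
  have h := g.2
  exact h x y

theorem gact_inv_gact (g : G2 F) (x : Fin 8 → F) : gact g⁻¹ (gact g x) = x := by
  rw [← gact_mul, inv_mul_cancel, gact_one]

theorem gact_gact_inv (g : G2 F) (x : Fin 8 → F) : gact g (gact g⁻¹ x) = x := by
  rw [← gact_mul, mul_inv_cancel, gact_one]

theorem gact_injective (g : G2 F) : Function.Injective (gact g) := by
  intro x y h
  have := congrArg (gact g⁻¹) h
  rwa [gact_inv_gact, gact_inv_gact] at this

theorem gact_ext {g h : G2 F} (H : ∀ x, gact g x = gact h x) : g = h := by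
  apply Subtype.ext
  apply Units.ext
  apply Matrix.toLin'.injective
  apply LinearMap.ext
  intro x
  rw [Matrix.toLin'_apply, Matrix.toLin'_apply]
  exact H x

/-- an element of `G₂(F)` from a pair of mutually inverse linear maps preserving the product -/
noncomputable def mkG2 (f f' : (Fin 8 → F) →ₗ[F] (Fin 8 → F)) (h1 : ∀ x, f (f' x) = x)
    (h2 : ∀ x, f' (f x) = x) (hm : ∀ x y, f (zornMul x y) = zornMul (f x) (f y)) : G2 F :=
  ⟨mkGL8 f f' h1 h2, by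
    intro x y
    simp only [Units.coeHom_apply]
    rw [mkGL8_mulVec, mkGL8_mulVec, mkGL8_mulVec]
    exact hm x y⟩

theorem gact_mkG2 (f f' : (Fin 8 → F) →ₗ[F] (Fin 8 → F)) (h1 : ∀ x, f (f' x) = x)
    (h2 : ∀ x, f' (f x) = x) (hm : ∀ x y, f (zornMul x y) = zornMul (f x) (f y))
    (x : Fin 8 → F) : gact (mkG2 f f' h1 h2 hm) x = f x :=
  mkGL8_mulVec f f' h1 h2 x

/-- the identity element of the Zorn algebra -/
def zOne (F : Type*) [Field F] : Fin 8 → F := ![1, 0, 0, 0, 0, 0, 0, 1]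

theorem zornMul_zOne (x : Fin 8 → F) : zornMul x (zOne F) = x := by
  rw [zornMul_coords]
  ext i
  fin_cases i <;> simp [zOne]

theorem zOne_zornMul (x : Fin 8 → F) : zornMul (zOne F) x = x := by
  rw [zornMul_coords]
  ext i
  fin_cases i <;> simp [zOne]

theorem gact_zOne (g : G2 F) : gact g (zOne F) = zOne F := by
  have h : ∀ y, zornMul (gact g (zOne F)) y = y := by
    intro y
    have := gact_zornMul g (zOne F) (gact g⁻¹ y)
    rw [zOne_zornMul, gact_gact_inv] at this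
    exact this.symm
  have := h (zOne F)
  rwa [zornMul_zOne] at this

/-! ### explicit automorphisms -/

/-- the "short root" unipotent map `E⁺(u)` -/
def EpL (u0 u1 u2 : F) : (Fin 8 → F) →ₗ[F] (Fin 8 → F) where
  toFun x := ![x 0 - (u0 * x 4 + u1 * x 5 + u2 * x 6),
    x 1 + (x 0 - x 7) * u0 - (u0 * x 4 + u1 * x 5 + u2 * x 6) * u0,
    x 2 + (x 0 - x 7) * u1 - (u0 * x 4 + u1 * x 5 + u2 * x 6) * u1,
    x 3 + (x 0 - x 7) * u2 - (u0 * x 4 + u1 * x 5 + u2 * x 6) * u2,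
    x 4 + (u1 * x 3 - u2 * x 2),
    x 5 + (u2 * x 1 - u0 * x 3),
    x 6 + (u0 * x 2 - u1 * x 1),
    x 7 + (u0 * x 4 + u1 * x 5 + u2 * x 6)]
  map_add' x y := by ext i; fin_cases i <;> simp <;> ring
  map_smul' c x := by ext i; fin_cases i <;> simp <;> ring

theorem EpL_apply (u0 u1 u2 : F) (x : Fin 8 → F) :
    EpL u0 u1 u2 x = ![x 0 - (u0 * x 4 + u1 * x 5 + u2 * x 6),
    x 1 + (x 0 - x 7) * u0 - (u0 * x 4 + u1 * x 5 + u2 * x 6) * u0,
    x 2 + (x 0 - x 7) * u1 - (u0 * x 4 + u1 * x 5 + u2 * x 6) * u1,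
    x 3 + (x 0 - x 7) * u2 - (u0 * x 4 + u1 * x 5 + u2 * x 6) * u2,
    x 4 + (u1 * x 3 - u2 * x 2),
    x 5 + (u2 * x 1 - u0 * x 3),
    x 6 + (u0 * x 2 - u1 * x 1),
    x 7 + (u0 * x 4 + u1 * x 5 + u2 * x 6)] := rfl

theorem EpL_inv (u0 u1 u2 : F) (x : Fin 8 → F) :
    EpL u0 u1 u2 (EpL (-u0) (-u1) (-u2) x) = x := by
  rw [EpL_apply, EpL_apply]
  ext i
  fin_cases i <;> simp <;> ring

theorem EpL_zornMul (u0 u1 u2 : F) (x y : Fin 8 → F) :
    EpL u0 u1 u2 (zornMul x y) = zornMul (EpL u0 u1 u2 x) (EpL u0 u1 u2 y) := by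
  rw [zornMul_coords, zornMul_coords, EpL_apply, EpL_apply, EpL_apply]
  ext i
  fin_cases i <;> simp <;> ring

/-- `E⁺(u)` as an element of `G₂(F)` -/
noncomputable def EpG (u0 u1 u2 : F) : G2 F :=
  mkG2 (EpL u0 u1 u2) (EpL (-u0) (-u1) (-u2)) (EpL_inv u0 u1 u2)
    (fun x => by have := EpL_inv (-u0) (-u1) (-u2) x; simpa using this) (EpL_zornMul u0 u1 u2)

theorem gact_EpG (u0 u1 u2 : F) (x : Fin 8 → F) :
    gact (EpG u0 u1 u2) x = ![x 0 - (u0 * x 4 + u1 * x 5 + u2 * x 6),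
    x 1 + (x 0 - x 7) * u0 - (u0 * x 4 + u1 * x 5 + u2 * x 6) * u0,
    x 2 + (x 0 - x 7) * u1 - (u0 * x 4 + u1 * x 5 + u2 * x 6) * u1,
    x 3 + (x 0 - x 7) * u2 - (u0 * x 4 + u1 * x 5 + u2 * x 6) * u2,
    x 4 + (u1 * x 3 - u2 * x 2),
    x 5 + (u2 * x 1 - u0 * x 3),
    x 6 + (u0 * x 2 - u1 * x 1),
    x 7 + (u0 * x 4 + u1 * x 5 + u2 * x 6)] := by
  rw [EpG, gact_mkG2, EpL_apply]

/-- the swap automorphism -/
def tauL : (Fin 8 → F) →ₗ[F] (Fin 8 → F) where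
  toFun x := ![x 7, -x 4, -x 5, -x 6, -x 1, -x 2, -x 3, x 0]
  map_add' x y := by ext i; fin_cases i <;> simp <;> ring
  map_smul' c x := by ext i; fin_cases i <;> simp

theorem tauL_apply (x : Fin 8 → F) :
    tauL x = ![x 7, -x 4, -x 5, -x 6, -x 1, -x 2, -x 3, x 0] := rfl

theorem tauL_tauL (x : Fin 8 → F) : tauL (tauL x) = x := by
  rw [tauL_apply, tauL_apply]
  ext i
  fin_cases i <;> simp

theorem tauL_zornMul (x y : Fin 8 → F) :
    tauL (zornMul x y) = zornMul (tauL x) (tauL y) := by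
  rw [zornMul_coords, zornMul_coords, tauL_apply, tauL_apply, tauL_apply]
  ext i
  fin_cases i <;> simp <;> ring

/-- the swap as an element of `G₂(F)` -/
noncomputable def tauG : G2 F := mkG2 tauL tauL tauL_tauL tauL_tauL tauL_zornMul

theorem gact_tauG (x : Fin 8 → F) :
    gact (tauG : G2 F) x = ![x 7, -x 4, -x 5, -x 6, -x 1, -x 2, -x 3, x 0] := by
  rw [tauG, gact_mkG2, tauL_apply]

/-- `E⁻(u)` as an element of `G₂(F)` -/
noncomputable def EmG (u0 u1 u2 : F) : G2 F := tauG * EpG u0 u1 u2 * tauG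

theorem gact_EmG (u0 u1 u2 : F) (x : Fin 8 → F) :
    gact (EmG u0 u1 u2) x = ![x 0 - (u0 * x 1 + u1 * x 2 + u2 * x 3),
    x 1 + (u1 * x 6 - u2 * x 5),
    x 2 + (u2 * x 4 - u0 * x 6),
    x 3 + (u0 * x 5 - u1 * x 4),
    x 4 + (x 0 - x 7) * u0 - (u0 * x 1 + u1 * x 2 + u2 * x 3) * u0,
    x 5 + (x 0 - x 7) * u1 - (u0 * x 1 + u1 * x 2 + u2 * x 3) * u1,
    x 6 + (x 0 - x 7) * u2 - (u0 * x 1 + u1 * x 2 + u2 * x 3) * u2,
    x 7 + (u0 * x 1 + u1 * x 2 + u2 * x 3)] := by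
  rw [EmG, gact_mul, gact_mul, gact_tauG, gact_EpG, gact_tauG]
  ext i
  fin_cases i <;> simp <;> ring

end Cfsg.Agent.Lib.helper37
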