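import Mathlib

set_option autoImplicit false

namespace Cfsg.Agent.Lib.helper37

open Matrix

variable {F : Type*} [Field F] (n : ℕ)

/-- block matrix built from `n` elements of `SL₂`. -/
def dMat (g : Fin n → Matrix.SpecialLinearGroup (Fin 2) F) :
    Matrix (Fin n ⊕ Fin n) (Fin n ⊕ Fin n) F :=
  Matrix.fromBlocks (Matrix.diagonal fun i => (g i).1 0 0) (Matrix.diagonal fun i => (g i).1 0 1)
    (Matrix.diagonal fun i => (g i).1 1 0) (Matrix.diagonal fun i => (g i).1 1 1)

theorem dMat_mem (g : Fin n → Matrix.SpecialLinearGroup (Fin 2) F) :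
    dMat n g ∈ Matrix.symplecticGroup (Fin n) F := by
  rw [dMat, SymplecticGroup.fromBlocks_mem_iff]
  have hdet : ∀ i, (g i).1 0 0 * (g i).1 1 1 - (g i).1 0 1 * (g i).1 1 0 = 1 := by
    intro i
    have := (g i).2
    rw [Matrix.det_fin_two] at this
    exact this
  simp only [Matrix.diagonal_transpose, Matrix.diagonal_mul_diagonal]
  refine ⟨?_, ?_, ?_⟩
  · congr 1; funext i; ring
  · congr 1; funext i; ring
  · ext i j
    by_cases h : i = j
    · subst h
      simp only [Matrix.sub_apply, Matrix.diagonal_apply_eq, Matrix.one_apply_eq]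
      linear_combination hdet i
    · simp [h]

theorem dMat_mul (g h : Fin n → Matrix.SpecialLinearGroup (Fin 2) F) :
    dMat n (g * h) = dMat n g * dMat n h := by
  rw [dMat, dMat, dMat, Matrix.fromBlocks_multiply]
  simp only [Matrix.diagonal_mul_diagonal, Matrix.diagonal_add, Pi.mul_apply,
    Matrix.SpecialLinearGroup.coe_mul, Matrix.mul_apply, Fin.sum_univ_two]

theorem dMat_one : dMat n (1 : Fin n → Matrix.SpecialLinearGroup (Fin 2) F) = 1 := by
  rw [dMat, ← Matrix.fromBlocks_one]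
  congr 1 <;> ext i j <;> by_cases h : i = j <;> simp [h, Matrix.one_apply]

/-- the block-diagonal embedding `SL₂(F)ⁿ → Sp₂ₙ(F)`. -/
def dHom : (Fin n → Matrix.SpecialLinearGroup (Fin 2) F) →* Matrix.symplecticGroup (Fin n) F where
  toFun g := ⟨dMat n g, dMat_mem n g⟩
  map_one' := Subtype.ext (dMat_one n)
  map_mul' g h := Subtype.ext (dMat_mul n g h)

theorem dHom_coe (g : Fin n → Matrix.SpecialLinearGroup (Fin 2) F) :
    ((dHom n g : Matrix.symplecticGroup (Fin n) F) : Matrix (Fin n ⊕ Fin n) (Fin n ⊕ Fin n) F)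
      = dMat n g := rfl

/-- simultaneous permutation matrix. -/
def pMat (σ : Equiv.Perm (Fin n)) : Matrix (Fin n ⊕ Fin n) (Fin n ⊕ Fin n) F :=
  Matrix.fromBlocks ((σ⁻¹).permMatrix F) 0 0 ((σ⁻¹).permMatrix F)

theorem permMatrix_inv_mul (σ : Equiv.Perm (Fin n)) :
    (σ⁻¹).permMatrix F * σ.permMatrix F = 1 := by
  rw [← Matrix.permMatrix_mul]; simp

theorem pMat_mem (σ : Equiv.Perm (Fin n)) :
    pMat (F := F) n σ ∈ Matrix.symplecticGroup (Fin n) F := by
  rw [pMat, SymplecticGroup.fromBlocks_mem_iff]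
  refine ⟨by simp, by simp, ?_⟩
  rw [Matrix.transpose_permMatrix, inv_inv, Matrix.mul_zero, sub_zero, ← Matrix.permMatrix_mul]
  simp

theorem pMat_mul (σ τ : Equiv.Perm (Fin n)) :
    pMat (F := F) n (σ * τ) = pMat n σ * pMat n τ := by
  rw [pMat, pMat, pMat, Matrix.fromBlocks_multiply]
  simp [_root_.mul_inv_rev, Matrix.permMatrix_mul]

theorem pMat_one : pMat (F := F) n 1 = 1 := by
  rw [pMat, ← Matrix.fromBlocks_one]; simp

/-- permutation matrices as a homomorphism into `Sp₂ₙ(F)`. -/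
def pHom : Equiv.Perm (Fin n) →* Matrix.symplecticGroup (Fin n) F where
  toFun σ := ⟨pMat n σ, pMat_mem n σ⟩
  map_one' := Subtype.ext (pMat_one n)
  map_mul' σ τ := Subtype.ext (pMat_mul n σ τ)

theorem permMatrix_mul_diagonal (τ : Equiv.Perm (Fin n)) (d : Fin n → F) :
    τ.permMatrix F * Matrix.diagonal d = Matrix.diagonal (fun i => d (τ i)) * τ.permMatrix F := by
  rw [Equiv.Perm.permMatrix, PEquiv.toMatrix_toPEquiv_mul, PEquiv.mul_toMatrix_toPEquiv]
  ext i j
  simp only [Matrix.submatrix_apply, id, Matrix.diagonal_apply]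
  by_cases h : τ i = j
  · subst h; simp
  · have : ¬ i = τ.symm j := fun h' => h (by rw [h']; simp)
    simp [h, this]

theorem pMat_mul_dMat (σ : Equiv.Perm (Fin n)) (g : Fin n → Matrix.SpecialLinearGroup (Fin 2) F) :
    pMat n σ * dMat n g = dMat n (fun i => g (σ⁻¹ i)) * pMat n σ := by
  rw [pMat, dMat, dMat, Matrix.fromBlocks_multiply, Matrix.fromBlocks_multiply]
  simp only [Matrix.zero_mul, Matrix.mul_zero, add_zero, zero_add, permMatrix_mul_diagonal]

theorem pHom_mul_dHom (σ : Equiv.Perm (Fin n)) (g : Fin n → Matrix.SpecialLinearGroup (Fin 2) F) :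
    pHom n σ * dHom n g = dHom n (fun i => g (σ⁻¹ i)) * pHom n σ :=
  Subtype.ext (pMat_mul_dMat n σ g)

theorem dHom_eq_pHom (σ : Equiv.Perm (Fin n)) (g : Fin n → Matrix.SpecialLinearGroup (Fin 2) F)
    (h : dHom n g = pHom (F := F) n σ) : g = 1 ∧ σ = 1 := by
  have h1 : dMat n g = pMat (F := F) n σ := congrArg Subtype.val h
  rw [dMat, pMat, Matrix.fromBlocks_inj] at h1
  obtain ⟨h11, h12, h21, h22⟩ := h1
  have hσ : σ = 1 := by
    ext j
    by_contra hne
    have h3 := congrFun (congrFun h11 (σ j)) j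
    rw [Matrix.diagonal_apply_ne _ (fun h' => hne (by rw [h']; simp))] at h3
    simp [Equiv.Perm.permMatrix, PEquiv.toMatrix_apply, Equiv.toPEquiv_apply] at h3
  subst hσ
  refine ⟨?_, rfl⟩
  funext i
  apply Subtype.ext
  ext a b
  have e11 := congrFun (congrFun h11 i) i
  have e12 := congrFun (congrFun h12 i) i
  have e21 := congrFun (congrFun h21 i) i
  have e22 := congrFun (congrFun h22 i) i
  simp only [Matrix.diagonal_apply_eq, inv_one, Matrix.permMatrix_one, Matrix.one_apply_eq,
    Matrix.zero_apply] at e11 e12 e21 e22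
  fin_cases a <;> fin_cases b <;> simp [e11, e12, e21, e22]

theorem dHom_injective : Function.Injective (dHom (F := F) n) := by
  intro g h hgh
  have h1 : dMat n g = dMat n h := congrArg Subtype.val hgh
  rw [dMat, dMat, Matrix.fromBlocks_inj] at h1
  obtain ⟨h11, h12, h21, h22⟩ := h1
  funext i
  apply Subtype.ext
  ext a b
  have e11 := congrFun (congrFun h11 i) i
  have e12 := congrFun (congrFun h12 i) i
  have e21 := congrFun (congrFun h21 i) i
  have e22 := congrFun (congrFun h22 i) i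
  simp only [Matrix.diagonal_apply_eq] at e11 e12 e21 e22
  fin_cases a <;> fin_cases b <;> simp [e11, e12, e21, e22]

theorem pHom_injective : Function.Injective (pHom (F := F) n) := by
  intro σ τ h
  have h1 : dHom n 1 = pHom (F := F) n (τ⁻¹ * σ) := by
    rw [map_one, map_mul, h, ← map_mul]; simp
  have := (dHom_eq_pHom n _ _ h1).2
  exact (inv_mul_eq_one.mp this).symm

end Cfsg.Agent.Lib.helper37
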