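import Mathlib

set_option autoImplicit false
open scoped commutatorElement

namespace Cfsg.Agent.Lib.helper37

/-- every square of an element of `H` lies in the derived subgroup of `H`. -/
def SqC {G : Type*} [Group G] (H : Subgroup G) : Prop := ∀ x ∈ H, x ^ 2 ∈ ⁅H, H⁆

theorem sqC_of_closure {G : Type*} [Group G] (H : Subgroup G) (S : Set G)
    (hS : H = Subgroup.closure S) (hsq : ∀ s ∈ S, s ^ 2 ∈ ⁅H, H⁆) : SqC H := by
  intro x hx
  have key : ∀ y ∈ Subgroup.closure S, y ∈ H ∧ y ^ 2 ∈ ⁅H, H⁆ := by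
    intro y hy
    induction hy using Subgroup.closure_induction with
    | mem s hs => exact ⟨hS ▸ Subgroup.subset_closure hs, hsq s hs⟩
    | one => exact ⟨H.one_mem, by simp⟩
    | mul a b _ _ iha ihb =>
      refine ⟨H.mul_mem iha.1 ihb.1, ?_⟩
      have h1 : (a * b) ^ 2 = a ^ 2 * ⁅a⁻¹, b⁆ * b ^ 2 := by
        simp only [commutatorElement_def, pow_two]; group
      rw [h1]
      exact Subgroup.mul_mem _ (Subgroup.mul_mem _ iha.2
        (Subgroup.commutator_mem_commutator (H.inv_mem iha.1) ihb.1)) ihb.2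
    | inv a _ iha =>
      refine ⟨H.inv_mem iha.1, ?_⟩
      have h1 : (a⁻¹) ^ 2 = (a ^ 2)⁻¹ := by simp
      rw [h1]
      exact Subgroup.inv_mem _ iha.2
  exact (key x (hS ▸ hx)).2

theorem SqC.map {G G' : Type*} [Group G] [Group G'] {H : Subgroup G} (h : SqC H) (f : G →* G') :
    SqC (H.map f) := by
  intro y hy
  obtain ⟨x, hx, rfl⟩ := hy
  rw [← Subgroup.map_commutator, ← map_pow]
  exact Subgroup.mem_map_of_mem f (h x hx)

theorem SqC.coe {G : Type*} [Group G] {H : Subgroup G} (h : SqC H) :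
    ∀ x : ↥H, x ^ 2 ∈ commutator ↥H := by
  intro x
  have h1 : ((x : G)) ^ 2 ∈ ⁅H, H⁆ := h x x.2
  rw [← Subgroup.map_subtype_commutator] at h1
  obtain ⟨y, hy, hyx⟩ := h1
  have : y = x ^ 2 := by
    apply Subtype.ext
    simpa using hyx
  rw [← this]
  exact hy

theorem sqC_of_coe {G : Type*} [Group G] {H : Subgroup G}
    (h : ∀ x : ↥H, x ^ 2 ∈ commutator ↥H) : SqC H := by
  intro x hx
  rw [← Subgroup.map_subtype_commutator]
  exact ⟨(⟨x, hx⟩ : ↥H) ^ 2, h ⟨x, hx⟩, by simp⟩

/-- transfer along an isomorphism of types -/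
theorem sq_mem_commutator_of_mulEquiv {K L : Type*} [Group K] [Group L] (e : K ≃* L)
    (h : ∀ y : L, y ^ 2 ∈ commutator L) : ∀ x : K, x ^ 2 ∈ commutator K := by
  intro x
  have h1 := h (e x)
  have h2 : e.symm ((e x) ^ 2) ∈ (commutator L).map e.symm.toMonoidHom :=
    Subgroup.mem_map_of_mem _ h1
  have h3 : (commutator L).map e.symm.toMonoidHom = commutator K := by
    rw [commutator_def, commutator_def, Subgroup.map_commutator]
    have : (⊤ : Subgroup L).map e.symm.toMonoidHom = ⊤ := by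
      rw [← MonoidHom.range_eq_map]
      exact MonoidHom.range_eq_top.mpr e.symm.surjective
    rw [this]
  rw [h3] at h2
  simpa using h2

/-- a `2`-subgroup of odd index with the square property forces it on all Sylow `2`-subgroups. -/
theorem sqC_sylow_of_sub {G : Type*} [Group G] [Finite G] (P : Subgroup G) (hP : IsPGroup 2 P)
    (hidx : ¬ 2 ∣ P.index) (hsq : SqC P) (Q : Sylow 2 G) : SqC (Q : Subgroup G) := by
  have : Fact (Nat.Prime 2) := ⟨Nat.prime_two⟩
  let P' : Sylow 2 G := hP.toSylow hidx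
  obtain ⟨g, hg⟩ := MulAction.exists_smul_eq G P' Q
  have h1 : (Q : Subgroup G) = (P : Subgroup G).map (MulAut.conj g).toMonoidHom := by
    rw [← hg]
    rfl
  rw [h1]
  exact hsq.map _

/-- numeric criterion for odd index -/
theorem odd_index_of_card_ge {G : Type*} [Group G] [Finite G] (P : Subgroup G) (hP : IsPGroup 2 P)
    (hc : 2 ^ padicValNat 2 (Nat.card G) ≤ Nat.card P) : ¬ 2 ∣ P.index := by
  have : Fact (Nat.Prime 2) := ⟨Nat.prime_two⟩
  obtain ⟨k, hk⟩ := (IsPGroup.iff_card).mp hP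
  intro h2
  have h3 : Nat.card P * P.index = Nat.card G := Subgroup.card_mul_index P
  have h4 : 2 ^ (k + 1) ∣ Nat.card G := by
    rw [← h3, hk, pow_succ]
    exact Nat.mul_dvd_mul_left _ h2
  have hG : Nat.card G ≠ 0 := Nat.card_pos.ne'
  have h5 : k + 1 ≤ padicValNat 2 (Nat.card G) :=
    (padicValNat_dvd_iff_le hG).mp h4
  rw [hk] at hc
  have h6 : padicValNat 2 (Nat.card G) ≤ k := (Nat.pow_le_pow_iff_right (by norm_num)).mp hc
  omega

theorem quat_a_two_pow (n : ℕ) (m : ℕ) :
    (QuaternionGroup.a 2 : QuaternionGroup n) ^ m = QuaternionGroup.a (2 * (m : ZMod (2 * n))) := by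
  induction m with
  | zero =>
    rw [pow_zero, QuaternionGroup.one_def]; congr 1; simp
  | succ m ih =>
    rw [pow_succ, ih, QuaternionGroup.a_mul_a]
    congr 1
    push_cast
    ring

theorem quat_a_two_mem (n : ℕ) :
    (QuaternionGroup.a 2 : QuaternionGroup n) ∈ commutator (QuaternionGroup n) := by
  have h : ⁅(QuaternionGroup.a 1 : QuaternionGroup n), (QuaternionGroup.xa 0 : QuaternionGroup n)⁆
      = QuaternionGroup.a 2 := by
    have hn : ((n : ZMod (2 * n)) + n) = 0 := by
      have : ((2 * n : ℕ) : ZMod (2 * n)) = 0 := ZMod.natCast_self _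
      push_cast at this
      rw [← this]; ring
    rw [commutatorElement_def]
    have hi1 : (QuaternionGroup.a 1 : QuaternionGroup n)⁻¹ = QuaternionGroup.a (-1) := rfl
    have hi2 : (QuaternionGroup.xa 0 : QuaternionGroup n)⁻¹ = QuaternionGroup.xa (n + 0) := rfl
    rw [hi1, hi2, QuaternionGroup.a_mul_xa, QuaternionGroup.xa_mul_a, QuaternionGroup.xa_mul_xa]
    congr 1
    linear_combination hn
  rw [← h, commutator_def]
  exact Subgroup.commutator_mem_commutator (Subgroup.mem_top _) (Subgroup.mem_top _)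

theorem quaternion_sq_mem_commutator (k : ℕ) (hk : 1 ≤ k) :
    ∀ y : QuaternionGroup (2 ^ k), y ^ 2 ∈ commutator (QuaternionGroup (2 ^ k)) := by
  have hne : NeZero (2 * 2 ^ k) := ⟨by positivity⟩
  intro y
  cases y with
  | a i =>
    have h1 : (QuaternionGroup.a i : QuaternionGroup (2 ^ k)) ^ 2
        = (QuaternionGroup.a 2) ^ (i.val) := by
      rw [quat_a_two_pow, pow_two, QuaternionGroup.a_mul_a, ZMod.natCast_zmod_val]
      congr 1; ring
    rw [h1]
    exact Subgroup.pow_mem _ (quat_a_two_mem _) _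
  | xa i =>
    have h1 : (QuaternionGroup.xa i : QuaternionGroup (2 ^ k)) ^ 2
        = (QuaternionGroup.a 2) ^ (2 ^ (k - 1)) := by
      rw [quat_a_two_pow, pow_two, QuaternionGroup.xa_mul_xa]
      congr 1
      have h2 : (2 ^ k : ℕ) = 2 * 2 ^ (k - 1) := by
        rw [← pow_succ']; congr 1; omega
      have h3 : (((2 ^ k : ℕ)) : ZMod (2 * 2 ^ k)) = 2 * ((2 ^ (k - 1) : ℕ) : ZMod (2 * 2 ^ k)) := by
        have := congrArg (fun t : ℕ => (t : ZMod (2 * 2 ^ k))) h2
        simpa using this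
      rw [h3]; ring
    rw [h1]
    exact Subgroup.pow_mem _ (quat_a_two_mem _) _

end Cfsg.Agent.Lib.helper37
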