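import Mathlib
import Cfsg.Agent.S0261
import Cfsg.Agent.S0245
import Cfsg.Agent.Lib.helper69.SymSylow
import Cfsg.Agent.Lib.helper46.SL2Sylow
import Cfsg.Agent.Lib.helper37.SqComm
import Cfsg.Agent.Lib.helper37.SpBlocks

set_option autoImplicit false
open scoped commutatorElement

namespace Cfsg.Agent.Lib.helper37

theorem v2_pow_sub_one (q : ℕ) (hq1 : 1 < q) (hq2 : ¬ 2 ∣ q) (i : ℕ) :
    padicValNat 2 (q ^ (2 * (i + 1)) - 1) = padicValNat 2 (q ^ 2 - 1) + padicValNat 2 (i + 1) := by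
  have h1 := padicValNat.pow_two_sub_one hq1 hq2 (n := 2 * (i + 1)) (by omega) (even_two_mul _)
  have h2 := padicValNat.pow_two_sub_one hq1 hq2 (n := 2) (by omega) even_two
  have h3 : padicValNat 2 (2 * (i + 1)) = 1 + padicValNat 2 (i + 1) := by
    rw [padicValNat.mul (by norm_num) (by omega)]
    simp
  have h4 : padicValNat 2 2 = 1 := by simp
  omega

theorem v2_sp_prod (q : ℕ) (hq1 : 1 < q) (hq2 : ¬ 2 ∣ q) (m : ℕ) :
    (∏ i ∈ Finset.range m, (q ^ (2 * (i + 1)) - 1)) ≠ 0 ∧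
    padicValNat 2 (∏ i ∈ Finset.range m, (q ^ (2 * (i + 1)) - 1))
      = m * padicValNat 2 (q ^ 2 - 1) + padicValNat 2 (Nat.factorial m) := by
  have hpos : ∀ i : ℕ, q ^ (2 * (i + 1)) - 1 ≠ 0 := by
    intro i
    have : 1 < q ^ (2 * (i + 1)) := Nat.one_lt_pow (by omega) hq1
    omega
  induction m with
  | zero => simp
  | succ m ih =>
    rw [Finset.prod_range_succ]
    refine ⟨mul_ne_zero ih.1 (hpos m), ?_⟩
    rw [padicValNat.mul ih.1 (hpos m), ih.2, v2_pow_sub_one q hq1 hq2 m, Nat.factorial_succ,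
      padicValNat.mul (by omega) (Nat.factorial_ne_zero m)]
    ring

theorem v2_sp_card (q : ℕ) (hq1 : 1 < q) (hq2 : ¬ 2 ∣ q) (m : ℕ) :
    padicValNat 2 (q ^ (m ^ 2) * ∏ i ∈ Finset.range m, (q ^ (2 * (i + 1)) - 1))
      = m * padicValNat 2 (q ^ 2 - 1) + padicValNat 2 (Nat.factorial m) := by
  obtain ⟨h0, h1⟩ := v2_sp_prod q hq1 hq2 m
  have hq0 : q ^ (m ^ 2) ≠ 0 := pow_ne_zero _ (by omega)
  have hq3 : ¬ 2 ∣ q ^ (m ^ 2) := fun h => hq2 (Nat.prime_two.dvd_of_dvd_pow h)
  rw [padicValNat.mul hq0 h0, h1, padicValNat.eq_zero_of_not_dvd hq3]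
  simp

theorem v2_sl2_card (q : ℕ) (hq1 : 1 < q) (hq2 : ¬ 2 ∣ q) :
    padicValNat 2 (q * (q ^ 2 - 1)) = padicValNat 2 (q ^ 2 - 1) := by
  have h : q ^ 2 - 1 ≠ 0 := by
    have : 1 < q ^ 2 := Nat.one_lt_pow (by omega) hq1
    omega
  rw [padicValNat.mul (by omega) h, padicValNat.eq_zero_of_not_dvd hq2]
  simp


section

variable {F : Type*} [Field F] [Fintype F]

/-- Sylow `2`-subgroups of `Sp₂ₙ(F)`, `|F|` odd, have elementary abelian abelianization. -/
theorem sp_sylow_sqC (hF : Odd (Fintype.card F)) (n : ℕ)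
    (P : Sylow 2 (Matrix.symplecticGroup (Fin n) F)) :
    SqC (P : Subgroup (Matrix.symplecticGroup (Fin n) F)) := by
  classical
  have hfact : Fact (Nat.Prime 2) := ⟨Nat.prime_two⟩
  set q := Fintype.card F with hq
  have hq1 : 1 < q := Fintype.one_lt_card
  have hq2 : ¬ 2 ∣ q := by
    intro h; exact (Nat.not_even_iff_odd.mpr hF) (even_iff_two_dvd.mpr h)
  set c := padicValNat 2 (q ^ 2 - 1) with hc
  obtain ⟨Q⟩ : Nonempty (Sylow 2 (Matrix.SpecialLinearGroup (Fin 2) F)) := inferInstance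
  obtain ⟨T⟩ : Nonempty (Sylow 2 (Equiv.Perm (Fin n))) := inferInstance
  have hQsq : ∀ x : ↥(Q : Subgroup (Matrix.SpecialLinearGroup (Fin 2) F)),
      x ^ 2 ∈ commutator ↥(Q : Subgroup (Matrix.SpecialLinearGroup (Fin 2) F)) := by
    obtain ⟨k, hk, ⟨e⟩⟩ := Cfsg.Agent.S0261.result hF Q
    exact sq_mem_commutator_of_mulEquiv e (quaternion_sq_mem_commutator k hk)
  have hQcard : Nat.card ↥(Q : Subgroup (Matrix.SpecialLinearGroup (Fin 2) F)) = 2 ^ c := by
    rw [Sylow.card_eq_multiplicity, Cfsg.Agent.Lib.helper46.card_SL2' (F := F) rfl,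
      Nat.factorization_def _ Nat.prime_two, v2_sl2_card q hq1 hq2]
  have hTcard : Nat.card ↥(T : Subgroup (Equiv.Perm (Fin n)))
      = 2 ^ padicValNat 2 (Nat.factorial n) := by
    rw [Sylow.card_eq_multiplicity, Nat.card_perm, Nat.factorization_def _ Nat.prime_two]
    simp
  have hGcard : padicValNat 2 (Nat.card (Matrix.symplecticGroup (Fin n) F))
      = n * c + padicValNat 2 (Nat.factorial n) := by
    rw [Cfsg.Agent.S0245.result (F := F) rfl n, v2_sp_card q hq1 hq2 n]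
  let φ : (Fin n → ↥(Q : Subgroup (Matrix.SpecialLinearGroup (Fin 2) F))) →*
      Matrix.symplecticGroup (Fin n) F :=
    (dHom n).comp ((Q : Subgroup (Matrix.SpecialLinearGroup (Fin 2) F)).subtype.compLeft (Fin n))
  have hφ : ∀ f : Fin n → ↥(Q : Subgroup (Matrix.SpecialLinearGroup (Fin 2) F)),
      φ f = dHom n (fun i => (f i).1) := fun f => rfl
  have hφinj : Function.Injective φ := by
    intro f g hfg
    rw [hφ, hφ] at hfg
    have := dHom_injective n hfg
    funext i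
    exact Subtype.ext (congrFun this i)
  let B : Subgroup (Matrix.symplecticGroup (Fin n) F) := φ.range
  let TT : Subgroup (Matrix.symplecticGroup (Fin n) F) :=
    (T : Subgroup (Equiv.Perm (Fin n))).map (pHom n)
  have hconj : ∀ (σ : Equiv.Perm (Fin n))
      (f : Fin n → ↥(Q : Subgroup (Matrix.SpecialLinearGroup (Fin 2) F))),
      pHom n σ * φ f * (pHom n σ)⁻¹ = φ (fun i => f (σ⁻¹ i)) := by
    intro σ f
    rw [mul_inv_eq_iff_eq_mul, hφ, hφ]
    exact pHom_mul_dHom n σ _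
  have hnorm : TT ≤ Subgroup.normalizer (B : Set (Matrix.symplecticGroup (Fin n) F)) := by
    rw [Subgroup.le_normalizer_iff]
    rintro _ ⟨σ, hσ, rfl⟩ _ ⟨f, rfl⟩
    exact ⟨_, (hconj σ f).symm⟩
  have hBcard : Nat.card ↥B = 2 ^ (c * n) := by
    rw [← Nat.card_congr (MonoidHom.ofInjective hφinj).toEquiv, Nat.card_fun, hQcard,
      Nat.card_fin, pow_mul]
  have hBp : IsPGroup 2 ↥B := IsPGroup.of_card hBcard
  have hTTp : IsPGroup 2 ↥TT := IsPGroup.map T.isPGroup' (pHom n)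
  have hTTcard : Nat.card ↥TT = 2 ^ padicValNat 2 (Nat.factorial n) := by
    rw [← hTcard]
    exact Subgroup.card_map_of_injective (pHom_injective n)
  have hdisj : Disjoint B TT := by
    rw [Subgroup.disjoint_def]
    rintro x ⟨f, rfl⟩ ⟨σ, hσ, hσf⟩
    rw [hφ] at hσf
    have := (dHom_eq_pHom n σ _ hσf.symm).2
    rw [hφ, ← hσf, this, map_one]
  let Psub : Subgroup (Matrix.symplecticGroup (Fin n) F) := B ⊔ TT
  have hP2 : IsPGroup 2 ↥Psub := by
    have := IsPGroup.to_sup_of_normal_right' hTTp hBp hnorm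
    rwa [sup_comm] at this
  have hcard : 2 ^ padicValNat 2 (Nat.card (Matrix.symplecticGroup (Fin n) F))
      ≤ Nat.card ↥Psub := by
    rw [hGcard]
    have hinj := Subgroup.mul_injective_of_disjoint hdisj
    have h1 : Nat.card (↥B × ↥TT) ≤ Nat.card ↥Psub := by
      apply Nat.card_le_card_of_injective (fun g : ↥B × ↥TT =>
        (⟨(g.1 : Matrix.symplecticGroup (Fin n) F) * (g.2 : Matrix.symplecticGroup (Fin n) F),
          Subgroup.mul_mem _ ((le_sup_left : B ≤ Psub) g.1.2)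
            ((le_sup_right : TT ≤ Psub) g.2.2)⟩ : ↥Psub))
      intro g g' h
      exact hinj (congrArg Subtype.val h)
    rw [Nat.card_prod, hBcard, hTTcard] at h1
    calc 2 ^ (n * c + padicValNat 2 (Nat.factorial n))
        = 2 ^ (c * n) * 2 ^ padicValNat 2 (Nat.factorial n) := by rw [pow_add, mul_comm n c]
      _ ≤ _ := h1
  have hidx := odd_index_of_card_ge Psub hP2 hcard
  let S : Set (Matrix.symplecticGroup (Fin n) F) :=
    {x | ∃ i, ∃ y : ↥(Q : Subgroup (Matrix.SpecialLinearGroup (Fin 2) F)), x = φ (Pi.mulSingle i y)} ∪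
    {x | ∃ τ ∈ (T : Subgroup (Equiv.Perm (Fin n))), τ ^ 2 = 1 ∧ x = pHom n τ}
  have hgen : Psub = Subgroup.closure S := by
    apply le_antisymm
    · apply sup_le
      · rintro _ ⟨f, rfl⟩
        have : f ∈ (Subgroup.closure S).comap φ := by
          rw [← Finset.noncommProd_mulSingle f]
          apply Subgroup.noncommProd_mem
          intro i _
          exact Subgroup.subset_closure (Or.inl ⟨i, f i, rfl⟩)
        exact this
      · rintro _ ⟨τ, hτ, rfl⟩
        have hg := Cfsg.Agent.Lib.helper69.isGenP_sylow_perm 2 n T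
        have hle : Subgroup.closure {y : ↥(T : Subgroup (Equiv.Perm (Fin n))) | y ^ 2 = 1}
            ≤ (Subgroup.closure S).comap
              ((pHom n).comp (T : Subgroup (Equiv.Perm (Fin n))).subtype) := by
          rw [Subgroup.closure_le]
          intro y hy
          refine Subgroup.subset_closure (Or.inr ⟨y.1, y.2, ?_, rfl⟩)
          have := congrArg Subtype.val hy
          simpa using this
        have hmem : (⟨τ, hτ⟩ : ↥(T : Subgroup (Equiv.Perm (Fin n)))) ∈
            (Subgroup.closure S).comap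
              ((pHom n).comp (T : Subgroup (Equiv.Perm (Fin n))).subtype) :=
          hle (by rw [hg]; exact Subgroup.mem_top _)
        exact hmem
    · rw [Subgroup.closure_le]
      rintro x (⟨i, y, rfl⟩ | ⟨τ, hτ, _, rfl⟩)
      · exact (le_sup_left : B ≤ Psub) ⟨_, rfl⟩
      · exact (le_sup_right : TT ≤ Psub) (Subgroup.mem_map_of_mem _ hτ)
  have hsq : ∀ s ∈ S, s ^ 2 ∈ ⁅Psub, Psub⁆ := by
    rintro s (⟨i, y, rfl⟩ | ⟨τ, hτ, hτ2, rfl⟩)
    · let ψ : ↥(Q : Subgroup (Matrix.SpecialLinearGroup (Fin 2) F)) →*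
          Matrix.symplecticGroup (Fin n) F :=
        φ.comp (MonoidHom.mulSingle (fun _ : Fin n =>
          ↥(Q : Subgroup (Matrix.SpecialLinearGroup (Fin 2) F))) i)
      have h1 : (φ (Pi.mulSingle i y)) ^ 2 = ψ (y ^ 2) := by
        rw [map_pow]; rfl
      rw [h1]
      have h2 : ψ (y ^ 2) ∈ (commutator ↥(Q : Subgroup (Matrix.SpecialLinearGroup (Fin 2) F))).map ψ :=
        Subgroup.mem_map_of_mem _ (hQsq y)
      rw [commutator_def, Subgroup.map_commutator] at h2
      have h3 : (⊤ : Subgroup ↥(Q : Subgroup (Matrix.SpecialLinearGroup (Fin 2) F))).map ψ ≤ Psub := by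
        rintro _ ⟨z, _, rfl⟩
        exact (le_sup_left : B ≤ Psub) ⟨_, rfl⟩
      exact Subgroup.commutator_mono h3 h3 h2
    · rw [← map_pow, hτ2, map_one]
      exact Subgroup.one_mem _
  exact sqC_sylow_of_sub Psub hP2 hidx (sqC_of_closure Psub S hgen hsq) P

end

end Cfsg.Agent.Lib.helper37
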