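import Mathlib
import Cfsg.Agent.Lib.helper37.SpSylow

set_option autoImplicit false

namespace Cfsg.Agent.Lib.helper37

theorem odd_geom_sum (q : ℕ) (hq : Odd q) (j : ℕ) : Odd (∑ i ∈ Finset.range (2 * j + 1), q ^ i) := by
  induction j with
  | zero => simp
  | succ j ih =>
    have h : 2 * (j + 1) + 1 = (2 * j + 1) + 1 + 1 := by ring
    rw [h, Finset.sum_range_succ, Finset.sum_range_succ, add_assoc]
    exact ih.add_even ((hq.pow).add_odd (hq.pow))

theorem v2_pow_odd_sub_one (q : ℕ) (hq1 : 1 < q) (hq2 : ¬ 2 ∣ q) (j : ℕ) :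
    padicValNat 2 (q ^ (2 * j + 1) - 1) = padicValNat 2 (q - 1) := by
  have hodd : Odd q := Nat.odd_iff.mpr (by omega)
  have h1 := geom_sum_mul_add (q - 1) (2 * j + 1)
  have hq' : q - 1 + 1 = q := by omega
  rw [hq'] at h1
  have h2 : q ^ (2 * j + 1) - 1 = (∑ i ∈ Finset.range (2 * j + 1), q ^ i) * (q - 1) := by omega
  have h3 := odd_geom_sum q hodd j
  have h4 : ¬ 2 ∣ ∑ i ∈ Finset.range (2 * j + 1), q ^ i := by
    rw [← even_iff_two_dvd]; exact Nat.not_even_iff_odd.mpr h3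
  have h5 : (∑ i ∈ Finset.range (2 * j + 1), q ^ i) ≠ 0 := fun h => h4 (h ▸ dvd_zero 2)
  rw [h2, padicValNat.mul h5 (by omega), padicValNat.eq_zero_of_not_dvd h4, zero_add]

/-- `V n = Σ_{k=1}^{n} v₂(q^k - 1)`. -/
def v2Sum (q n : ℕ) : ℕ := ∑ k ∈ Finset.range n, padicValNat 2 (q ^ (k + 1) - 1)

theorem v2Sum_even (q : ℕ) (hq1 : 1 < q) (hq2 : ¬ 2 ∣ q) (m : ℕ) :
    v2Sum q (2 * m) = m * padicValNat 2 (q - 1) + m * padicValNat 2 (q ^ 2 - 1)
      + padicValNat 2 (Nat.factorial m) := by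
  induction m with
  | zero => simp [v2Sum]
  | succ m ih =>
    have h : 2 * (m + 1) = 2 * m + 1 + 1 := by ring
    have h' : 2 * m + 1 + 1 = 2 * (m + 1) := by ring
    unfold v2Sum at ih ⊢
    rw [h, Finset.sum_range_succ, Finset.sum_range_succ, ih, v2_pow_odd_sub_one q hq1 hq2 m, h',
      v2_pow_sub_one q hq1 hq2 m, Nat.factorial_succ,
      padicValNat.mul (by omega) (Nat.factorial_ne_zero m)]
    ring

theorem v2Sum_odd (q : ℕ) (hq1 : 1 < q) (hq2 : ¬ 2 ∣ q) (m : ℕ) :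
    v2Sum q (2 * m + 1) = (m + 1) * padicValNat 2 (q - 1) + m * padicValNat 2 (q ^ 2 - 1)
      + padicValNat 2 (Nat.factorial m) := by
  have h := v2Sum_even q hq1 hq2 m
  unfold v2Sum at h ⊢
  rw [Finset.sum_range_succ, h, v2_pow_odd_sub_one q hq1 hq2 m]
  ring

theorem padicValNat_finset_prod' {ι : Type*} (p : ℕ) [Fact p.Prime] (s : Finset ι) (f : ι → ℕ)
    (hf : ∀ i ∈ s, f i ≠ 0) :
    (∏ i ∈ s, f i) ≠ 0 ∧ padicValNat p (∏ i ∈ s, f i) = ∑ i ∈ s, padicValNat p (f i) := by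
  classical
  induction s using Finset.induction_on with
  | empty => simp
  | insert a s ha ih =>
    have h1 := ih (fun i hi => hf i (Finset.mem_insert_of_mem hi))
    have h2 := hf a (Finset.mem_insert_self a s)
    rw [Finset.prod_insert ha, Finset.sum_insert ha]
    exact ⟨mul_ne_zero h2 h1.1, by rw [padicValNat.mul h2 h1.1, h1.2]⟩

theorem v2_gl_prod (q : ℕ) (hq1 : 1 < q) (hq2 : ¬ 2 ∣ q) (n : ℕ) :
    padicValNat 2 (∏ i : Fin n, (q ^ n - q ^ (i : ℕ))) = v2Sum q n := by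
  have hfact : Fact (Nat.Prime 2) := ⟨Nat.prime_two⟩
  rw [Fin.prod_univ_eq_prod_range (fun i => q ^ n - q ^ i) n]
  have hterm : ∀ i ∈ Finset.range n, q ^ n - q ^ i = q ^ i * (q ^ (n - i) - 1) := by
    intro i hi
    have hi' : i < n := Finset.mem_range.mp hi
    have : q ^ n = q ^ i * q ^ (n - i) := by rw [← pow_add]; congr 1; omega
    rw [this, Nat.mul_sub, mul_one]
  have hne : ∀ i ∈ Finset.range n, q ^ n - q ^ i ≠ 0 := by
    intro i hi
    have hi' : i < n := Finset.mem_range.mp hi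
    have : q ^ i < q ^ n := Nat.pow_lt_pow_right hq1 hi'
    omega
  rw [(padicValNat_finset_prod' 2 _ _ hne).2]
  unfold v2Sum
  rw [← Finset.sum_range_reflect]
  apply Finset.sum_congr rfl
  intro i hi
  have hi' : i < n := Finset.mem_range.mp hi
  have hmem : n - 1 - i ∈ Finset.range n := Finset.mem_range.mpr (by omega)
  rw [hterm (n - 1 - i) hmem]
  have h1 : ¬ 2 ∣ q ^ (n - 1 - i) := fun h => hq2 (Nat.prime_two.dvd_of_dvd_pow h)
  have h2 : q ^ (n - (n - 1 - i)) - 1 ≠ 0 := by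
    have : 1 < q ^ (n - (n - 1 - i)) := Nat.one_lt_pow (by omega) hq1
    omega
  rw [padicValNat.mul (pow_ne_zero _ (by omega)) h2, padicValNat.eq_zero_of_not_dvd h1, zero_add]
  congr 3
  omega

end Cfsg.Agent.Lib.helper37
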