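import Mathlib
import Cfsg.Prelude.Def_G2
import Cfsg.Agent.S0242
import Cfsg.Agent.Lib.helper37.G2Base
import Cfsg.Agent.Lib.helper37.SLNum
import Cfsg.Agent.Lib.helper37.SpSylow

set_option autoImplicit false

namespace Cfsg.Agent.Lib.helper37

open Cfsg.Lie Matrix

variable {F : Type*} [Field F]

/-- the set of primitive idempotents of the Zorn algebra -/
def IdemSet (F : Type*) [Field F] : Set (Fin 8 → F) :=
  {x | zornMul x x = x ∧ x ≠ 0 ∧ x ≠ zOne F}

theorem gact_mem_IdemSet (g : G2 F) {x : Fin 8 → F} (hx : x ∈ IdemSet F) :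
    gact g x ∈ IdemSet F := by
  obtain ⟨h1, h2, h3⟩ := hx
  refine ⟨by rw [← gact_zornMul, h1], ?_, ?_⟩
  · intro h; apply h2; apply gact_injective g; rw [h, gact_zero]
  · intro h; apply h3; apply gact_injective g; rw [h, gact_zOne]

theorem mem_IdemSet_iff (x : Fin 8 → F) :
    x ∈ IdemSet F ↔ (x 0 + x 7 = 1 ∧ x 0 * x 7 = x 1 * x 4 + x 2 * x 5 + x 3 * x 6) := by
  constructor
  · rintro ⟨h1, h2, h3⟩
    rw [zornMul_coords] at h1
    have e0 := congrFun h1 0
    have e1 := congrFun h1 1
    have e2 := congrFun h1 2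
    have e3 := congrFun h1 3
    have e4 := congrFun h1 4
    have e5 := congrFun h1 5
    have e6 := congrFun h1 6
    have e7 := congrFun h1 7
    simp at e0 e1 e2 e3 e4 e5 e6 e7
    by_cases hs : x 0 + x 7 = 1
    · refine ⟨hs, ?_⟩
      linear_combination (x 0) * hs - e0
    · exfalso
      have hs' : x 0 + x 7 - 1 ≠ 0 := fun h => hs (by linear_combination h)
      have z1 : x 1 = 0 := by
        have : (x 0 + x 7 - 1) * x 1 = 0 := by linear_combination e1
        exact (mul_eq_zero.mp this).resolve_left hs'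
      have z2 : x 2 = 0 := by
        have : (x 0 + x 7 - 1) * x 2 = 0 := by linear_combination e2
        exact (mul_eq_zero.mp this).resolve_left hs'
      have z3 : x 3 = 0 := by
        have : (x 0 + x 7 - 1) * x 3 = 0 := by linear_combination e3
        exact (mul_eq_zero.mp this).resolve_left hs'
      have z4 : x 4 = 0 := by
        have : (x 0 + x 7 - 1) * x 4 = 0 := by linear_combination e4
        exact (mul_eq_zero.mp this).resolve_left hs'
      have z5 : x 5 = 0 := by
        have : (x 0 + x 7 - 1) * x 5 = 0 := by linear_combination e5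
        exact (mul_eq_zero.mp this).resolve_left hs'
      have z6 : x 6 = 0 := by
        have : (x 0 + x 7 - 1) * x 6 = 0 := by linear_combination e6
        exact (mul_eq_zero.mp this).resolve_left hs'
      have q0 : x 0 * (x 0 - 1) = 0 := by
        rw [z1, z2, z3] at e0; linear_combination e0
      have q7 : x 7 * (x 7 - 1) = 0 := by
        rw [z1, z2, z3] at e7; linear_combination e7
      rcases mul_eq_zero.mp q0 with a0 | a0 <;> rcases mul_eq_zero.mp q7 with a7 | a7
      · apply h2
        ext i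
        fin_cases i <;> simp [*]
      · apply hs
        rw [a0]; linear_combination a7
      · apply hs
        rw [a7]; linear_combination a0
      · apply h3
        have b0 : x 0 = 1 := by linear_combination a0
        have b7 : x 7 = 1 := by linear_combination a7
        ext i
        fin_cases i <;> simp [zOne, *]
  · rintro ⟨h1, h2⟩
    refine ⟨?_, ?_, ?_⟩
    · rw [zornMul_coords]
      ext i
      fin_cases i
      · simp; linear_combination (x 0) * h1 - h2
      · simp; linear_combination (x 1) * h1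
      · simp; linear_combination (x 2) * h1
      · simp; linear_combination (x 3) * h1
      · simp; linear_combination (x 4) * h1
      · simp; linear_combination (x 5) * h1
      · simp; linear_combination (x 6) * h1
      · simp; linear_combination (x 7) * h1 - h2
    · intro h
      rw [h] at h1
      simp at h1
    · intro h
      rw [h] at h1
      simp [zOne] at h1

/-- the basic idempotent -/
def e1 (F : Type*) [Field F] : Fin 8 → F := ![1, 0, 0, 0, 0, 0, 0, 0]

theorem e1_mem : e1 F ∈ IdemSet F := by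
  rw [mem_IdemSet_iff]
  simp [e1]

/-- every primitive idempotent is conjugate to `e1` -/
theorem exists_gact_eq_e1 {x : Fin 8 → F} (hx : x ∈ IdemSet F) : ∃ g : G2 F, gact g x = e1 F := by
  -- first stage: make the first coordinate `1`
  have stageA : ∃ g : G2 F, (gact g x) 0 = 1 := by
    obtain ⟨h1, h2⟩ := (mem_IdemSet_iff x).mp hx
    by_cases h4 : x 4 = 0
    · by_cases h5 : x 5 = 0
      · by_cases h6 : x 6 = 0
        · rw [h4, h5, h6] at h2
          have h2' : x 0 * x 7 = 0 := by linear_combination h2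
          rcases mul_eq_zero.mp h2' with a | a
          · refine ⟨tauG, ?_⟩
            rw [gact_tauG]
            simp
            linear_combination h1 - a
          · refine ⟨1, ?_⟩
            rw [gact_one]
            linear_combination h1 - a
        · refine ⟨EpG 0 0 ((x 0 - 1) / x 6), ?_⟩
          rw [gact_EpG]
          simp
          field_simp
          ring
      · refine ⟨EpG 0 ((x 0 - 1) / x 5) 0, ?_⟩
        rw [gact_EpG]
        simp
        field_simp
        ring
    · refine ⟨EpG ((x 0 - 1) / x 4) 0 0, ?_⟩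
      rw [gact_EpG]
      simp
      field_simp
      ring
  obtain ⟨gA, hA⟩ := stageA
  set y := gact gA x with hy
  have hyI : y ∈ IdemSet F := gact_mem_IdemSet gA hx
  obtain ⟨h1, h2⟩ := (mem_IdemSet_iff y).mp hyI
  have hy7 : y 7 = 0 := by linear_combination h1 - hA
  have hd : y 1 * y 4 + y 2 * y 5 + y 3 * y 6 = 0 := by
    rw [← h2, hy7, mul_zero]
  have s1 : gact (EpG (-y 1) (-y 2) (-y 3)) y = ![1, 0, 0, 0, y 4, y 5, y 6, 0] := by
    rw [gact_EpG]
    ext i
    fin_cases i
    · simp; linear_combination hA + hd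
    · simp; linear_combination (-y 1) * hA + (y 1) * hy7 - (y 1) * hd
    · simp; linear_combination (-y 2) * hA + (y 2) * hy7 - (y 2) * hd
    · simp; linear_combination (-y 3) * hA + (y 3) * hy7 - (y 3) * hd
    · simp; ring
    · simp; ring
    · simp; ring
    · simp; linear_combination hy7 - hd
  have s2 : gact (EmG (-y 4) (-y 5) (-y 6)) ![1, 0, 0, 0, y 4, y 5, y 6, 0] = e1 F := by
    rw [gact_EmG]
    ext i
    fin_cases i <;> simp [e1] <;> ring
  refine ⟨EmG (-y 4) (-y 5) (-y 6) * EpG (-y 1) (-y 2) (-y 3) * gA, ?_⟩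
  rw [gact_mul, gact_mul, ← hy, s1, s2]

/-! ### counting the primitive idempotents -/

theorem card_dot_fiber [Fintype F] [DecidableEq F] (a : Fin 3 → F) (ha : a ≠ 0) (c : F) :
    (Finset.univ.filter (fun b : Fin 3 → F => a 0 * b 0 + a 1 * b 1 + a 2 * b 2 = c)).card
      = Fintype.card F ^ 2 := by
  let φ : (Fin 3 → F) →+ F :=
    { toFun := fun b => a 0 * b 0 + a 1 * b 1 + a 2 * b 2
      map_zero' := by simp
      map_add' := by intro x y; simp; ring }
  have hφ : ∀ b, φ b = a 0 * b 0 + a 1 * b 1 + a 2 * b 2 := fun b => rfl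
  have hsurj : Function.Surjective φ := by
    intro d
    have : ∃ i, a i ≠ 0 := by
      by_contra h
      simp only [not_exists, not_not] at h
      exact ha (funext h)
    obtain ⟨i, hi⟩ := this
    refine ⟨Pi.single i (d / a i), ?_⟩
    rw [hφ]
    fin_cases i
    · simp at hi ⊢; field_simp
    · simp at hi ⊢; field_simp
    · simp at hi ⊢; field_simp
  have heq : ∀ d : F, (Finset.univ.filter (fun b => φ b = d)).card
      = (Finset.univ.filter (fun b => φ b = c)).card :=
    fun d => AddMonoidHom.card_fiber_eq_of_mem_range φ (hsurj d) (hsurj c)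
  have hsum := Finset.card_eq_sum_card_fiberwise (f := φ) (s := Finset.univ) (t := Finset.univ)
    (fun _ _ => Finset.mem_univ _)
  rw [Finset.sum_congr rfl (fun d _ => heq d), Finset.sum_const, Finset.card_univ,
    Finset.card_univ, smul_eq_mul] at hsum
  have h3 : Fintype.card (Fin 3 → F) = Fintype.card F ^ 3 := by simp
  rw [h3] at hsum
  have hq : 0 < Fintype.card F := Fintype.card_pos
  have h4 : Fintype.card F * Fintype.card F ^ 2 = Fintype.card F *
      (Finset.univ.filter (fun b => φ b = c)).card := by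
    rw [← hsum]; ring
  exact (Nat.eq_of_mul_eq_mul_left hq h4).symm

theorem card_idem_triples [Fintype F] [DecidableEq F] :
    Fintype.card {p : F × (Fin 3 → F) × (Fin 3 → F) //
      p.2.1 0 * p.2.2 0 + p.2.1 1 * p.2.2 1 + p.2.1 2 * p.2.2 2 = p.1 * (1 - p.1)}
      = Fintype.card F ^ 6 + Fintype.card F ^ 3 := by
  classical
  set q := Fintype.card F with hq
  rw [Fintype.card_subtype, Finset.card_filter, Fintype.sum_prod_type]
  simp_rw [Fintype.sum_prod_type]
  have inner : ∀ (α : F) (a : Fin 3 → F),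
      (∑ b : Fin 3 → F, if a 0 * b 0 + a 1 * b 1 + a 2 * b 2 = α * (1 - α) then 1 else 0)
        = if a = 0 then (if α * (1 - α) = 0 then q ^ 3 else 0) else q ^ 2 := by
    intro α a
    rw [← Finset.card_filter]
    by_cases h0 : a = 0
    · rw [if_pos h0]
      subst h0
      by_cases h1 : α * (1 - α) = 0
      · rw [if_pos h1, h1]
        simp [hq]
      · rw [if_neg h1]
        simp [Ne.symm h1]
    · rw [if_neg h0]
      exact card_dot_fiber a h0 _
  simp_rw [inner]
  have mid : ∀ α : F, (∑ a : Fin 3 → F,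
      if a = 0 then (if α * (1 - α) = 0 then q ^ 3 else 0) else q ^ 2)
        = (if α * (1 - α) = 0 then q ^ 3 else 0) + (q ^ 3 - 1) * q ^ 2 := by
    intro α
    rw [← Finset.add_sum_erase Finset.univ _ (Finset.mem_univ (0 : Fin 3 → F))]
    rw [if_pos rfl]
    congr 1
    rw [Finset.sum_congr rfl (fun a ha => if_neg (Finset.ne_of_mem_erase ha)), Finset.sum_const,
      Finset.card_erase_of_mem (Finset.mem_univ _), Finset.card_univ, smul_eq_mul]
    simp [hq]
  simp_rw [mid]
  rw [Finset.sum_add_distrib, Finset.sum_const, Finset.card_univ, smul_eq_mul]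
  have two : (∑ α : F, if α * (1 - α) = 0 then q ^ 3 else 0) = 2 * q ^ 3 := by
    rw [Finset.sum_ite, Finset.sum_const_zero, add_zero, Finset.sum_const, smul_eq_mul]
    congr 1
    have : (Finset.univ.filter (fun α : F => α * (1 - α) = 0)) = {0, 1} := by
      ext α
      simp only [Finset.mem_filter, Finset.mem_univ, true_and, Finset.mem_insert,
        Finset.mem_singleton, mul_eq_zero]
      constructor
      · rintro (h | h)
        · left; exact h
        · right; linear_combination -h
      · rintro (h | h)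
        · left; exact h
        · right; rw [h]; ring
    rw [this, Finset.card_pair zero_ne_one]
  rw [two]
  have hq1 : 1 ≤ q ^ 3 := Nat.one_le_pow _ _ Fintype.card_pos
  obtain ⟨m, hm⟩ : ∃ m, q ^ 3 = m + 1 := ⟨q ^ 3 - 1, by omega⟩
  have h6 : q ^ 6 = (q ^ 3) ^ 2 := by ring
  have h7 : q * ((q ^ 3 - 1) * q ^ 2) = (q ^ 3 - 1) * q ^ 3 := by ring
  rw [← hq, h7, h6, hm]
  simp only [Nat.add_sub_cancel]
  ring

/-- the primitive idempotents correspond to triples -/
def idemEquiv : ↥(IdemSet F) ≃ {p : F × (Fin 3 → F) × (Fin 3 → F) //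
      p.2.1 0 * p.2.2 0 + p.2.1 1 * p.2.2 1 + p.2.1 2 * p.2.2 2 = p.1 * (1 - p.1)} where
  toFun x := ⟨(x.1 0, ![x.1 1, x.1 2, x.1 3], ![x.1 4, x.1 5, x.1 6]), by
    obtain ⟨h1, h2⟩ := (mem_IdemSet_iff x.1).mp x.2
    simp
    linear_combination (x.1 0) * h1 - h2⟩
  invFun p := ⟨![p.1.1, p.1.2.1 0, p.1.2.1 1, p.1.2.1 2, p.1.2.2 0, p.1.2.2 1, p.1.2.2 2,
      1 - p.1.1], by
    rw [mem_IdemSet_iff]
    have := p.2
    constructor
    · simp
    · simp
      linear_combination -this⟩
  left_inv x := by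
    obtain ⟨h1, h2⟩ := (mem_IdemSet_iff x.1).mp x.2
    apply Subtype.ext
    ext i
    fin_cases i
    · simp
    · simp
    · simp
    · simp
    · simp
    · simp
    · simp
    · simp
      linear_combination -h1
  right_inv p := by
    apply Subtype.ext
    apply Prod.ext
    · simp
    · apply Prod.ext
      · ext i; fin_cases i <;> simp
      · ext i; fin_cases i <;> simp

theorem card_IdemSet [Fintype F] :
    Nat.card ↥(IdemSet F) = Fintype.card F ^ 6 + Fintype.card F ^ 3 := by
  classical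
  rw [Nat.card_congr idemEquiv, Nat.card_eq_fintype_card]
  exact card_idem_triples

/-! ### the action on primitive idempotents -/

noncomputable instance idemAction : MulAction (G2 F) ↥(IdemSet F) where
  smul g x := ⟨gact g x.1, gact_mem_IdemSet g x.2⟩
  one_smul x := Subtype.ext (gact_one x.1)
  mul_smul g h x := Subtype.ext (gact_mul g h x.1)

theorem idem_smul_val (g : G2 F) (x : ↥(IdemSet F)) : (g • x).1 = gact g x.1 := rfl

instance idemTrans : MulAction.IsPretransitive (G2 F) ↥(IdemSet F) := ⟨fun x y => by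
  obtain ⟨g, hg⟩ := exists_gact_eq_e1 x.2
  obtain ⟨h, hh⟩ := exists_gact_eq_e1 y.2
  refine ⟨h⁻¹ * g, Subtype.ext ?_⟩
  rw [idem_smul_val, gact_mul, hg, ← hh, gact_inv_gact]⟩

/-- the base point -/
def e1X (F : Type*) [Field F] : ↥(IdemSet F) := ⟨e1 F, e1_mem⟩

theorem card_G2_eq [Fintype F] :
    Nat.card (G2 F) = Nat.card ↥(MulAction.stabilizer (G2 F) (e1X F)) *
      (Fintype.card F ^ 6 + Fintype.card F ^ 3) := by
  rw [← card_IdemSet, ← MulAction.index_stabilizer_of_transitive (G2 F) (e1X F),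
    Subgroup.card_mul_index]

theorem stab_fix (g : ↥(MulAction.stabilizer (G2 F) (e1X F))) : gact g.1 (e1 F) = e1 F := by
  have := g.2
  rw [MulAction.mem_stabilizer_iff] at this
  exact congrArg Subtype.val this

/-! ### the stabilizer of `e1` -/

theorem e1_zornMul (x : Fin 8 → F) : zornMul (e1 F) x = ![x 0, x 1, x 2, x 3, 0, 0, 0, 0] := by
  rw [zornMul_coords]
  ext i
  fin_cases i <;> simp [e1]

theorem zornMul_e1 (x : Fin 8 → F) : zornMul x (e1 F) = ![x 0, 0, 0, 0, x 4, x 5, x 6, 0] := by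
  rw [zornMul_coords]
  ext i
  fin_cases i <;> simp [e1]

theorem stab_A (g : G2 F) (hg : gact g (e1 F) = e1 F) (x : Fin 8 → F)
    (h0 : x 0 = 0) (h4 : x 4 = 0) (h5 : x 5 = 0) (h6 : x 6 = 0) (h7 : x 7 = 0) :
    gact g x 0 = 0 ∧ gact g x 4 = 0 ∧ gact g x 5 = 0 ∧ gact g x 6 = 0 ∧ gact g x 7 = 0 := by
  have e1x : zornMul (e1 F) x = x := by
    rw [e1_zornMul]
    ext i
    fin_cases i <;> simp [h0, h4, h5, h6, h7]
  have xe1 : zornMul x (e1 F) = 0 := by
    rw [zornMul_e1]
    ext i
    fin_cases i <;> simp [h0, h4, h5, h6, h7]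
  have k1 := gact_zornMul g (e1 F) x
  rw [e1x, hg, e1_zornMul] at k1
  have k2 := gact_zornMul g x (e1 F)
  rw [xe1, gact_zero, hg, zornMul_e1] at k2
  refine ⟨?_, ?_, ?_, ?_, ?_⟩
  · have := congrFun k2 0; simpa using this.symm
  · have := congrFun k1 4; simpa using this
  · have := congrFun k1 5; simpa using this
  · have := congrFun k1 6; simpa using this
  · have := congrFun k1 7; simpa using this

theorem stab_B (g : G2 F) (hg : gact g (e1 F) = e1 F) (x : Fin 8 → F)
    (h0 : x 0 = 0) (h1 : x 1 = 0) (h2 : x 2 = 0) (h3 : x 3 = 0) (h7 : x 7 = 0) :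
    gact g x 0 = 0 ∧ gact g x 1 = 0 ∧ gact g x 2 = 0 ∧ gact g x 3 = 0 ∧ gact g x 7 = 0 := by
  have xe1 : zornMul x (e1 F) = x := by
    rw [zornMul_e1]
    ext i
    fin_cases i <;> simp [h0, h1, h2, h3, h7]
  have e1x : zornMul (e1 F) x = 0 := by
    rw [e1_zornMul]
    ext i
    fin_cases i <;> simp [h0, h1, h2, h3, h7]
  have k1 := gact_zornMul g x (e1 F)
  rw [xe1, hg, zornMul_e1] at k1
  have k2 := gact_zornMul g (e1 F) x
  rw [e1x, gact_zero, hg, e1_zornMul] at k2
  refine ⟨?_, ?_, ?_, ?_, ?_⟩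
  · have := congrFun k2 0; simpa using this.symm
  · have := congrFun k1 1; simpa using this
  · have := congrFun k1 2; simpa using this
  · have := congrFun k1 3; simpa using this
  · have := congrFun k1 7; simpa using this

/-- matrix entries of an element of `G₂(F)` -/
def gent (g : G2 F) (r c : Fin 8) : F := ((g : GL (Fin 8) F) : Matrix (Fin 8) (Fin 8) F) r c

theorem gent_eq (g : G2 F) (r c : Fin 8) : gent g r c = gact g (Pi.single c 1) r := by
  rw [gact, Matrix.mulVec_single_one]
  rfl

theorem gent_mul (g h : G2 F) (r c : Fin 8) :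
    gent (g * h) r c = ∑ k, gent g r k * gent h k c := by
  simp [gent, Matrix.mul_apply]

/-- indices of the `A`-space -/
def iA : Fin 3 → Fin 8 := ![1, 2, 3]

/-- indices of the `B`-space -/
def iB : Fin 3 → Fin 8 := ![4, 5, 6]

theorem stab_A_col (g : G2 F) (hg : gact g (e1 F) = e1 F) (j : Fin 3) :
    gact g (Pi.single (iA j) 1) 0 = 0 ∧ gact g (Pi.single (iA j) 1) 4 = 0 ∧
    gact g (Pi.single (iA j) 1) 5 = 0 ∧ gact g (Pi.single (iA j) 1) 6 = 0 ∧
    gact g (Pi.single (iA j) 1) 7 = 0 := by
  apply stab_A g hg <;> (fin_cases j <;> simp [iA, Pi.single_apply])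

theorem stab_B_col (g : G2 F) (hg : gact g (e1 F) = e1 F) (j : Fin 3) :
    gact g (Pi.single (iB j) 1) 0 = 0 ∧ gact g (Pi.single (iB j) 1) 1 = 0 ∧
    gact g (Pi.single (iB j) 1) 2 = 0 ∧ gact g (Pi.single (iB j) 1) 3 = 0 ∧
    gact g (Pi.single (iB j) 1) 7 = 0 := by
  apply stab_B g hg <;> (fin_cases j <;> simp [iB, Pi.single_apply])

/-- the action on the `A`-space -/
def A3 (g : G2 F) : Matrix (Fin 3) (Fin 3) F := Matrix.of fun i j => gent g (iA i) (iA j)

theorem A3_apply (g : G2 F) (i j : Fin 3) :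
    A3 g i j = gact g (Pi.single (iA j) 1) (iA i) := by
  rw [A3, Matrix.of_apply, gent_eq]

theorem A3_mul (g h : G2 F) (hh : gact h (e1 F) = e1 F) : A3 (g * h) = A3 g * A3 h := by
  ext i j
  obtain ⟨z0, z4, z5, z6, z7⟩ := stab_A_col h hh j
  rw [← gent_eq] at z0 z4 z5 z6 z7
  simp only [A3, Matrix.of_apply, Matrix.mul_apply, gent_mul, Fin.sum_univ_eight,
    Fin.sum_univ_three]
  rw [z0, z4, z5, z6, z7]
  simp [iA]

theorem A3_one : A3 (1 : G2 F) = 1 := by
  ext i j
  rw [A3_apply, gact_one]
  fin_cases i <;> fin_cases j <;> simp [iA, Pi.single_apply]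

theorem A3_det (g : G2 F) (hg : gact g (e1 F) = e1 F) : (A3 g).det = 1 := by
  have hb12 : zornMul (Pi.single 1 1 : Fin 8 → F) (Pi.single 2 1) = Pi.single 6 1 := by
    rw [zornMul_coords]
    ext i
    fin_cases i <;> simp [Pi.single_apply]
  have hb36 : zornMul (Pi.single 3 1 : Fin 8 → F) (Pi.single 6 1) = e1 F := by
    rw [zornMul_coords]
    ext i
    fin_cases i <;> simp [Pi.single_apply, e1]
  have k1 := gact_zornMul g (Pi.single 1 1) (Pi.single 2 1)
  rw [hb12, zornMul_coords] at k1
  have k2 := gact_zornMul g (Pi.single 3 1) (Pi.single 6 1)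
  rw [hb36, hg, zornMul_coords] at k2
  obtain ⟨a0, a4, a5, a6, a7⟩ := stab_A_col g hg 0
  obtain ⟨b0, b4, b5, b6, b7⟩ := stab_A_col g hg 1
  obtain ⟨c0, c4, c5, c6, c7⟩ := stab_A_col g hg 2
  simp [iA] at a0 a4 a5 a6 a7 b0 b4 b5 b6 b7 c0 c4 c5 c6 c7
  have W4 := congrFun k1 4
  have W5 := congrFun k1 5
  have W6 := congrFun k1 6
  have U0 := congrFun k2 0
  simp [a4, a5, a6, a7, b0, b4, b5, b6, b7] at W4 W5 W6
  simp [c0, e1] at U0
  rw [Matrix.det_fin_three]
  simp only [A3_apply]
  simp [iA]
  linear_combination -U0 - (gact g (Pi.single 3 1) 1) * W4 - (gact g (Pi.single 3 1) 2) * W5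
    - (gact g (Pi.single 3 1) 3) * W6

/-- the stabilizer acts on the `A`-space through `SL₃` -/
noncomputable def stabHom :
    ↥(MulAction.stabilizer (G2 F) (e1X F)) →* Matrix.SpecialLinearGroup (Fin 3) F where
  toFun g := ⟨A3 g.1, A3_det g.1 (stab_fix g)⟩
  map_one' := Subtype.ext A3_one
  map_mul' g h := Subtype.ext (A3_mul g.1 h.1 (stab_fix h))

theorem zornMul_single_A (i : Fin 3) (y : Fin 8 → F) :
    zornMul (Pi.single (iA i) 1) y 0 = y (iB i) := by
  rw [zornMul_coords]
  fin_cases i <;> simp [iA, iB, Pi.single_apply]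

theorem zornMul_AB (i j : Fin 3) :
    zornMul (Pi.single (iA i) 1 : Fin 8 → F) (Pi.single (iB j) 1) = if i = j then e1 F else 0 := by
  rw [zornMul_coords]
  fin_cases i <;> fin_cases j <;> (ext r; fin_cases r <;> simp [iA, iB, Pi.single_apply, e1])

theorem stab_eq_one (g : G2 F) (hg : gact g (e1 F) = e1 F) (hA : A3 g = 1) : g = 1 := by
  have colA : ∀ j : Fin 3, gact g (Pi.single (iA j) 1) = Pi.single (iA j) 1 := by
    intro j
    obtain ⟨z0, z4, z5, z6, z7⟩ := stab_A_col g hg j
    have h0 := congrFun (congrFun hA 0) j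
    have h1 := congrFun (congrFun hA 1) j
    have h2 := congrFun (congrFun hA 2) j
    rw [A3_apply] at h0 h1 h2
    fin_cases j
    all_goals
      simp [iA, Matrix.one_apply] at z0 z4 z5 z6 z7 h0 h1 h2 ⊢
      ext r
      fin_cases r <;> simp [Pi.single_apply, *]
  have colB : ∀ j : Fin 3, gact g (Pi.single (iB j) 1) = Pi.single (iB j) 1 := by
    intro j
    obtain ⟨z0, z1, z2, z3, z7⟩ := stab_B_col g hg j
    have hk : ∀ i : Fin 3, gact g (Pi.single (iB j) 1) (iB i) = if i = j then 1 else 0 := by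
      intro i
      have k := gact_zornMul g (Pi.single (iA i) 1) (Pi.single (iB j) 1)
      rw [zornMul_AB, colA i] at k
      have k0 := congrFun k 0
      rw [zornMul_single_A] at k0
      rw [← k0]
      split_ifs with h
      · rw [hg]; simp [e1]
      · rw [gact_zero]; rfl
    have h0 := hk 0
    have h1 := hk 1
    have h2 := hk 2
    fin_cases j
    all_goals
      simp [iB] at z0 z1 z2 z3 z7 h0 h1 h2 ⊢
      ext r
      fin_cases r <;> simp [Pi.single_apply, *]
  have col0 : gact g (Pi.single 0 1) = Pi.single 0 1 := by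
    have : (Pi.single 0 1 : Fin 8 → F) = e1 F := by
      ext r; fin_cases r <;> simp [e1, Pi.single_apply]
    rw [this, hg]
  have col7 : gact g (Pi.single 7 1) = Pi.single 7 1 := by
    have : (Pi.single 7 1 : Fin 8 → F) = zOne F - e1 F := by
      ext r; fin_cases r <;> simp [e1, zOne, Pi.single_apply]
    rw [this, gact_sub, gact_zOne, hg]
  have col : ∀ c : Fin 8, gact g (Pi.single c 1) = Pi.single c 1 := by
    intro c
    fin_cases c
    · exact col0
    · exact colA 0
    · exact colA 1
    · exact colA 2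
    · exact colB 0
    · exact colB 1
    · exact colB 2
    · exact col7
  apply Subtype.ext
  apply Units.ext
  ext r c
  have h := congrFun (col c) r
  rw [← gent_eq] at h
  rw [Subgroup.coe_one, Units.val_one, Matrix.one_apply]
  show gent g r c = _
  rw [h, Pi.single_apply]

theorem stabHom_injective :
    Function.Injective (stabHom : ↥(MulAction.stabilizer (G2 F) (e1X F)) →* _) := by
  rw [injective_iff_map_eq_one]
  intro g hg
  exact Subtype.ext (stab_eq_one g.1 (stab_fix g) (congrArg Subtype.val hg))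

/-- the `2`-part of the order of `G₂(q)`, `q` odd, is at most that of `SL₂(q)²` -/
theorem v2_card_G2_le [Fintype F] (hF : Odd (Fintype.card F)) :
    padicValNat 2 (Nat.card (G2 F)) ≤ 2 * padicValNat 2 (Fintype.card F ^ 2 - 1) := by
  classical
  have hfact : Fact (Nat.Prime 2) := ⟨Nat.prime_two⟩
  set q := Fintype.card F with hq
  have hq1 : 1 < q := Fintype.one_lt_card
  have hq2 : ¬ 2 ∣ q := by
    intro h; exact (Nat.not_even_iff_odd.mpr hF) (even_iff_two_dvd.mpr h)
  have hdvd : Nat.card (G2 F) ∣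
      Nat.card (Matrix.SpecialLinearGroup (Fin 3) F) * (q ^ 6 + q ^ 3) := by
    rw [card_G2_eq]
    exact Nat.mul_dvd_mul_right (Subgroup.card_dvd_of_injective stabHom stabHom_injective) _
  have hSLpos : Nat.card (Matrix.SpecialLinearGroup (Fin 3) F) ≠ 0 := Nat.card_pos.ne'
  have hSL : padicValNat 2 (Nat.card (Matrix.SpecialLinearGroup (Fin 3) F))
      = padicValNat 2 (q - 1) + padicValNat 2 (q ^ 2 - 1) := by
    have h1 := Cfsg.Agent.S0242.result (F := F) rfl 3 (by omega)
    have h2 := congrArg (padicValNat 2) h1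
    have h3 : v2Sum q 3 = 2 * padicValNat 2 (q - 1) + padicValNat 2 (q ^ 2 - 1) := by
      have := v2Sum_odd q hq1 hq2 1
      simpa using this
    rw [v2_gl_prod _ hq1 hq2, h3, padicValNat.mul (show q - 1 ≠ 0 by omega) hSLpos] at h2
    omega
  have hq3 : 1 ≤ q ^ 3 := Nat.one_le_pow _ _ (by omega)
  have hX : padicValNat 2 (q ^ 6 + q ^ 3) + padicValNat 2 (q - 1) = padicValNat 2 (q ^ 2 - 1) := by
    have e1' : q ^ 6 + q ^ 3 = q ^ 3 * (q ^ 3 + 1) := by ring
    have e2 : ¬ 2 ∣ q ^ 3 := fun h => hq2 (Nat.prime_two.dvd_of_dvd_pow h)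
    have e3 : (q ^ 3 + 1) * (q ^ 3 - 1) = q ^ 6 - 1 := by
      obtain ⟨m, hm⟩ : ∃ m, q ^ 3 = m + 1 := ⟨q ^ 3 - 1, by omega⟩
      have h6 : q ^ 6 = (q ^ 3) ^ 2 := by ring
      rw [h6, hm]
      simp only [Nat.add_sub_cancel]
      have : (m + 1) ^ 2 = (m + 1 + 1) * m + 1 := by ring
      rw [this, Nat.add_sub_cancel]
    have e4 : padicValNat 2 (q ^ 3 - 1) = padicValNat 2 (q - 1) := by
      have := v2_pow_odd_sub_one q hq1 hq2 1
      simpa using this
    have e5 : padicValNat 2 (q ^ 6 - 1) = padicValNat 2 (q ^ 2 - 1) := by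
      have := v2_pow_sub_one q hq1 hq2 2
      have h3 : padicValNat 2 (2 + 1) = 0 := by
        apply padicValNat.eq_zero_of_not_dvd; norm_num
      rw [h3] at this
      simpa using this
    have e6 : q ^ 3 - 1 ≠ 0 := by
      have : 1 < q ^ 3 := Nat.one_lt_pow (by omega) hq1
      omega
    have e7 := congrArg (padicValNat 2) e3
    rw [padicValNat.mul (show q ^ 3 + 1 ≠ 0 by omega) e6, e4, e5] at e7
    rw [e1', padicValNat.mul (show q ^ 3 ≠ 0 by omega) (show q ^ 3 + 1 ≠ 0 by omega),
      padicValNat.eq_zero_of_not_dvd e2, zero_add]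
    exact e7
  have hXpos : q ^ 6 + q ^ 3 ≠ 0 := by omega
  have hle : padicValNat 2 (Nat.card (G2 F)) ≤
      padicValNat 2 (Nat.card (Matrix.SpecialLinearGroup (Fin 3) F) * (q ^ 6 + q ^ 3)) := by
    have hne : Nat.card (Matrix.SpecialLinearGroup (Fin 3) F) * (q ^ 6 + q ^ 3) ≠ 0 :=
      mul_ne_zero hSLpos hXpos
    exact (padicValNat_dvd_iff_le hne).mp (dvd_trans pow_padicValNat_dvd hdvd)
  rw [padicValNat.mul hSLpos hXpos, hSL] at hle
  omega

end Cfsg.Agent.Lib.helper37
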