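import Mathlib
import Cfsg.Prelude.Def_G2
import Cfsg.Agent.Lib.helper37.G2Base

set_option autoImplicit false

namespace Cfsg.Agent.Lib.helper37

open Cfsg.Lie Matrix

variable {F : Type*} [Field F]

/-- projection to the complement of the quaternion subalgebra -/
def perpV (x : Fin 8 → F) : Fin 8 → F := ![0, 0, x 2, x 3, 0, x 5, x 6, 0]

/-! ### the long root `SL₂` -/

/-- linear map attached to a `2 × 2` matrix (long root `SL₂`) -/
def alpL (p q r s : F) : (Fin 8 → F) →ₗ[F] (Fin 8 → F) where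
  toFun x := ![x 0, x 1, s * x 2 - r * x 3, -q * x 2 + p * x 3, x 4, p * x 5 + q * x 6,
    r * x 5 + s * x 6, x 7]
  map_add' x y := by ext i; fin_cases i <;> simp <;> ring
  map_smul' c x := by ext i; fin_cases i <;> simp <;> ring

theorem alpL_apply (p q r s : F) (x : Fin 8 → F) :
    alpL p q r s x = ![x 0, x 1, s * x 2 - r * x 3, -q * x 2 + p * x 3, x 4, p * x 5 + q * x 6,
    r * x 5 + s * x 6, x 7] := rfl

theorem alpL_comp (p q r s p' q' r' s' : F) (x : Fin 8 → F) :
    alpL p q r s (alpL p' q' r' s' x) =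
      alpL (p * p' + q * r') (p * q' + q * s') (r * p' + s * r') (r * q' + s * s') x := by
  simp only [alpL_apply]
  ext i
  fin_cases i <;> simp <;> ring

theorem alpL_one (x : Fin 8 → F) : alpL 1 0 0 1 x = x := by
  rw [alpL_apply]
  ext i
  fin_cases i <;> simp

theorem alpL_zornMul_gen (p q r s : F) (x y : Fin 8 → F) :
    zornMul (alpL p q r s x) (alpL p q r s y) =
      alpL p q r s (zornMul x y) + (p * s - q * r - 1) • zornMul (perpV x) (perpV y) := by
  simp only [zornMul_coords, alpL_apply, perpV]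
  ext i
  fin_cases i <;> simp <;> ring

theorem alpL_zornMul (p q r s : F) (h : p * s - q * r = 1) (x y : Fin 8 → F) :
    alpL p q r s (zornMul x y) = zornMul (alpL p q r s x) (alpL p q r s y) := by
  rw [alpL_zornMul_gen, h, sub_self, zero_smul, add_zero]

theorem alpL_inv (p q r s : F) (h : p * s - q * r = 1) (x : Fin 8 → F) :
    alpL p q r s (alpL s (-q) (-r) p x) = x := by
  rw [alpL_comp]
  have e1 : p * s + q * (-r) = 1 := by linear_combination h
  have e2 : p * (-q) + q * p = 0 := by ring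
  have e3 : r * s + s * (-r) = 0 := by ring
  have e4 : r * (-q) + s * p = 1 := by linear_combination h
  rw [e1, e2, e3, e4, alpL_one]

/-! ### the short root `SL₂` -/

/-- linear map attached to a `2 × 2` matrix (short root `SL₂`) -/
def betL (p q r s : F) : (Fin 8 → F) →ₗ[F] (Fin 8 → F) where
  toFun x := ![(p * x 0 + q * x 1) * s - (p * x 4 + q * x 7) * r,
    (r * x 0 + s * x 1) * s - (r * x 4 + s * x 7) * r,
    p * x 2 + q * x 6,
    p * x 3 - q * x 5,
    -(p * x 0 + q * x 1) * q + (p * x 4 + q * x 7) * p,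
    s * x 5 - r * x 3,
    r * x 2 + s * x 6,
    -(r * x 0 + s * x 1) * q + (r * x 4 + s * x 7) * p]
  map_add' x y := by ext i; fin_cases i <;> simp <;> ring
  map_smul' c x := by ext i; fin_cases i <;> simp <;> ring

theorem betL_apply (p q r s : F) (x : Fin 8 → F) :
    betL p q r s x = ![(p * x 0 + q * x 1) * s - (p * x 4 + q * x 7) * r,
    (r * x 0 + s * x 1) * s - (r * x 4 + s * x 7) * r,
    p * x 2 + q * x 6,
    p * x 3 - q * x 5,
    -(p * x 0 + q * x 1) * q + (p * x 4 + q * x 7) * p,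
    s * x 5 - r * x 3,
    r * x 2 + s * x 6,
    -(r * x 0 + s * x 1) * q + (r * x 4 + s * x 7) * p] := rfl

theorem betL_comp (p q r s p' q' r' s' : F) (x : Fin 8 → F) :
    betL p q r s (betL p' q' r' s' x) =
      betL (p * p' + q * r') (p * q' + q * s') (r * p' + s * r') (r * q' + s * s') x := by
  simp only [betL_apply]
  ext i
  fin_cases i <;> simp <;> ring

theorem betL_one (x : Fin 8 → F) : betL 1 0 0 1 x = x := by
  rw [betL_apply]
  ext i
  fin_cases i <;> simp

theorem betL_zornMul_gen (p q r s : F) (x y : Fin 8 → F) :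
    zornMul (betL p q r s x) (betL p q r s y) =
      betL p q r s (zornMul x y) + (p * s - q * r - 1) •
        betL p q r s (zornMul x y - zornMul (perpV x) (perpV y)) := by
  simp only [zornMul_coords, betL_apply, perpV]
  ext i
  fin_cases i <;> simp <;> ring

theorem betL_zornMul (p q r s : F) (h : p * s - q * r = 1) (x y : Fin 8 → F) :
    betL p q r s (zornMul x y) = zornMul (betL p q r s x) (betL p q r s y) := by
  rw [betL_zornMul_gen, h, sub_self, zero_smul, add_zero]

theorem betL_inv (p q r s : F) (h : p * s - q * r = 1) (x : Fin 8 → F) :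
    betL p q r s (betL s (-q) (-r) p x) = x := by
  rw [betL_comp]
  have e1 : p * s + q * (-r) = 1 := by linear_combination h
  have e2 : p * (-q) + q * p = 0 := by ring
  have e3 : r * s + s * (-r) = 0 := by ring
  have e4 : r * (-q) + s * p = 1 := by linear_combination h
  rw [e1, e2, e3, e4, betL_one]

/-! ### group elements -/

theorem sl2_det (R : Matrix.SpecialLinearGroup (Fin 2) F) :
    R.1 0 0 * R.1 1 1 - R.1 0 1 * R.1 1 0 = 1 := by
  have := R.2
  rwa [Matrix.det_fin_two] at this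

/-- the long root `SL₂` inside `G₂(F)` -/
noncomputable def alpG (R : Matrix.SpecialLinearGroup (Fin 2) F) : G2 F :=
  mkG2 (alpL (R.1 0 0) (R.1 0 1) (R.1 1 0) (R.1 1 1))
    (alpL (R.1 1 1) (-R.1 0 1) (-R.1 1 0) (R.1 0 0))
    (alpL_inv _ _ _ _ (sl2_det R))
    (fun x => by
      have := alpL_inv (R.1 1 1) (-R.1 0 1) (-R.1 1 0) (R.1 0 0)
        (by linear_combination sl2_det R) x
      simpa using this)
    (alpL_zornMul _ _ _ _ (sl2_det R))

theorem gact_alpG (R : Matrix.SpecialLinearGroup (Fin 2) F) (x : Fin 8 → F) :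
    gact (alpG R) x = alpL (R.1 0 0) (R.1 0 1) (R.1 1 0) (R.1 1 1) x :=
  gact_mkG2 _ _ _ _ _ x

/-- the short root `SL₂` inside `G₂(F)` -/
noncomputable def betG (R : Matrix.SpecialLinearGroup (Fin 2) F) : G2 F :=
  mkG2 (betL (R.1 0 0) (R.1 0 1) (R.1 1 0) (R.1 1 1))
    (betL (R.1 1 1) (-R.1 0 1) (-R.1 1 0) (R.1 0 0))
    (betL_inv _ _ _ _ (sl2_det R))
    (fun x => by
      have := betL_inv (R.1 1 1) (-R.1 0 1) (-R.1 1 0) (R.1 0 0)
        (by linear_combination sl2_det R) x
      simpa using this)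
    (betL_zornMul _ _ _ _ (sl2_det R))

theorem gact_betG (R : Matrix.SpecialLinearGroup (Fin 2) F) (x : Fin 8 → F) :
    gact (betG R) x = betL (R.1 0 0) (R.1 0 1) (R.1 1 0) (R.1 1 1) x :=
  gact_mkG2 _ _ _ _ _ x

theorem sl2_one_entries :
    ((1 : Matrix.SpecialLinearGroup (Fin 2) F).1 0 0 = 1) ∧
    ((1 : Matrix.SpecialLinearGroup (Fin 2) F).1 0 1 = 0) ∧
    ((1 : Matrix.SpecialLinearGroup (Fin 2) F).1 1 0 = 0) ∧
    ((1 : Matrix.SpecialLinearGroup (Fin 2) F).1 1 1 = 1) := by
  refine ⟨?_, ?_, ?_, ?_⟩ <;> simp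

theorem sl2_mul_entries (R R' : Matrix.SpecialLinearGroup (Fin 2) F) :
    ((R * R').1 0 0 = R.1 0 0 * R'.1 0 0 + R.1 0 1 * R'.1 1 0) ∧
    ((R * R').1 0 1 = R.1 0 0 * R'.1 0 1 + R.1 0 1 * R'.1 1 1) ∧
    ((R * R').1 1 0 = R.1 1 0 * R'.1 0 0 + R.1 1 1 * R'.1 1 0) ∧
    ((R * R').1 1 1 = R.1 1 0 * R'.1 0 1 + R.1 1 1 * R'.1 1 1) := by
  refine ⟨?_, ?_, ?_, ?_⟩ <;> simp [Matrix.mul_apply, Fin.sum_univ_two]

/-- the long root `SL₂` as a homomorphism -/
noncomputable def alpHom : Matrix.SpecialLinearGroup (Fin 2) F →* G2 F where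
  toFun := alpG
  map_one' := by
    apply gact_ext
    intro x
    rw [gact_alpG, gact_one]
    obtain ⟨h1, h2, h3, h4⟩ := sl2_one_entries (F := F)
    rw [h1, h2, h3, h4, alpL_one]
  map_mul' R R' := by
    apply gact_ext
    intro x
    rw [gact_mul, gact_alpG, gact_alpG, gact_alpG, alpL_comp]
    obtain ⟨h1, h2, h3, h4⟩ := sl2_mul_entries R R'
    rw [h1, h2, h3, h4]

/-- the short root `SL₂` as a homomorphism -/
noncomputable def betHom : Matrix.SpecialLinearGroup (Fin 2) F →* G2 F where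
  toFun := betG
  map_one' := by
    apply gact_ext
    intro x
    rw [gact_betG, gact_one]
    obtain ⟨h1, h2, h3, h4⟩ := sl2_one_entries (F := F)
    rw [h1, h2, h3, h4, betL_one]
  map_mul' R R' := by
    apply gact_ext
    intro x
    rw [gact_mul, gact_betG, gact_betG, gact_betG, betL_comp]
    obtain ⟨h1, h2, h3, h4⟩ := sl2_mul_entries R R'
    rw [h1, h2, h3, h4]

theorem alpHom_apply (R : Matrix.SpecialLinearGroup (Fin 2) F) : alpHom R = alpG R := rfl

theorem betHom_apply (R : Matrix.SpecialLinearGroup (Fin 2) F) : betHom R = betG R := rfl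

theorem alpG_betG_comm (R P : Matrix.SpecialLinearGroup (Fin 2) F) :
    alpG R * betG P = betG P * alpG R := by
  apply gact_ext
  intro x
  rw [gact_mul, gact_mul, gact_alpG, gact_betG, gact_alpG, gact_betG]
  simp only [alpL_apply, betL_apply]
  ext i
  fin_cases i <;> simp <;> ring

theorem sl2_ext {R R' : Matrix.SpecialLinearGroup (Fin 2) F} (h00 : R.1 0 0 = R'.1 0 0)
    (h01 : R.1 0 1 = R'.1 0 1) (h10 : R.1 1 0 = R'.1 1 0) (h11 : R.1 1 1 = R'.1 1 1) :
    R = R' := by
  apply Subtype.ext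
  ext i j
  fin_cases i <;> fin_cases j <;> assumption

theorem alpHom_injective : Function.Injective (alpHom : Matrix.SpecialLinearGroup (Fin 2) F →* G2 F) := by
  intro R R' h
  have h5 := congrArg (fun g => gact g ![0, 0, 0, 0, 0, 1, 0, 0]) h
  have h6 := congrArg (fun g => gact g ![0, 0, 0, 0, 0, 0, 1, 0]) h
  simp only [alpHom_apply, gact_alpG, alpL_apply] at h5 h6
  have a5 := congrFun h5 5
  have b5 := congrFun h5 6
  have a6 := congrFun h6 5
  have b6 := congrFun h6 6
  simp at a5 b5 a6 b6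
  exact sl2_ext a5 a6 b5 b6

theorem betHom_injective : Function.Injective (betHom : Matrix.SpecialLinearGroup (Fin 2) F →* G2 F) := by
  intro R R' h
  have h5 := congrArg (fun g => gact g ![0, 0, 1, 0, 0, 0, 0, 0]) h
  have h6 := congrArg (fun g => gact g ![0, 0, 0, 0, 0, 0, 1, 0]) h
  simp only [betHom_apply, gact_betG, betL_apply] at h5 h6
  have a5 := congrFun h5 2
  have b5 := congrFun h5 6
  have a6 := congrFun h6 2
  have b6 := congrFun h6 6
  simp at a5 b5 a6 b6
  exact sl2_ext a5 a6 b5 b6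

/-! ### the involution -/

/-- linear map of the involution `t_ν` -/
def tnuL (ν : F) : (Fin 8 → F) →ₗ[F] (Fin 8 → F) where
  toFun x := ![x 7, ν * x 4, -(ν⁻¹ * x 5), x 6, ν⁻¹ * x 1, -(ν * x 2), x 3, x 0]
  map_add' x y := by ext i; fin_cases i <;> simp <;> ring
  map_smul' c x := by ext i; fin_cases i <;> simp <;> ring

theorem tnuL_apply (ν : F) (x : Fin 8 → F) :
    tnuL ν x = ![x 7, ν * x 4, -(ν⁻¹ * x 5), x 6, ν⁻¹ * x 1, -(ν * x 2), x 3, x 0] := rfl

theorem tnuL_tnuL (ν : F) (hν : ν ≠ 0) (x : Fin 8 → F) : tnuL ν (tnuL ν x) = x := by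
  simp only [tnuL_apply]
  ext i
  fin_cases i <;> simp [hν]

theorem tnuL_zornMul (ν : F) (hν : ν ≠ 0) (x y : Fin 8 → F) :
    tnuL ν (zornMul x y) = zornMul (tnuL ν x) (tnuL ν y) := by
  simp only [zornMul_coords, tnuL_apply]
  ext i
  fin_cases i
  · simp; field_simp; ring
  · simp; field_simp; ring
  · simp; field_simp; ring
  · simp; field_simp; ring
  · simp; field_simp; ring
  · simp; field_simp; ring
  · simp; field_simp; ring
  · simp; field_simp; ring

/-- the involution `t_ν` in `G₂(F)` -/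
noncomputable def tG (ν : F) (hν : ν ≠ 0) : G2 F :=
  mkG2 (tnuL ν) (tnuL ν) (tnuL_tnuL ν hν) (tnuL_tnuL ν hν) (tnuL_zornMul ν hν)

theorem gact_tG (ν : F) (hν : ν ≠ 0) (x : Fin 8 → F) : gact (tG ν hν) x = tnuL ν x :=
  gact_mkG2 _ _ _ _ _ x

theorem tG_mul_self (ν : F) (hν : ν ≠ 0) : tG ν hν * tG ν hν = 1 := by
  apply gact_ext
  intro x
  rw [gact_mul, gact_tG, gact_tG, tnuL_tnuL ν hν, gact_one]

theorem tG_inv (ν : F) (hν : ν ≠ 0) : (tG ν hν)⁻¹ = tG ν hν :=
  inv_eq_of_mul_eq_one_left (tG_mul_self ν hν)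

/-- conjugation by `t_ν` on the long root `SL₂` -/
def conjA (ν : F) (hν : ν ≠ 0) (R : Matrix.SpecialLinearGroup (Fin 2) F) :
    Matrix.SpecialLinearGroup (Fin 2) F :=
  ⟨!![R.1 1 1, ν * R.1 1 0; ν⁻¹ * R.1 0 1, R.1 0 0], by
    rw [Matrix.det_fin_two_of]
    have h := sl2_det R
    have h2 : ν * R.1 1 0 * (ν⁻¹ * R.1 0 1) = R.1 1 0 * R.1 0 1 := by field_simp
    rw [h2]
    linear_combination h⟩

/-- conjugation by `t_ν` on the short root `SL₂` -/
def conjB (ν : F) (hν : ν ≠ 0) (R : Matrix.SpecialLinearGroup (Fin 2) F) :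
    Matrix.SpecialLinearGroup (Fin 2) F :=
  ⟨!![R.1 1 1, ν⁻¹ * R.1 1 0; ν * R.1 0 1, R.1 0 0], by
    rw [Matrix.det_fin_two_of]
    have h := sl2_det R
    have h2 : ν⁻¹ * R.1 1 0 * (ν * R.1 0 1) = R.1 1 0 * R.1 0 1 := by field_simp
    rw [h2]
    linear_combination h⟩

theorem tG_alpG (ν : F) (hν : ν ≠ 0) (R : Matrix.SpecialLinearGroup (Fin 2) F) :
    tG ν hν * alpG R * tG ν hν = alpG (conjA ν hν R) := by
  apply gact_ext
  intro x
  rw [gact_mul, gact_mul, gact_tG, gact_tG, gact_alpG, gact_alpG]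
  simp only [alpL_apply, tnuL_apply, conjA]
  ext i
  fin_cases i
  · simp
  · simp [hν]
  · simp; field_simp; ring
  · simp; field_simp
  · simp [hν]
  · simp; field_simp; ring
  · simp; field_simp
  · simp

theorem tG_betG (ν : F) (hν : ν ≠ 0) (R : Matrix.SpecialLinearGroup (Fin 2) F) :
    tG ν hν * betG R * tG ν hν = betG (conjB ν hν R) := by
  apply gact_ext
  intro x
  rw [gact_mul, gact_mul, gact_tG, gact_tG, gact_betG, gact_betG]
  simp only [betL_apply, tnuL_apply, conjB]
  ext i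
  fin_cases i
  · simp; field_simp; ring
  · simp; field_simp; ring
  · simp; field_simp; ring
  · simp; field_simp; ring
  · simp; field_simp; ring
  · simp; field_simp; ring
  · simp; field_simp; ring
  · simp; field_simp; ring

theorem tG_ne (ν : F) (hν : ν ≠ 0) (hns : ¬ IsSquare (-ν))
    (R P : Matrix.SpecialLinearGroup (Fin 2) F) : tG ν hν ≠ alpG R * betG P := by
  intro h
  have h4 := congrArg (fun g => gact g ![0, 0, 0, 0, 1, 0, 0, 0]) h
  simp only [gact_mul, gact_tG, gact_alpG, gact_betG, tnuL_apply, alpL_apply, betL_apply] at h4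
  have a := congrFun h4 1
  simp at a
  exact hns ⟨P.1 1 0, by rw [a]; ring⟩

/-- the central element `-1` of `SL₂` -/
def negOneSL : Matrix.SpecialLinearGroup (Fin 2) F :=
  ⟨!![-1, 0; 0, -1], by simp [Matrix.det_fin_two_of]⟩

theorem alpG_eq_betG (R P : Matrix.SpecialLinearGroup (Fin 2) F) (h : alpG R = betG P) :
    alpG R = 1 ∨ alpG R = betG negOneSL := by
  have h0 := congrArg (fun g => gact g ![1, 0, 0, 0, 0, 0, 0, 0]) h
  have h4 := congrArg (fun g => gact g ![0, 0, 0, 0, 1, 0, 0, 0]) h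
  simp only [gact_alpG, gact_betG, alpL_apply, betL_apply] at h0 h4
  have a0 := congrFun h0 0
  have a1 := congrFun h0 1
  have a4 := congrFun h0 4
  have b4 := congrFun h4 4
  simp at a0 a1 a4 b4
  have hp : P.1 0 0 ≠ 0 := by
    intro hp; rw [hp] at a0; simp at a0
  have hs : P.1 1 1 ≠ 0 := by
    intro hs; rw [hs] at a0; simp at a0
  have hq : P.1 0 1 = 0 := by
    rcases a4 with h | h
    · exact absurd h hp
    · exact h
  have hr : P.1 1 0 = 0 := by
    rcases a1 with h | h
    · exact h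
    · exact absurd h hs
  have hp2 : P.1 0 0 = 1 ∨ P.1 0 0 = -1 := by
    have : P.1 0 0 * P.1 0 0 = 1 := b4.symm
    exact mul_self_eq_one_iff.mp this
  rw [h]
  rcases hp2 with h1 | h1
  · left
    have hs1 : P.1 1 1 = 1 := by
      rw [h1] at a0; simpa using a0.symm
    have : P = 1 := by
      apply sl2_ext
      · rw [h1]; simp
      · rw [hq]; simp
      · rw [hr]; simp
      · rw [hs1]; simp
    rw [this]
    exact betHom.map_one
  · right
    have hs1 : P.1 1 1 = -1 := by
      rw [h1] at a0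
      have : -P.1 1 1 = 1 := by simpa using a0.symm
      linear_combination -this
    have : P = negOneSL := by
      apply sl2_ext
      · rw [h1]; simp [negOneSL]
      · rw [hq]; simp [negOneSL]
      · rw [hr]; simp [negOneSL]
      · rw [hs1]; simp [negOneSL]
    rw [this]

end Cfsg.Agent.Lib.helper37
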