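import Mathlib
import Cfsg.Agent.S0261
import Cfsg.Agent.Lib.helper46.SL2Sylow
import Cfsg.Agent.Lib.helper37.SqComm

set_option autoImplicit false
open scoped commutatorElement

namespace Cfsg.Agent.Lib.helper37

theorem SqC.comap_of_injective {G G' : Type*} [Group G] [Group G'] {H : Subgroup G'} (h : SqC H)
    (f : G →* G') (hf : Function.Injective f) (hle : H ≤ f.range) : SqC (H.comap f) := by
  intro x hx
  have h1 : f x ^ 2 ∈ ⁅H, H⁆ := h (f x) hx
  have h2 : (H.comap f).map f = H := Subgroup.map_comap_eq_self hle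
  rw [← h2, ← Subgroup.map_commutator] at h1
  obtain ⟨z, hz, hzx⟩ := h1
  have : z = x ^ 2 := hf (by rw [hzx, map_pow])
  rw [← this]
  exact hz

theorem card_comap_of_injective_of_le {G G' : Type*} [Group G] [Group G'] {H : Subgroup G'}
    (f : G →* G') (hf : Function.Injective f) (hle : H ≤ f.range) :
    Nat.card ↥(H.comap f) = Nat.card ↥H := by
  have h2 : (H.comap f).map f = H := Subgroup.map_comap_eq_self hle
  rw [← Subgroup.card_map_of_injective hf, h2]

section

variable {F : Type*} [Field F]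

theorem card_le_two_mul_ker {H : Type*} [Group H] [Finite H] (δ : H →* Fˣ)
    (h : ∀ x, δ x = 1 ∨ δ x = -1) : Nat.card H ≤ 2 * Nat.card δ.ker := by
  classical
  have h1 : Nat.card δ.ker * δ.ker.index = Nat.card H := Subgroup.card_mul_index _
  have h2 : δ.ker.index = Nat.card δ.range := Subgroup.index_ker δ
  have h3 : Nat.card δ.range ≤ 2 := by
    have hsub : (δ.range : Set Fˣ) ⊆ ({1, -1} : Finset Fˣ) := by
      rintro _ ⟨x, rfl⟩
      rcases h x with h' | h' <;> simp [h']
    have hfin : Nat.card (δ.range : Set Fˣ) ≤ Nat.card (({1, -1} : Finset Fˣ) : Set Fˣ) :=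
      Nat.card_mono (Finset.finite_toSet _) hsub
    have h4 : Nat.card (({1, -1} : Finset Fˣ) : Set Fˣ) ≤ 2 := by
      rw [Nat.card_coe_set_eq, Set.ncard_coe_finset]
      exact Finset.card_le_two
    exact hfin.trans h4
  rw [← h1, h2, mul_comm]
  exact Nat.mul_le_mul_right _ h3

theorem mem_toGL_range_iff {n : Type*} [Fintype n] [DecidableEq n] (g : GL n F) :
    g ∈ (Matrix.SpecialLinearGroup.toGL : Matrix.SpecialLinearGroup n F →* GL n F).range
      ↔ Matrix.GeneralLinearGroup.det g = 1 := by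
  constructor
  · rintro ⟨A, rfl⟩
    apply Units.ext
    simp [Matrix.GeneralLinearGroup.det]
  · intro h
    have h1 : (g : Matrix n n F).det = 1 := by
      have := congrArg Units.val h
      simpa [Matrix.GeneralLinearGroup.det] using this
    exact ⟨⟨g.1, h1⟩, Units.ext rfl⟩

theorem unit_pm_one_of_two_pow [Fintype F] (hq : 4 ∣ Fintype.card F + 1) (u : Fˣ) (k : ℕ)
    (hu : u ^ (2 ^ k) = 1) : u = 1 ∨ u = -1 := by
  classical
  have h1 : u ^ (Fintype.card F - 1) = 1 := by
    have := pow_card_eq_one' (G := Fˣ) (x := u)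
    rwa [Nat.card_units, Nat.card_eq_fintype_card] at this
  have h2 : u ^ (Nat.gcd (2 ^ k) (Fintype.card F - 1)) = 1 := pow_gcd_eq_one.mpr ⟨hu, h1⟩
  have h3 : Nat.gcd (2 ^ k) (Fintype.card F - 1) ∣ 2 := by
    obtain ⟨j, hj, hj2⟩ := (Nat.dvd_prime_pow Nat.prime_two).mp (Nat.gcd_dvd_left (2 ^ k) (Fintype.card F - 1))
    have h4 : 2 ^ j ∣ Fintype.card F - 1 := hj2 ▸ Nat.gcd_dvd_right _ _
    have hcard : 1 < Fintype.card F := Fintype.one_lt_card
    rw [hj2]
    by_contra hcon
    have hj2' : 2 ≤ j := by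
      by_contra hlt
      have : j = 0 ∨ j = 1 := by omega
      rcases this with rfl | rfl <;> simp at hcon
    have h5 : 4 ∣ Fintype.card F - 1 := (pow_dvd_pow 2 hj2').trans h4
    omega
  have h6 : u ^ 2 = 1 := by
    obtain ⟨d, hd⟩ := h3
    rw [hd, pow_mul, h2, one_pow]
  have h7 : (u : F) ^ 2 = 1 := by
    have := congrArg Units.val h6
    simpa using this
  rcases sq_eq_one_iff.mp h7 with h8 | h8
  · left; exact Units.ext h8
  · right; exact Units.ext (by simpa using h8)

end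


section

variable {F : Type*} [Field F] [Fintype F]

/-- the diagonal involution `diag(1,-1)` in `GL₂`. -/
def diagInvol : GL (Fin 2) F :=
  ⟨!![1, 0; 0, -1], !![1, 0; 0, -1],
    by ext i j; fin_cases i <;> fin_cases j <;> simp [Matrix.mul_apply, Fin.sum_univ_two],
    by ext i j; fin_cases i <;> fin_cases j <;> simp [Matrix.mul_apply, Fin.sum_univ_two]⟩

theorem diagInvol_sq : (diagInvol : GL (Fin 2) F) ^ 2 = 1 := by
  apply Units.ext
  rw [pow_two]
  show (!![1, 0; 0, -1] : Matrix (Fin 2) (Fin 2) F) * !![1, 0; 0, -1] = 1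
  ext i j; fin_cases i <;> fin_cases j <;> simp [Matrix.mul_apply, Fin.sum_univ_two]

theorem det_diagInvol : Matrix.GeneralLinearGroup.det (diagInvol : GL (Fin 2) F) = -1 := by
  apply Units.ext
  show (!![1, 0; 0, -1] : Matrix (Fin 2) (Fin 2) F).det = ((-1 : Fˣ) : F)
  simp [Matrix.det_fin_two]

theorem v2_pred_of_four_dvd_succ (q : ℕ) (hq : 4 ∣ q + 1) : padicValNat 2 (q - 1) = 1 := by
  obtain ⟨r, hr⟩ := hq
  have h1 : q - 1 = 2 * (2 * r - 1) := by omega
  have h2 : ¬ 2 ∣ 2 * r - 1 := by omega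
  have h3 : 2 * r - 1 ≠ 0 := by omega
  rw [h1, padicValNat.mul (by norm_num) h3, padicValNat.eq_zero_of_not_dvd h2]
  simp

theorem gl2_sylow_struct (hF : Odd (Fintype.card F)) (hq : 4 ∣ Fintype.card F + 1)
    (S : Sylow 2 (GL (Fin 2) F)) :
    (∀ s ∈ (S : Subgroup (GL (Fin 2) F)),
        Matrix.GeneralLinearGroup.det s = 1 ∨ Matrix.GeneralLinearGroup.det s = -1) ∧
    (∃ y ∈ (S : Subgroup (GL (Fin 2) F)), y ^ 2 = 1 ∧ Matrix.GeneralLinearGroup.det y = -1) ∧
    SqC ((S : Subgroup (GL (Fin 2) F)) ⊓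
      (Matrix.SpecialLinearGroup.toGL : Matrix.SpecialLinearGroup (Fin 2) F →* GL (Fin 2) F).range) ∧
    SqC (S : Subgroup (GL (Fin 2) F)) := by
  classical
  have hfact : Fact (Nat.Prime 2) := ⟨Nat.prime_two⟩
  set R := (Matrix.SpecialLinearGroup.toGL :
    Matrix.SpecialLinearGroup (Fin 2) F →* GL (Fin 2) F).range with hR
  -- (1)
  have h1 : ∀ s ∈ (S : Subgroup (GL (Fin 2) F)),
      Matrix.GeneralLinearGroup.det s = 1 ∨ Matrix.GeneralLinearGroup.det s = -1 := by
    intro s hs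
    obtain ⟨k, hk⟩ := S.isPGroup' ⟨s, hs⟩
    have hk' : s ^ (2 ^ k) = 1 := by
      have := congrArg Subtype.val hk
      simpa using this
    apply unit_pm_one_of_two_pow hq _ k
    rw [← map_pow, hk', map_one]
  -- (2)
  have h2 : ∃ y ∈ (S : Subgroup (GL (Fin 2) F)), y ^ 2 = 1 ∧ Matrix.GeneralLinearGroup.det y = -1 := by
    have hz : IsPGroup 2 ↥(Subgroup.zpowers (diagInvol : GL (Fin 2) F)) := by
      rintro ⟨g, hg⟩
      refine ⟨1, ?_⟩
      obtain ⟨n, rfl⟩ := hg
      apply Subtype.ext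
      show ((diagInvol : GL (Fin 2) F) ^ n) ^ (2 ^ 1) = 1
      rw [pow_one, ← zpow_natCast, ← zpow_mul, mul_comm, zpow_mul, zpow_natCast, diagInvol_sq, one_zpow]
    obtain ⟨S0, hS0⟩ := hz.exists_le_sylow
    obtain ⟨g, hg⟩ := MulAction.exists_smul_eq (GL (Fin 2) F) S0 S
    have hS : (S : Subgroup (GL (Fin 2) F)) = (S0 : Subgroup (GL (Fin 2) F)).map (MulAut.conj g).toMonoidHom := by
      rw [← hg]; rfl
    refine ⟨g * diagInvol * g⁻¹, ?_, ?_, ?_⟩
    · rw [hS]
      exact ⟨diagInvol, hS0 (Subgroup.mem_zpowers _), rfl⟩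
    · rw [pow_two]
      have : g * diagInvol * g⁻¹ * (g * diagInvol * g⁻¹) = g * (diagInvol ^ 2) * g⁻¹ := by
        rw [pow_two]; group
      rw [this, diagInvol_sq]; group
    · rw [map_mul, map_mul, map_inv, det_diagInvol, mul_comm, ← mul_assoc, inv_mul_cancel, one_mul]
  obtain ⟨y, hyS, hy2, hydet⟩ := h2
  -- (3)
  have hmem : ∀ x, x ∈ (S : Subgroup (GL (Fin 2) F)) ⊓ R ↔
      x ∈ (S : Subgroup (GL (Fin 2) F)) ∧ Matrix.GeneralLinearGroup.det x = 1 := by
    intro x
    rw [Subgroup.mem_inf, hR, mem_toGL_range_iff]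
  have h3 : SqC ((S : Subgroup (GL (Fin 2) F)) ⊓ R) := by
    let Qs : Subgroup (Matrix.SpecialLinearGroup (Fin 2) F) :=
      (S : Subgroup (GL (Fin 2) F)).comap Matrix.SpecialLinearGroup.toGL
    have hQp : IsPGroup 2 ↥Qs :=
      S.isPGroup'.comap_of_injective _ Matrix.SpecialLinearGroup.toGL_injective
    have hmap : Qs.map Matrix.SpecialLinearGroup.toGL = (S : Subgroup (GL (Fin 2) F)) ⊓ R := by
      rw [Subgroup.map_comap_eq, inf_comm]
    have hQcard : Nat.card ↥Qs = Nat.card ↥((S : Subgroup (GL (Fin 2) F)) ⊓ R) := by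
      rw [← hmap, Subgroup.card_map_of_injective Matrix.SpecialLinearGroup.toGL_injective]
    -- card of S ⊓ R is at least |S| / 2
    let δ : ↥(S : Subgroup (GL (Fin 2) F)) →* Fˣ :=
      Matrix.GeneralLinearGroup.det.comp (S : Subgroup (GL (Fin 2) F)).subtype
    have hδ : ∀ x, δ x = 1 ∨ δ x = -1 := fun x => h1 x.1 x.2
    have hker : δ.ker.map (S : Subgroup (GL (Fin 2) F)).subtype = (S : Subgroup (GL (Fin 2) F)) ⊓ R := by
      ext x
      rw [hmem]
      constructor
      · rintro ⟨z, hz, rfl⟩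
        exact ⟨z.2, hz⟩
      · rintro ⟨hx, hx1⟩
        exact ⟨⟨x, hx⟩, hx1, rfl⟩
    have hkcard : Nat.card ↥δ.ker = Nat.card ↥((S : Subgroup (GL (Fin 2) F)) ⊓ R) := by
      rw [← hker, Subgroup.card_map_of_injective (Subgroup.subtype_injective _)]
    have hle : Nat.card ↥(S : Subgroup (GL (Fin 2) F)) ≤
        2 * Nat.card ↥((S : Subgroup (GL (Fin 2) F)) ⊓ R) := by
      rw [← hkcard]; exact card_le_two_mul_ker δ hδ
    have hScard : Nat.card ↥(S : Subgroup (GL (Fin 2) F))
        = 2 ^ (1 + padicValNat 2 (Nat.card (Matrix.SpecialLinearGroup (Fin 2) F))) := by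
      rw [Sylow.card_eq_multiplicity, Nat.factorization_def _ Nat.prime_two,
        Cfsg.Agent.Lib.helper46.card_GL_eq_card_units_mul_card_SL' (F := F) 2,
        padicValNat.mul (Nat.card_pos.ne') (Nat.card_pos.ne'), Nat.card_units,
        Nat.card_eq_fintype_card, v2_pred_of_four_dvd_succ _ hq]
    have hge : 2 ^ padicValNat 2 (Nat.card (Matrix.SpecialLinearGroup (Fin 2) F)) ≤ Nat.card ↥Qs := by
      rw [hQcard]
      rw [hScard, pow_add, pow_one] at hle
      omega
    have hidx := odd_index_of_card_ge Qs hQp hge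
    let Q' : Sylow 2 (Matrix.SpecialLinearGroup (Fin 2) F) := hQp.toSylow hidx
    obtain ⟨k, hk, ⟨e⟩⟩ := Cfsg.Agent.S0261.result hF Q'
    have hQsq : SqC Qs :=
      sqC_of_coe (sq_mem_commutator_of_mulEquiv e (quaternion_sq_mem_commutator k hk))
    rw [← hmap]
    exact hQsq.map _
  -- (4)
  have h4 : SqC (S : Subgroup (GL (Fin 2) F)) := by
    apply sqC_of_closure (S : Subgroup (GL (Fin 2) F))
      ((((S : Subgroup (GL (Fin 2) F)) ⊓ R : Subgroup (GL (Fin 2) F)) : Set (GL (Fin 2) F)) ∪ {y})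
    · apply le_antisymm
      · intro s hs
        rcases h1 s hs with hd | hd
        · exact Subgroup.subset_closure (Or.inl ((hmem s).mpr ⟨hs, hd⟩))
        · have hys : y * s ∈ (S : Subgroup (GL (Fin 2) F)) ⊓ R := by
            rw [hmem]
            refine ⟨Subgroup.mul_mem _ hyS hs, ?_⟩
            rw [map_mul, hydet, hd]; simp
          have : s = y⁻¹ * (y * s) := by group
          rw [this]
          exact Subgroup.mul_mem _
            (Subgroup.inv_mem _ (Subgroup.subset_closure (Or.inr rfl)))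
            (Subgroup.subset_closure (Or.inl hys))
      · rw [Subgroup.closure_le]
        rintro x (hx | hx)
        · exact ((hmem x).mp hx).1
        · rw [Set.mem_singleton_iff] at hx; rw [hx]; exact hyS
    · rintro x (hx | hx)
      · exact Subgroup.commutator_mono inf_le_left inf_le_left (h3 x hx)
      · rw [Set.mem_singleton_iff] at hx
        rw [hx, hy2]; exact Subgroup.one_mem _
  exact ⟨h1, ⟨y, hyS, hy2, hydet⟩, h3, h4⟩

end

end Cfsg.Agent.Lib.helper37
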