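import Mathlib
import Cfsg.Agent.Lib.helper37.SqComm

set_option autoImplicit false
open scoped commutatorElement

namespace Cfsg.Agent.Lib.helper37

/-! ### generic subgroup lemmas -/

theorem sqC_sup_of_gens {G : Type*} [Group G] (A B : Subgroup G) (SA SB : Set G)
    (hA : A = Subgroup.closure SA) (hB : B = Subgroup.closure SB)
    (hsq : ∀ s ∈ SA ∪ SB, s ^ 2 ∈ ⁅A ⊔ B, A ⊔ B⁆) : SqC (A ⊔ B) := by
  apply sqC_of_closure (A ⊔ B) (SA ∪ SB) _ hsq
  rw [Subgroup.closure_union, ← hA, ← hB]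

theorem card_sup_ge_of_disjoint {G : Type*} [Group G] [Finite G] (A B : Subgroup G)
    (h : Disjoint A B) : Nat.card ↥A * Nat.card ↥B ≤ Nat.card ↥(A ⊔ B) := by
  have hinj := Subgroup.mul_injective_of_disjoint h
  rw [← Nat.card_prod]
  apply Nat.card_le_card_of_injective (fun g : ↥A × ↥B =>
    (⟨(g.1 : G) * (g.2 : G), Subgroup.mul_mem _ ((le_sup_left : A ≤ A ⊔ B) g.1.2)
      ((le_sup_right : B ≤ A ⊔ B) g.2.2)⟩ : ↥(A ⊔ B)))
  intro g g' hg
  exact hinj (congrArg Subtype.val hg)

theorem isPGroup_sup_of_normalizes {G : Type*} [Group G] {p : ℕ} (A B : Subgroup G)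
    (hA : IsPGroup p ↥A) (hB : IsPGroup p ↥B)
    (h : ∀ b ∈ B, ∀ a ∈ A, b * a * b⁻¹ ∈ A) : IsPGroup p ↥(A ⊔ B) := by
  have hn : B ≤ Subgroup.normalizer (A : Set G) := by
    rw [Subgroup.le_normalizer_iff]; exact h
  have := IsPGroup.to_sup_of_normal_right' hB hA hn
  rwa [sup_comm] at this

/-! ### block-diagonal and block-permutation matrices -/

section

variable {F : Type*} [Field F] (m : ℕ)

/-- block diagonal embedding `GL₂(F)^m → GL_{2m}(F)`. -/
def bdHom : (Fin m → GL (Fin 2) F) →* GL (Fin 2 × Fin m) F :=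
  (Units.map (Matrix.blockDiagonalRingHom (Fin 2) (Fin m) F).toMonoidHom).comp
    (MulEquiv.piUnits (M := fun _ : Fin m => Matrix (Fin 2) (Fin 2) F)).symm.toMonoidHom

theorem bdHom_coe (g : Fin m → GL (Fin 2) F) :
    ((bdHom m g : GL (Fin 2 × Fin m) F) : Matrix (Fin 2 × Fin m) (Fin 2 × Fin m) F)
      = Matrix.blockDiagonal (fun i => ((g i : GL (Fin 2) F) : Matrix (Fin 2) (Fin 2) F)) := rfl

theorem det_bdHom (g : Fin m → GL (Fin 2) F) :
    Matrix.GeneralLinearGroup.det (bdHom m g) = ∏ i, Matrix.GeneralLinearGroup.det (g i) := by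
  apply Units.ext
  rw [Units.coe_prod]
  show (Matrix.blockDiagonal (fun i => ((g i : GL (Fin 2) F) : Matrix (Fin 2) (Fin 2) F))).det = _
  rw [Matrix.det_blockDiagonal]
  rfl

theorem bdHom_injective : Function.Injective (bdHom (F := F) m) := by
  intro g h hgh
  have h1 := congrArg Units.val hgh
  rw [bdHom_coe, bdHom_coe] at h1
  have h2 := Matrix.blockDiagonal_injective h1
  funext i
  exact Units.ext (congrFun h2 i)

/-- the permutation of `Fin 2 × Fin m` acting on the second coordinate. -/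
def blockPermHom : Equiv.Perm (Fin m) →* Equiv.Perm (Fin 2 × Fin m) where
  toFun σ := Equiv.prodCongrRight (fun _ => σ)
  map_one' := by ext x <;> simp
  map_mul' σ τ := by ext x <;> simp

theorem blockPermHom_apply (σ : Equiv.Perm (Fin m)) (x : Fin 2 × Fin m) :
    blockPermHom m σ x = (x.1, σ x.2) := rfl

/-- block permutation matrices as a homomorphism into `GL_{2m}(F)`. -/
def pmHom : Equiv.Perm (Fin m) →* GL (Fin 2 × Fin m) F :=
  ((Matrix.permMatrixHom (n := Fin 2 × Fin m) (R := F)).comp (blockPermHom m)).toHomUnits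

theorem pmHom_coe (σ : Equiv.Perm (Fin m)) :
    ((pmHom m σ : GL (Fin 2 × Fin m) F) : Matrix (Fin 2 × Fin m) (Fin 2 × Fin m) F)
      = (blockPermHom m σ⁻¹).permMatrix F := by
  show (blockPermHom m σ)⁻¹.permMatrix F = _
  rw [map_inv]

theorem det_pmHom (σ : Equiv.Perm (Fin m)) :
    Matrix.GeneralLinearGroup.det (pmHom (F := F) m σ) = 1 := by
  apply Units.ext
  show ((pmHom m σ : GL (Fin 2 × Fin m) F) : Matrix (Fin 2 × Fin m) (Fin 2 × Fin m) F).det = 1
  rw [pmHom_coe, Matrix.det_permutation]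
  have : Equiv.Perm.sign (blockPermHom m σ⁻¹) = 1 := by
    show Equiv.Perm.sign (Equiv.prodCongrRight (fun _ : Fin 2 => σ⁻¹)) = 1
    rw [Equiv.Perm.sign_prodCongrRight, Fin.prod_univ_two]
    exact Int.units_mul_self _
  rw [this]; simp

theorem permMatrix_mul_blockDiagonal (τ : Equiv.Perm (Fin m))
    (M : Fin m → Matrix (Fin 2) (Fin 2) F) :
    (blockPermHom m τ).permMatrix F * Matrix.blockDiagonal M
      = Matrix.blockDiagonal (fun k => M (τ k)) * (blockPermHom m τ).permMatrix F := by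
  rw [Equiv.Perm.permMatrix, PEquiv.toMatrix_toPEquiv_mul, PEquiv.mul_toMatrix_toPEquiv]
  ext ⟨a, k⟩ ⟨b, l⟩
  simp only [Matrix.submatrix_apply, id, Matrix.blockDiagonal_apply, blockPermHom_apply]
  have hs : (blockPermHom m τ).symm (b, l) = (b, τ.symm l) := by
    rw [Equiv.symm_apply_eq, blockPermHom_apply]; simp
  rw [hs]
  by_cases h : τ k = l
  · subst h; simp
  · have : ¬ k = τ.symm l := fun h' => h (by rw [h']; simp)
    simp [h, this]

theorem pmHom_mul_bdHom (σ : Equiv.Perm (Fin m)) (g : Fin m → GL (Fin 2) F) :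
    pmHom m σ * bdHom m g = bdHom m (fun i => g (σ⁻¹ i)) * pmHom m σ := by
  apply Units.ext
  rw [Units.val_mul, Units.val_mul, pmHom_coe, bdHom_coe, bdHom_coe, permMatrix_mul_blockDiagonal]

theorem permMatrix_apply' {n : Type*} [DecidableEq n] (τ : Equiv.Perm n) (i j : n) :
    (τ.permMatrix F) i j = if τ i = j then 1 else 0 := by
  simp [Equiv.Perm.permMatrix, PEquiv.toMatrix_apply, Equiv.toPEquiv_apply]

theorem bdHom_eq_pmHom (σ : Equiv.Perm (Fin m)) (g : Fin m → GL (Fin 2) F)
    (h : bdHom m g = pmHom (F := F) m σ) : σ = 1 := by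
  have h1 := congrArg Units.val h
  rw [bdHom_coe, pmHom_coe] at h1
  have hσ : ∀ k, σ⁻¹ k = k := by
    intro k
    by_contra hne
    have h3 := congrFun (congrFun h1 (0, k)) (0, σ⁻¹ k)
    rw [Matrix.blockDiagonal_apply, permMatrix_apply'] at h3
    have h4 : blockPermHom m σ⁻¹ (0, k) = (0, σ⁻¹ k) := rfl
    rw [if_pos h4, if_neg (fun h' => hne h'.symm)] at h3
    exact zero_ne_one h3
  have : σ⁻¹ = 1 := Equiv.ext hσ
  exact inv_eq_one.mp this

theorem pmHom_injective : Function.Injective (pmHom (F := F) m) := by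
  intro σ τ h
  have h1 : bdHom m 1 = pmHom (F := F) m (τ⁻¹ * σ) := by
    rw [map_one, map_mul, h, ← map_mul]; simp
  have := bdHom_eq_pmHom m _ _ h1
  exact (inv_mul_eq_one.mp this).symm

end

/-! ### embedding `GL_n → SL_{n+1}` and reindexing -/

section

variable {F : Type*} [Field F] {ι κ : Type*} [Fintype ι] [DecidableEq ι] [Fintype κ] [DecidableEq κ]

/-- the matrix `diag(g, det g⁻¹)`. -/
def glToSLMat (g : GL ι F) : Matrix (ι ⊕ Unit) (ι ⊕ Unit) F :=
  Matrix.fromBlocks (g : Matrix ι ι F) 0 0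
    (Matrix.diagonal fun _ : Unit => (((Matrix.GeneralLinearGroup.det g)⁻¹ : Fˣ) : F))

theorem det_glToSLMat (g : GL ι F) : (glToSLMat g).det = 1 := by
  rw [glToSLMat, Matrix.det_fromBlocks_zero₂₁, Matrix.det_diagonal]
  simp only [Finset.univ_unique, Finset.prod_singleton]
  have h : ((Matrix.GeneralLinearGroup.det g : Fˣ) : F) = (g : Matrix ι ι F).det := rfl
  rw [← h, ← Units.val_mul, mul_inv_cancel, Units.val_one]

theorem glToSLMat_one : glToSLMat (1 : GL ι F) = 1 := by
  rw [glToSLMat, ← Matrix.fromBlocks_one]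
  congr 1
  ext i j; simp

theorem glToSLMat_mul (g h : GL ι F) : glToSLMat (g * h) = glToSLMat g * glToSLMat h := by
  rw [glToSLMat, glToSLMat, glToSLMat, Matrix.fromBlocks_multiply]
  simp only [Units.val_mul, Matrix.mul_zero, Matrix.zero_mul, add_zero, zero_add, map_mul,
    mul_inv, Matrix.diagonal_mul_diagonal]

/-- `g ↦ diag(g, det g⁻¹)`. -/
def glToSL : GL ι F →* Matrix.SpecialLinearGroup (ι ⊕ Unit) F where
  toFun g := ⟨glToSLMat g, det_glToSLMat g⟩
  map_one' := Subtype.ext glToSLMat_one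
  map_mul' g h := Subtype.ext (glToSLMat_mul g h)

theorem glToSL_injective : Function.Injective (glToSL (F := F) (ι := ι)) := by
  intro g h hgh
  have h1 : glToSLMat g = glToSLMat h := congrArg Subtype.val hgh
  rw [glToSLMat, glToSLMat, Matrix.fromBlocks_inj] at h1
  exact Units.ext h1.1

/-- reindexing of special linear groups. -/
def reindexSL (e : ι ≃ κ) : Matrix.SpecialLinearGroup ι F →* Matrix.SpecialLinearGroup κ F where
  toFun A := ⟨Matrix.reindex e e A.1, by rw [Matrix.det_reindex_self]; exact A.2⟩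
  map_one' := by
    apply Subtype.ext
    show Matrix.reindex e e (1 : Matrix ι ι F) = 1
    simp
  map_mul' A B := by
    apply Subtype.ext
    show Matrix.reindex e e (A.1 * B.1) = Matrix.reindex e e A.1 * Matrix.reindex e e B.1
    simp only [Matrix.reindex_apply]
    rw [Matrix.submatrix_mul_equiv]

theorem reindexSL_injective (e : ι ≃ κ) : Function.Injective (reindexSL (F := F) e) := by
  intro A B h
  have h1 : Matrix.reindex e e A.1 = Matrix.reindex e e B.1 := congrArg Subtype.val h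
  exact Subtype.ext ((Matrix.reindex e e).injective h1)

end

end Cfsg.Agent.Lib.helper37
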