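import Mathlib

set_option autoImplicit false

namespace Cfsg.Agent.Lib.helper3.Gf

universe u

/-- HFB (M/L) : `lam` generates the field, so `lam`-stable additive subgroups are trivial. -/
theorem hfb (p q : ℕ) [Fact p.Prime] [Fact q.Prime] (hpq : p ≠ q) (L : Type u) [Field L] [Finite L]
    [CharP L p]
    (hcard : Nat.card L = p ^ orderOf (p : ZMod q)) (lam : L) (hq : lam ^ q = 1) (hne : lam ≠ 1) :
    ∀ W : AddSubgroup L, (∀ w ∈ W, lam * w ∈ W) → W = ⊥ ∨ W = ⊤ := by
  classical
  intro W hW
  letI : Fintype L := Fintype.ofFinite L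
  have hp : p.Prime := Fact.out
  have hcardF : Fintype.card L = p ^ orderOf (p : ZMod q) := by
    rw [← Nat.card_eq_fintype_card]; exact hcard
  have hinvpow : ∀ c : L, c ≠ 0 → c⁻¹ = c ^ (Fintype.card L - 2) := by
    intro c hc
    have h1 : c ^ (Fintype.card L - 1) = 1 := FiniteField.pow_card_sub_one_eq_one c hc
    have h2 : 2 ≤ Fintype.card L := Fintype.one_lt_card
    apply inv_eq_of_mul_eq_one_right
    rw [← pow_succ', show Fintype.card L - 2 + 1 = Fintype.card L - 1 by omega]
    exact h1
  let R : Subfield L :=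
    { carrier := {c | ∀ w ∈ W, c * w ∈ W}
      mul_mem' := by
        intro a b ha hb w hw
        rw [mul_assoc]
        exact ha _ (hb w hw)
      one_mem' := by
        intro w hw
        rw [one_mul]; exact hw
      add_mem' := by
        intro a b ha hb w hw
        rw [add_mul]
        exact W.add_mem (ha w hw) (hb w hw)
      zero_mem' := by
        intro w hw
        rw [zero_mul]; exact W.zero_mem
      neg_mem' := by
        intro a ha w hw
        rw [neg_mul]
        exact W.neg_mem (ha w hw)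
      inv_mem' := by
        intro a ha w hw
        by_cases h0 : a = 0
        · rw [h0, inv_zero, zero_mul]; exact W.zero_mem
        · rw [hinvpow a h0]
          have hpow : ∀ n : ℕ, ∀ w ∈ W, a ^ n * w ∈ W := by
            intro n
            induction n with
            | zero => intro w hw; rw [pow_zero, one_mul]; exact hw
            | succ n ih => intro w hw; rw [pow_succ, mul_assoc]; exact ih _ (ha w hw)
          exact hpow _ w hw }
  have hRmem : ∀ c : L, c ∈ R ↔ ∀ w ∈ W, c * w ∈ W := fun c => Iff.rfl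
  have hlamR : lam ∈ R := hW
  letI : Fintype R := Fintype.ofFinite R
  haveI : CharP R p := (RingHom.charP_iff R.subtype R.subtype_injective p).mpr inferInstance
  obtain ⟨n, -, hRcard⟩ := FiniteField.card R p
  have hlam0 : (⟨lam, hlamR⟩ : R) ≠ 0 := by
    intro h0
    have h1 : lam = 0 := congrArg Subtype.val h0
    rw [h1, zero_pow (Fact.out : q.Prime).ne_zero] at hq
    exact zero_ne_one hq
  have hpw : lam ^ (p ^ (n : ℕ) - 1) = 1 := by
    have h1 := FiniteField.pow_card_sub_one_eq_one (⟨lam, hlamR⟩ : R) hlam0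
    rw [hRcard] at h1
    have h2 := congrArg (fun x : R => (x : L)) h1
    simpa using h2
  have hord : orderOf lam = q := orderOf_eq_prime hq hne
  have hdvd : q ∣ p ^ (n : ℕ) - 1 := by
    rw [← hord]; exact orderOf_dvd_of_pow_eq_one hpw
  have hpn : (p : ZMod q) ^ (n : ℕ) = 1 := by
    have h1 : ((p ^ (n : ℕ) - 1 : ℕ) : ZMod q) = 0 := (ZMod.natCast_eq_zero_iff _ _).mpr hdvd
    have h2 : 1 ≤ p ^ (n : ℕ) := Nat.one_le_pow _ _ hp.pos
    rw [Nat.cast_sub h2, Nat.cast_pow, Nat.cast_one, sub_eq_zero] at h1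
    exact h1
  have han : orderOf (p : ZMod q) ≤ (n : ℕ) := Nat.le_of_dvd n.pos (orderOf_dvd_of_pow_eq_one hpn)
  have hle : Fintype.card R ≤ Fintype.card L :=
    Fintype.card_le_of_injective (Subtype.val) Subtype.val_injective
  rw [hRcard, hcardF] at hle
  have hna : (n : ℕ) ≤ orderOf (p : ZMod q) := (Nat.pow_le_pow_iff_right hp.one_lt).mp hle
  have hcardeq : Fintype.card R = Fintype.card L := by
    rw [hRcard, hcardF, le_antisymm hna han]
  have hsurj : Function.Surjective (Subtype.val : R → L) :=
    ((Fintype.bijective_iff_injective_and_card _).mpr ⟨Subtype.val_injective, hcardeq⟩).2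
  have hall : ∀ c : L, ∀ w ∈ W, c * w ∈ W := by
    intro c
    obtain ⟨r, hr⟩ := hsurj c
    rw [← hr]
    exact (hRmem _).mp r.2
  by_cases hW0 : W = ⊥
  · left; exact hW0
  · right
    obtain ⟨⟨w, hwW⟩, hw0⟩ := (AddSubgroup.ne_bot_iff_exists_ne_zero).mp hW0
    have hw0' : w ≠ 0 := fun h => hw0 (Subtype.ext h)
    rw [AddSubgroup.eq_top_iff']
    intro x
    have h1 := hall (x * w⁻¹) w hwW
    rwa [mul_assoc, inv_mul_cancel₀ hw0', mul_one] at h1

end Cfsg.Agent.Lib.helper3.Gf
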