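import Mathlib

set_option autoImplicit false

namespace Cfsg.Agent.Lib.helper3.Gf

universe u

/-- HFC (M) : trace facts in a field with `m^2` elements, `σ x = x^m`. -/
theorem hfc (L : Type u) [Field L] [Finite L] (m : ℕ) (hm : Nat.card L = m * m) (σ : L →+* L)
    (hσ : ∀ x, σ x = x ^ m) :
    (∀ x : L, ∃ z, z + σ z = x * σ x) ∧ (∀ z : L, z + σ z = 0 → ∃ x, x - σ x = z) ∧
    Nat.card {z : L // z + σ z = 0} = m := by
  classical
  haveI : Fintype L := Fintype.ofFinite L
  have hcardL : Fintype.card L = m * m := by rw [← Nat.card_eq_fintype_card]; exact hm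
  have hm2 : 2 ≤ m := by
    have h1 : 1 < Fintype.card L := Fintype.one_lt_card
    rw [hcardL] at h1
    by_contra hcon
    have h2 : m ≤ 1 := by omega
    have h3 : m * m ≤ 1 * 1 := Nat.mul_le_mul h2 h2
    omega
  have hσσ : ∀ x, σ (σ x) = x := by
    intro x
    rw [hσ, hσ, ← pow_mul, ← hcardL, FiniteField.pow_card]
  have hpow : ∀ z : L, z ^ m = z * z ^ (m - 1) := by
    intro z
    conv_lhs => rw [show m = (m - 1) + 1 by omega]
    rw [pow_succ']
  have hKle : (Finset.univ.filter (fun z : L => z + σ z = 0)).card ≤ m := by
    have hsub : (Finset.univ.filter (fun z : L => z + σ z = 0)) ⊆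
        insert 0 (Polynomial.nthRoots (m - 1) (-1 : L)).toFinset := by
      intro z hz
      rw [Finset.mem_filter] at hz
      rw [Finset.mem_insert]
      by_cases hz0 : z = 0
      · left; exact hz0
      · right
        rw [Multiset.mem_toFinset, Polynomial.mem_nthRoots (by omega)]
        have h1 := hz.2
        rw [hσ, hpow] at h1
        have h2 : z * (1 + z ^ (m - 1)) = 0 := by linear_combination h1
        rcases mul_eq_zero.mp h2 with h3 | h3
        · exact absurd h3 hz0
        · linear_combination h3
    have h4 := (Multiset.toFinset_card_le _).trans (Polynomial.card_nthRoots (m - 1) (-1 : L))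
    have h5 := (Finset.card_le_card hsub).trans (Finset.card_insert_le _ _)
    omega
  have hFle : (Finset.univ.filter (fun w : L => σ w = w)).card ≤ m := by
    have hsub : (Finset.univ.filter (fun w : L => σ w = w)) ⊆
        insert 0 (Polynomial.nthRoots (m - 1) (1 : L)).toFinset := by
      intro z hz
      rw [Finset.mem_filter] at hz
      rw [Finset.mem_insert]
      by_cases hz0 : z = 0
      · left; exact hz0
      · right
        rw [Multiset.mem_toFinset, Polynomial.mem_nthRoots (by omega)]
        have h1 := hz.2
        rw [hσ, hpow] at h1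
        have h2 : z * (z ^ (m - 1) - 1) = 0 := by linear_combination h1
        rcases mul_eq_zero.mp h2 with h3 | h3
        · exact absurd h3 hz0
        · linear_combination h3
    have h4 := (Multiset.toFinset_card_le _).trans (Polynomial.card_nthRoots (m - 1) (1 : L))
    have h5 := (Finset.card_le_card hsub).trans (Finset.card_insert_le _ _)
    omega
  -- the map `z ↦ z + σ z`
  have hTimg : (Finset.univ.image (fun z : L => z + σ z)) ⊆
      (Finset.univ.filter (fun w : L => σ w = w)) := by
    intro a ha
    rw [Finset.mem_image] at ha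
    obtain ⟨z, -, rfl⟩ := ha
    rw [Finset.mem_filter]
    refine ⟨Finset.mem_univ _, ?_⟩
    rw [map_add, hσσ, add_comm]
  have hTcount : Fintype.card L ≤ (Finset.univ.filter (fun z : L => z + σ z = 0)).card *
      (Finset.univ.image (fun z : L => z + σ z)).card := by
    rw [← Finset.card_univ]
    apply Finset.card_le_mul_card_image
    intro a ha
    rw [Finset.mem_image] at ha
    obtain ⟨z₀, -, rfl⟩ := ha
    apply Finset.card_le_card_of_injOn (fun x => x - z₀)
    · intro x hx
      have hx' := (Finset.mem_filter.mp (Finset.mem_coe.mp hx)).2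
      apply Finset.mem_coe.mpr
      rw [Finset.mem_filter]
      refine ⟨Finset.mem_univ _, ?_⟩
      rw [map_sub]
      linear_combination hx'
    · intro x _ y _ hxy
      exact sub_left_injective hxy
  have hi_le : (Finset.univ.image (fun z : L => z + σ z)).card ≤ m :=
    (Finset.card_le_card hTimg).trans hFle
  have hK : (Finset.univ.filter (fun z : L => z + σ z = 0)).card = m := by
    apply le_antisymm hKle
    by_contra hlt
    have h1 : (Finset.univ.filter (fun z : L => z + σ z = 0)).card *
        (Finset.univ.image (fun z : L => z + σ z)).card ≤ (m - 1) * m :=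
      Nat.mul_le_mul (by omega) hi_le
    have h2 : (m - 1) * m < m * m := Nat.mul_lt_mul_of_pos_right (by omega) (by omega)
    rw [hcardL] at hTcount
    exact absurd (hTcount.trans h1) (not_le.mpr h2)
  have hi : m ≤ (Finset.univ.image (fun z : L => z + σ z)).card := by
    rw [hcardL, hK] at hTcount
    exact Nat.le_of_mul_le_mul_left hTcount (by omega)
  have hF : (Finset.univ.filter (fun w : L => σ w = w)).card = m :=
    le_antisymm hFle (hi.trans (Finset.card_le_card hTimg))
  have hTeq : (Finset.univ.image (fun z : L => z + σ z)) =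
      (Finset.univ.filter (fun w : L => σ w = w)) :=
    Finset.eq_of_subset_of_card_le hTimg (by rw [hF]; exact hi)
  -- the map `x ↦ x - σ x`
  have hDimg : (Finset.univ.image (fun x : L => x - σ x)) ⊆
      (Finset.univ.filter (fun z : L => z + σ z = 0)) := by
    intro a ha
    rw [Finset.mem_image] at ha
    obtain ⟨x, -, rfl⟩ := ha
    rw [Finset.mem_filter]
    refine ⟨Finset.mem_univ _, ?_⟩
    rw [map_sub, hσσ]
    ring
  have hDcount : Fintype.card L ≤ (Finset.univ.filter (fun w : L => σ w = w)).card *
      (Finset.univ.image (fun x : L => x - σ x)).card := by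
    rw [← Finset.card_univ]
    apply Finset.card_le_mul_card_image
    intro a ha
    rw [Finset.mem_image] at ha
    obtain ⟨x₀, -, rfl⟩ := ha
    apply Finset.card_le_card_of_injOn (fun x => x - x₀)
    · intro x hx
      have hx' := (Finset.mem_filter.mp (Finset.mem_coe.mp hx)).2
      apply Finset.mem_coe.mpr
      rw [Finset.mem_filter]
      refine ⟨Finset.mem_univ _, ?_⟩
      rw [map_sub]
      linear_combination -hx'
    · intro x _ y _ hxy
      exact sub_left_injective hxy
  have hDi : m ≤ (Finset.univ.image (fun x : L => x - σ x)).card := by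
    rw [hcardL, hF] at hDcount
    exact Nat.le_of_mul_le_mul_left hDcount (by omega)
  have hDeq : (Finset.univ.image (fun x : L => x - σ x)) =
      (Finset.univ.filter (fun z : L => z + σ z = 0)) :=
    Finset.eq_of_subset_of_card_le hDimg (by rw [hK]; exact hDi)
  refine ⟨?_, ?_, ?_⟩
  · intro x
    have hx : x * σ x ∈ (Finset.univ.filter (fun w : L => σ w = w)) := by
      rw [Finset.mem_filter]
      refine ⟨Finset.mem_univ _, ?_⟩
      rw [map_mul, hσσ, mul_comm]
    rw [← hTeq, Finset.mem_image] at hx
    obtain ⟨z, -, hz⟩ := hx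
    exact ⟨z, hz⟩
  · intro z hz
    have hz' : z ∈ (Finset.univ.filter (fun z : L => z + σ z = 0)) := by
      rw [Finset.mem_filter]
      exact ⟨Finset.mem_univ _, hz⟩
    rw [← hDeq, Finset.mem_image] at hz'
    obtain ⟨x, -, hx⟩ := hz'
    exact ⟨x, hx⟩
  · rw [Nat.card_eq_fintype_card, Fintype.card_subtype]
    exact hK

end Cfsg.Agent.Lib.helper3.Gf
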