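import Mathlib
import Cfsg.Prelude.Def_LieTypeChar
import Cfsg.Agent.Lib.helper44.LODefs
import Cfsg.Agent.Lib.helper6.LOARITH
import Cfsg.Agent.S0243

set_option autoImplicit false

namespace Cfsg.Agent.Lib.helper44.LO

open Cfsg

theorem h37_lo2_not_dvd_pow_sub_one {p : ℕ} (hp : p.Prime) (Q : ℕ) (hQ : p ∣ Q) (j : ℕ)
    (hj : 1 ≤ j) (hQ1 : 1 ≤ Q) : ¬ p ∣ Q ^ j - 1 := by
  intro h
  have h1 : p ∣ Q ^ j := dvd_trans hQ (dvd_pow_self Q (by omega))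
  have h2 : 1 ≤ Q ^ j := Nat.one_le_pow _ _ hQ1
  have h3 : p ∣ Q ^ j - (Q ^ j - 1) := Nat.dvd_sub h1 h
  rw [Nat.sub_sub_self h2] at h3
  exact hp.one_lt.ne' (Nat.dvd_one.mp h3)

/-- PSL2. -/
theorem lo_psl_two {F : Type} [Field F] [Fintype F] (p : ℕ) (hp : p.Prime) [CharP F p] :
    Nat.card (Matrix.ProjectiveSpecialLinearGroup (Fin 2) F) <
        p ^ (3 * (Nat.card (Matrix.ProjectiveSpecialLinearGroup (Fin 2) F)).factorization p) ∧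
      Fintype.card F = p ^ (Nat.card (Matrix.ProjectiveSpecialLinearGroup (Fin 2) F)).factorization p := by
  obtain ⟨f, -, hcard⟩ := FiniteField.card F p
  have hf : 1 ≤ (f : ℕ) := f.pos
  have hS := Cfsg.Agent.S0243.result (F := F) hcard 2 (by norm_num)
  have hpQ : p ∣ p ^ (f : ℕ) := dvd_pow_self p (by omega)
  have hQ1 : 1 ≤ p ^ (f : ℕ) := Nat.one_le_pow _ _ hp.pos
  have hQ2 : 2 ≤ p ^ (f : ℕ) := le_trans hp.two_le (Nat.le_self_pow (by omega) p)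
  have hnd1 : ¬ p ∣ p ^ (f : ℕ) - 1 := by
    have h2 := h37_lo2_not_dvd_pow_sub_one hp (p ^ (f : ℕ)) hpQ 1 le_rfl hQ1
    rwa [pow_one] at h2
  have hnd2 : ¬ p ∣ (p ^ (f : ℕ)) ^ 2 - 1 :=
    h37_lo2_not_dvd_pow_sub_one hp (p ^ (f : ℕ)) hpQ 2 (by norm_num) hQ1
  have hndg : ¬ p ∣ Nat.gcd 2 (p ^ (f : ℕ) - 1) := fun h =>
    hnd1 (dvd_trans h (Nat.gcd_dvd_right _ _))
  have hc1 : 1 ≤ Nat.gcd 2 (p ^ (f : ℕ) - 1) := Nat.gcd_pos_of_pos_left _ (by norm_num)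
  have hprod : ∏ i : Fin 2, ((p ^ (f : ℕ)) ^ 2 - (p ^ (f : ℕ)) ^ (i : ℕ))
      = (p ^ (f : ℕ)) ^ 1 * (((p ^ (f : ℕ)) ^ 2 - 1) * (p ^ (f : ℕ) - 1)) := by
    rw [Fin.prod_univ_two]
    have e1 : (p ^ (f : ℕ)) ^ 2 - (p ^ (f : ℕ)) ^ (((1 : Fin 2) : ℕ))
        = p ^ (f : ℕ) * (p ^ (f : ℕ) - 1) := by
      rw [Nat.mul_sub_one, sq]
      simp
    rw [e1]
    simp only [Fin.val_zero, pow_zero, pow_one]
    ring
  have key := helper6_lo_arith hp (f : ℕ)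
    (Nat.gcd 2 (p ^ (f : ℕ) - 1) * (p ^ (f : ℕ) - 1))
    (Nat.card (Matrix.ProjectiveSpecialLinearGroup (Fin 2) F)) 1
    (((p ^ (f : ℕ)) ^ 2 - 1) * (p ^ (f : ℕ) - 1)) 2
    (by rw [mul_assoc, hS, hprod])
    (fun h => (hp.dvd_mul.mp h).elim hndg hnd1)
    (fun h => (hp.dvd_mul.mp h).elim hnd2 hnd1)
    (by
      have h1 : (p ^ (f : ℕ)) ^ 2 - 1 < (p ^ (f : ℕ)) ^ 2 := by
        have : 1 ≤ (p ^ (f : ℕ)) ^ 2 := Nat.one_le_pow _ _ hQ1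
        omega
      have h2 : 0 < p ^ (f : ℕ) - 1 := by omega
      calc ((p ^ (f : ℕ)) ^ 2 - 1) * (p ^ (f : ℕ) - 1)
          < (p ^ (f : ℕ)) ^ 2 * (p ^ (f : ℕ) - 1) := Nat.mul_lt_mul_of_pos_right h1 h2
        _ = 1 * (p ^ (f : ℕ) - 1) * (p ^ (f : ℕ)) ^ 2 := by ring
        _ ≤ Nat.gcd 2 (p ^ (f : ℕ) - 1) * (p ^ (f : ℕ) - 1) * (p ^ (f : ℕ)) ^ 2 :=
            Nat.mul_le_mul_right _ (Nat.mul_le_mul_right _ hc1))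
  obtain ⟨hk, hn⟩ := key
  rw [hk, mul_one]
  refine ⟨?_, hcard⟩
  calc Nat.card (Matrix.ProjectiveSpecialLinearGroup (Fin 2) F) < (p ^ (f : ℕ)) ^ (1 + 2) := hn
    _ = p ^ (3 * (f : ℕ)) := by rw [← pow_mul]; congr 1; ring

end Cfsg.Agent.Lib.helper44.LO
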