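import Mathlib
import Cfsg.Prelude.Def_LieTypeChar
import Cfsg.Agent.Lib.helper44.LODefs
import Cfsg.Agent.Lib.helper6.LOARITH
import Cfsg.Agent.S0245
import Cfsg.Agent.S0246

set_option autoImplicit false

namespace Cfsg.Agent.Lib.helper44.LO

open Cfsg

theorem h37_lo_not_dvd_pow_sub_one {p : ℕ} (hp : p.Prime) (Q : ℕ) (hQ : p ∣ Q) (j : ℕ)
    (hj : 1 ≤ j) (hQ1 : 1 ≤ Q) : ¬ p ∣ Q ^ j - 1 := by
  intro h
  have h1 : p ∣ Q ^ j := dvd_trans hQ (dvd_pow_self Q (by omega))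
  have h2 : 1 ≤ Q ^ j := Nat.one_le_pow _ _ hQ1
  have h3 : p ∣ Q ^ j - (Q ^ j - 1) := Nat.dvd_sub h1 h
  rw [Nat.sub_sub_self h2] at h3
  exact hp.one_lt.ne' (Nat.dvd_one.mp h3)

theorem h37_lo_sum_two (m : ℕ) : ∑ i ∈ Finset.range m, 2 * (i + 1) = m ^ 2 + m := by
  induction m with
  | zero => simp
  | succ k ih => rw [Finset.sum_range_succ, ih]; ring

/-- PSP. -/
theorem lo_psp {F : Type} [Field F] [Fintype F] (p : ℕ) (hp : p.Prime) [CharP F p] (m : ℕ) (hm : 2 ≤ m) :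
    LOGood p (Nat.card (Cfsg.PSp m F)) := by
  obtain ⟨f, -, hcard⟩ := FiniteField.card F p
  have hf : 1 ≤ (f : ℕ) := f.pos
  have hSp := Cfsg.Agent.S0245.result (F := F) hcard m
  have hZ := Cfsg.Agent.S0246.result (F := F) hcard m (by omega)
  have hquot : Nat.card (Matrix.symplecticGroup (Fin m) F) = Nat.card (Cfsg.PSp m F) *
      Nat.card (Subgroup.center (Matrix.symplecticGroup (Fin m) F)) :=
    Subgroup.card_eq_card_quotient_mul_card_subgroup _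
  have hpQ : p ∣ p ^ (f : ℕ) := dvd_pow_self p (by omega)
  have hQ1 : 1 ≤ p ^ (f : ℕ) := Nat.one_le_pow _ _ hp.pos
  have hQ2 : 2 ≤ p ^ (f : ℕ) := le_trans hp.two_le (Nat.le_self_pow (by omega) p)
  refine lo_good hp f hf (Nat.gcd 2 (p ^ (f : ℕ) - 1)) _ (m ^ 2)
    (∏ i ∈ Finset.range m, ((p ^ (f : ℕ)) ^ (2 * (i + 1)) - 1)) (m ^ 2 + m) ?_ ?_ ?_ ?_ ?_ ?_
  · rw [mul_comm, ← hZ, ← hquot, hSp]
  · intro h
    have h1 : p ∣ p ^ (f : ℕ) - 1 := dvd_trans h (Nat.gcd_dvd_right _ _)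
    have h2 := h37_lo_not_dvd_pow_sub_one hp (p ^ (f : ℕ)) hpQ 1 le_rfl hQ1
    rw [pow_one] at h2
    exact h2 h1
  · intro h
    obtain ⟨i, -, hi⟩ := (Prime.dvd_finsetProd_iff hp.prime _).mp h
    exact h37_lo_not_dvd_pow_sub_one hp (p ^ (f : ℕ)) hpQ (2 * (i + 1)) (by omega) hQ1 hi
  · have h1 : ∏ i ∈ Finset.range m, ((p ^ (f : ℕ)) ^ (2 * (i + 1)) - 1)
        < ∏ i ∈ Finset.range m, (p ^ (f : ℕ)) ^ (2 * (i + 1)) := by
      apply Finset.prod_lt_prod_of_nonempty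
      · intro i _
        have : 2 ≤ (p ^ (f : ℕ)) ^ (2 * (i + 1)) :=
          le_trans hQ2 (Nat.le_self_pow (by omega) _)
        omega
      · intro i _
        have : 1 ≤ (p ^ (f : ℕ)) ^ (2 * (i + 1)) := Nat.one_le_pow _ _ hQ1
        omega
      · exact Finset.nonempty_range_iff.mpr (by omega)
    rw [Finset.prod_pow_eq_pow_sum, h37_lo_sum_two] at h1
    have hc1 : 1 ≤ Nat.gcd 2 (p ^ (f : ℕ) - 1) := Nat.gcd_pos_of_pos_left _ (by norm_num)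
    calc ∏ i ∈ Finset.range m, ((p ^ (f : ℕ)) ^ (2 * (i + 1)) - 1)
        < (p ^ (f : ℕ)) ^ (m ^ 2 + m) := h1
      _ = 1 * (p ^ (f : ℕ)) ^ (m ^ 2 + m) := (one_mul _).symm
      _ ≤ Nat.gcd 2 (p ^ (f : ℕ) - 1) * (p ^ (f : ℕ)) ^ (m ^ 2 + m) :=
          Nat.mul_le_mul_right _ hc1
  · nlinarith
  · nlinarith

end Cfsg.Agent.Lib.helper44.LO
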