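import Mathlib
import Cfsg.Prelude.Def_Classical
import Cfsg.Agent.Lib.helper42.OrthoRank
import Cfsg.Agent.Lib.helper37.GLBlocks
import Cfsg.Agent.Lib.helper37.GL2Sylow

set_option autoImplicit false

namespace Cfsg.Agent.Lib.helper37

open Matrix Cfsg.Agent.Lib.helper42

section

variable {F : Type*} [Field F]

theorem mem_isoGrp_iff {ι : Type} [Fintype ι] [DecidableEq ι] (Q : (ι → F) → F) (g : GL ι F) :
    g ∈ Cfsg.isometryGroup F Q ↔ ∀ u : ι → F, Q ((g : Matrix ι ι F) *ᵥ u) = Q u :=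
  ⟨fun h u => h u u, fun h u _ => h u⟩

/-- sum of squares -/
def sqSum {κ : Type} [Fintype κ] (v : κ → F) : F := ∑ i, v i * v i

/-- the orthogonal group of the sum of squares -/
def OG (F : Type*) [Field F] (κ : Type) [Fintype κ] [DecidableEq κ] : Subgroup (GL κ F) :=
  Cfsg.isometryGroup F (sqSum (κ := κ))

theorem mem_OG_iff {κ : Type} [Fintype κ] [DecidableEq κ] (g : GL κ F) :
    g ∈ OG F κ ↔ ∀ u : κ → F, sqSum ((g : Matrix κ κ F) *ᵥ u) = sqSum u := mem_isoGrp_iff _ g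

/-- the model form: sum of squares on `κ` plus a diagonal form on `ρ` -/
noncomputable def QM (κ : Type) {ρ : Type} [Fintype κ] [Fintype ρ] (e : ρ → F) :
    QuadraticForm F (κ ⊕ ρ → F) :=
  QuadraticMap.weightedSumSquares F (Sum.elim (fun _ => (1 : F)) e)

theorem QM_apply {κ ρ : Type} [Fintype κ] [Fintype ρ] (e : ρ → F) (v : κ ⊕ ρ → F) :
    QM κ e v = sqSum (v ∘ Sum.inl) + ∑ j, e j * (v (Sum.inr j) * v (Sum.inr j)) := by
  unfold QM sqSum
  rw [QuadraticMap.weightedSumSquares_apply, Fintype.sum_sum_type]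
  simp

variable {κ ρ : Type} [Fintype κ] [DecidableEq κ] [Fintype ρ] [DecidableEq ρ]

/-- block diagonal matrices -/
def blkMatHom (F : Type*) [Field F] (κ ρ : Type) [Fintype κ] [DecidableEq κ] [Fintype ρ]
    [DecidableEq ρ] : Matrix κ κ F × Matrix ρ ρ F →* Matrix (κ ⊕ ρ) (κ ⊕ ρ) F where
  toFun p := Matrix.fromBlocks p.1 0 0 p.2
  map_one' := Matrix.fromBlocks_one
  map_mul' p p' := by
    simp [Matrix.fromBlocks_multiply]

/-- block diagonal embedding of `GL × GL` -/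
def blkHom (F : Type*) [Field F] (κ ρ : Type) [Fintype κ] [DecidableEq κ] [Fintype ρ]
    [DecidableEq ρ] : GL κ F × GL ρ F →* GL (κ ⊕ ρ) F :=
  (Units.map (blkMatHom F κ ρ)).comp
    (MulEquiv.prodUnits (M := Matrix κ κ F) (N := Matrix ρ ρ F)).symm.toMonoidHom

theorem blkHom_coe (A : GL κ F) (D : GL ρ F) :
    ((blkHom F κ ρ (A, D) : GL (κ ⊕ ρ) F) : Matrix (κ ⊕ ρ) (κ ⊕ ρ) F)
      = Matrix.fromBlocks (A : Matrix κ κ F) 0 0 (D : Matrix ρ ρ F) := rfl

/-- sign diagonal matrices as a hom -/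
def dglHom (F : Type*) [Field F] (ρ : Type) [Fintype ρ] [DecidableEq ρ] : (ρ → ℤˣ) →* GL ρ F where
  toFun ε := dgl F ε
  map_one' := Units.ext dmat_one
  map_mul' ε ε' := Units.ext (dmat_mul ε ε')

theorem dglHom_coe (ε : ρ → ℤˣ) : ((dglHom F ρ ε : GL ρ F) : Matrix ρ ρ F) = dmat F ε := rfl

theorem blk_mem (e : ρ → F) (A : GL κ F) (hA : A ∈ OG F κ) (ε : ρ → ℤˣ) :
    blkHom F κ ρ (A, dglHom F ρ ε) ∈ Cfsg.isometryGroup F ⇑(QM κ e) := by
  rw [mem_isoGrp_iff]
  intro u
  rw [QM_apply, QM_apply, blkHom_coe, Matrix.fromBlocks_mulVec, dglHom_coe]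
  have h1 : (Sum.elim ((A : Matrix κ κ F) *ᵥ (u ∘ Sum.inl) + (0 : Matrix κ ρ F) *ᵥ (u ∘ Sum.inr))
      ((0 : Matrix ρ κ F) *ᵥ (u ∘ Sum.inl) + dmat F ε *ᵥ (u ∘ Sum.inr))) ∘ Sum.inl
        = (A : Matrix κ κ F) *ᵥ (u ∘ Sum.inl) := by
    funext i; simp
  rw [h1, (mem_OG_iff A).mp hA]
  congr 1
  apply Finset.sum_congr rfl
  intro j _
  simp only [Sum.elim_inr, Matrix.zero_mulVec, zero_add]
  rw [dmat_mulVec]
  have h2 := units_cast_sq' (F := F) (ε j)
  simp only [Function.comp_apply]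
  linear_combination (e j * u (Sum.inr j) * u (Sum.inr j)) * h2

/-- the embedding `O(κ) × {±1}^ρ → O(QM)` -/
noncomputable def JHom (κ : Type) {ρ : Type} [Fintype κ] [DecidableEq κ] [Fintype ρ] [DecidableEq ρ]
    (e : ρ → F) : ↥(OG F κ) × (ρ → ℤˣ) →* ↥(Cfsg.isometryGroup F ⇑(QM κ e)) :=
  ((blkHom F κ ρ).comp (MonoidHom.prodMap (OG F κ).subtype (dglHom F ρ))).codRestrict _
    (fun p => blk_mem e p.1.1 p.1.2 p.2)

theorem JHom_coe (e : ρ → F) (p : ↥(OG F κ) × (ρ → ℤˣ)) :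
    (((JHom κ e p : ↥(Cfsg.isometryGroup F ⇑(QM κ e))) : GL (κ ⊕ ρ) F) : Matrix (κ ⊕ ρ) (κ ⊕ ρ) F)
      = Matrix.fromBlocks ((p.1 : GL κ F) : Matrix κ κ F) 0 0 (dmat F p.2) := rfl

theorem JHom_injective (h2 : (2 : F) ≠ 0) (e : ρ → F) : Function.Injective (JHom (F := F) κ e) := by
  intro p p' h
  have h1 := congrArg (fun g : ↥(Cfsg.isometryGroup F ⇑(QM κ e)) =>
    ((g : GL (κ ⊕ ρ) F) : Matrix (κ ⊕ ρ) (κ ⊕ ρ) F)) h
  simp only [JHom_coe] at h1
  rw [Matrix.fromBlocks_inj] at h1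
  obtain ⟨ha, -, -, hd⟩ := h1
  apply Prod.ext
  · exact Subtype.ext (Units.ext ha)
  · have h3 : (fun k => (((p.2 k : ℤˣ) : ℤ) : F)) = (fun k => (((p'.2 k : ℤˣ) : ℤ) : F)) :=
      Matrix.diagonal_injective hd
    funext j
    have h4 : (((p.2 j : ℤˣ) : ℤ) : F) = (((p'.2 j : ℤˣ) : ℤ) : F) := congrFun h3 j
    rcases Int.units_eq_one_or (p.2 j) with e1 | e1 <;> rcases Int.units_eq_one_or (p'.2 j) with e2 | e2
    · rw [e1, e2]
    · rw [e1, e2] at h4
      exfalso; apply h2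
      have : (1 : F) = -1 := by simpa using h4
      linear_combination this
    · rw [e1, e2] at h4
      exfalso; apply h2
      have : (-1 : F) = 1 := by simpa using h4
      linear_combination -this
    · rw [e1, e2]

/-- permutation matrices in the orthogonal group -/
def permO (F : Type*) [Field F] (κ : Type) [Fintype κ] [DecidableEq κ] :
    Equiv.Perm κ →* ↥(OG F κ) :=
  ((Matrix.permMatrixHom (n := κ) (R := F)).toHomUnits).codRestrict _ (fun σ => by
    rw [mem_OG_iff]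
    intro u
    show sqSum (σ⁻¹.permMatrix F *ᵥ u) = sqSum u
    rw [Matrix.permMatrix_mulVec]
    exact Equiv.sum_comp σ⁻¹ (fun i => u i * u i))

theorem permO_coe (σ : Equiv.Perm κ) :
    (((permO F κ σ : ↥(OG F κ)) : GL κ F) : Matrix κ κ F) = σ⁻¹.permMatrix F := rfl

theorem blockDiagonal_mulVec' (k : ℕ) (M : Fin k → Matrix (Fin 2) (Fin 2) F)
    (v : Fin 2 × Fin k → F) (a : Fin 2) (i : Fin k) :
    (Matrix.blockDiagonal M *ᵥ v) (a, i) = (M i *ᵥ (fun b => v (b, i))) a := by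
  simp only [Matrix.mulVec, dotProduct, Fintype.sum_prod_type, Matrix.blockDiagonal_apply]
  apply Finset.sum_congr rfl
  intro b _
  rw [Finset.sum_eq_single i]
  · simp
  · intro j _ hj
    rw [if_neg (Ne.symm hj), zero_mul]
  · intro h; exact absurd (Finset.mem_univ i) h

theorem bd_mem (k : ℕ) (g : Fin k → GL (Fin 2) F) (hg : ∀ i, g i ∈ OG F (Fin 2)) :
    bdHom k g ∈ OG F (Fin 2 × Fin k) := by
  rw [mem_OG_iff]
  intro u
  rw [bdHom_coe]
  unfold sqSum
  rw [Fintype.sum_prod_type_right, Fintype.sum_prod_type_right]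
  apply Finset.sum_congr rfl
  intro i _
  have h := (mem_OG_iff (g i)).mp (hg i) (fun b => u (b, i))
  unfold sqSum at h
  rw [← h]
  apply Finset.sum_congr rfl
  intro a _
  rw [blockDiagonal_mulVec']

/-- block diagonal embedding of a power of a subgroup of `O₂` -/
def bdOX (k : ℕ) (X : Subgroup (GL (Fin 2) F)) (hX : X ≤ OG F (Fin 2)) :
    (Fin k → ↥X) →* ↥(OG F (Fin 2 × Fin k)) where
  toFun f := ⟨bdHom k (fun i => (f i : GL (Fin 2) F)), bd_mem k _ (fun i => hX (f i).2)⟩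
  map_one' := Subtype.ext (map_one (bdHom k))
  map_mul' f f' := Subtype.ext (map_mul (bdHom k) (fun i => (f i : GL (Fin 2) F))
    (fun i => (f' i : GL (Fin 2) F)))

theorem bdOX_coe (k : ℕ) (X : Subgroup (GL (Fin 2) F)) (hX : X ≤ OG F (Fin 2)) (f : Fin k → ↥X) :
    ((bdOX k X hX f : ↥(OG F (Fin 2 × Fin k))) : GL (Fin 2 × Fin k) F)
      = bdHom k (fun i => (f i : GL (Fin 2) F)) := rfl

theorem bdOX_injective (k : ℕ) (X : Subgroup (GL (Fin 2) F)) (hX : X ≤ OG F (Fin 2)) :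
    Function.Injective (bdOX k X hX) := by
  intro f f' h
  have h1 := congrArg Subtype.val h
  rw [bdOX_coe, bdOX_coe] at h1
  have h2 := bdHom_injective k h1
  funext i
  exact Subtype.ext (congrFun h2 i)

/-- block permutations in the orthogonal group -/
def pmO (F : Type*) [Field F] (k : ℕ) : Equiv.Perm (Fin k) →* ↥(OG F (Fin 2 × Fin k)) :=
  (permO F (Fin 2 × Fin k)).comp (blockPermHom k)

theorem pmO_coe (k : ℕ) (σ : Equiv.Perm (Fin k)) :
    ((pmO F k σ : ↥(OG F (Fin 2 × Fin k))) : GL (Fin 2 × Fin k) F) = pmHom k σ := by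
  apply Units.ext
  rfl

theorem pmO_mul_bdOX (k : ℕ) (X : Subgroup (GL (Fin 2) F)) (hX : X ≤ OG F (Fin 2))
    (σ : Equiv.Perm (Fin k)) (f : Fin k → ↥X) :
    pmO F k σ * bdOX k X hX f = bdOX k X hX (fun i => f (σ⁻¹ i)) * pmO F k σ := by
  apply Subtype.ext
  rw [Subgroup.coe_mul, Subgroup.coe_mul, pmO_coe, bdOX_coe, bdOX_coe]
  exact pmHom_mul_bdHom k σ _

/-- the row decomposition of a block permutation -/
theorem blockPerm_decomp (k : ℕ) (σ : Equiv.Perm (Fin k)) :
    ∃ τ φ : Equiv.Perm (Fin 2 × Fin k), blockPermHom k σ = τ * (φ * τ * φ⁻¹) := by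
  refine ⟨Equiv.prodCongrRight (fun a : Fin 2 => if a = 0 then σ else 1),
    Equiv.prodCongrLeft (fun _ : Fin k => Equiv.swap (0 : Fin 2) 1), ?_⟩
  have hinv : (Equiv.prodCongrLeft (fun _ : Fin k => Equiv.swap (0 : Fin 2) 1))⁻¹
      = Equiv.prodCongrLeft (fun _ : Fin k => Equiv.swap (0 : Fin 2) 1) := by
    rw [inv_eq_iff_mul_eq_one]
    ext ⟨a, i⟩ <;> simp
  rw [hinv]
  ext ⟨a, i⟩
  · fin_cases a <;> simp [blockPermHom_apply]
  · fin_cases a <;> simp [blockPermHom_apply]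

theorem diagInvol_mem_OG : (diagInvol : GL (Fin 2) F) ∈ OG F (Fin 2) := by
  rw [mem_OG_iff]
  intro u
  show sqSum ((!![1, 0; 0, -1] : Matrix (Fin 2) (Fin 2) F) *ᵥ u) = sqSum u
  simp [sqSum, Matrix.mulVec, dotProduct, Fin.sum_univ_two]

/-- structure of the orthogonal group in dimension 2: every element is an involution or is
inverted by the diagonal involution -/
theorem og2_dihedral (h2 : (2 : F) ≠ 0) (g : GL (Fin 2) F) (hg : g ∈ OG F (Fin 2)) :
    g * g = 1 ∨ diagInvol * g * diagInvol⁻¹ = g⁻¹ := by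
  obtain ⟨p, q, r, s, hA⟩ : ∃ p q r s : F, (g : Matrix (Fin 2) (Fin 2) F) = !![p, q; r, s] :=
    ⟨_, _, _, _, Matrix.eta_fin_two _⟩
  have e1 := (mem_OG_iff g).mp hg ![1, 0]
  have e2 := (mem_OG_iff g).mp hg ![0, 1]
  have e3 := (mem_OG_iff g).mp hg ![1, 1]
  rw [hA] at e1 e2 e3
  simp [sqSum, Matrix.mulVec, dotProduct, Fin.sum_univ_two] at e1 e2 e3
  have e4 : p * q + r * s = 0 := by
    have : 2 * (p * q + r * s) = 0 := by linear_combination e3 - e1 - e2
    rcases mul_eq_zero.mp this with h | h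
    · exact absurd h h2
    · exact h
  have hT : (!![p, r; q, s] : Matrix (Fin 2) (Fin 2) F) * !![p, q; r, s] = 1 := by
    rw [Matrix.mul_fin_two, Matrix.one_fin_two]
    congr 1
    ext i j
    fin_cases i <;> fin_cases j <;> simp
    · linear_combination e1
    · linear_combination e4
    · linear_combination e4
    · linear_combination e2
  have hT' : (!![p, q; r, s] : Matrix (Fin 2) (Fin 2) F) * !![p, r; q, s] = 1 :=
    mul_eq_one_comm.mp hT
  rw [Matrix.mul_fin_two, Matrix.one_fin_two] at hT'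
  have f1 : p * p + q * q = 1 := by
    have := congrFun (congrFun hT' 0) 0
    simpa using this
  have f3 : p * r + q * s = 0 := by
    have := congrFun (congrFun hT' 0) 1
    simpa using this
  have hr : (r - q) * (r + q) = 0 := by linear_combination e1 - f1
  have hs : (s - p) * (s + p) = 0 := by linear_combination e2 - f1
  have key : (s = p ∧ r = -q) ∨ (s = -p ∧ r = q) := by
    rcases mul_eq_zero.mp hr with hr1 | hr1 <;> rcases mul_eq_zero.mp hs with hs1 | hs1
    · have hrq : r = q := sub_eq_zero.mp hr1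
      have hsp : s = p := sub_eq_zero.mp hs1
      have hpq : 2 * (p * q) = 0 := by rw [hrq, hsp] at e4; linear_combination e4
      rcases mul_eq_zero.mp hpq with h | h
      · exact absurd h h2
      · rcases mul_eq_zero.mp h with hp | hq
        · right; exact ⟨by rw [hsp, hp]; simp, hrq⟩
        · left; exact ⟨hsp, by rw [hrq, hq]; simp⟩
    · right; exact ⟨eq_neg_of_add_eq_zero_left hs1, sub_eq_zero.mp hr1⟩
    · left; exact ⟨sub_eq_zero.mp hs1, eq_neg_of_add_eq_zero_left hr1⟩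
    · have hrq : r = -q := eq_neg_of_add_eq_zero_left hr1
      have hsp : s = -p := eq_neg_of_add_eq_zero_left hs1
      have hpq : 2 * (p * q) = 0 := by rw [hrq, hsp] at e4; linear_combination e4
      rcases mul_eq_zero.mp hpq with h | h
      · exact absurd h h2
      · rcases mul_eq_zero.mp h with hp | hq
        · left; exact ⟨by rw [hsp, hp]; simp, hrq⟩
        · right; exact ⟨hsp, by rw [hrq, hq]; simp⟩
  rcases key with ⟨hs1, hr1⟩ | ⟨hs1, hr1⟩
  · right
    rw [eq_inv_iff_mul_eq_one]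
    apply Units.ext
    show (!![1, 0; 0, -1] : Matrix (Fin 2) (Fin 2) F) * (g : Matrix (Fin 2) (Fin 2) F)
      * !![1, 0; 0, -1] * (g : Matrix (Fin 2) (Fin 2) F) = 1
    rw [hA, hs1, hr1, Matrix.mul_fin_two, Matrix.mul_fin_two, Matrix.mul_fin_two, Matrix.one_fin_two]
    congr 1
    ext i j
    fin_cases i <;> fin_cases j <;> simp
    · linear_combination f1
    · ring
    · ring
    · linear_combination f1
  · left
    apply Units.ext
    show (g : Matrix (Fin 2) (Fin 2) F) * (g : Matrix (Fin 2) (Fin 2) F) = 1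
    rw [hA, hs1, hr1, Matrix.mul_fin_two, Matrix.one_fin_two]
    congr 1
    ext i j
    fin_cases i <;> fin_cases j <;> simp
    · linear_combination f1
    · ring
    · ring
    · linear_combination f1

end

end Cfsg.Agent.Lib.helper37
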