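import Mathlib
import Cfsg.Agent.S0242
import Cfsg.Agent.Lib.helper69.SymSylow
import Cfsg.Agent.Lib.helper37.SqComm
import Cfsg.Agent.Lib.helper37.SpBlocks
import Cfsg.Agent.Lib.helper37.GL2Sylow
import Cfsg.Agent.Lib.helper37.GLBlocks
import Cfsg.Agent.Lib.helper37.SLNum

set_option autoImplicit false
open scoped commutatorElement

namespace Cfsg.Agent.Lib.helper37

/-! ### monomial matrices -/

section

variable {F : Type*} [Field F] (n : ℕ)

/-- permutation matrices as a homomorphism into `GL_n(F)`. -/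
def permGL : Equiv.Perm (Fin n) →* GL (Fin n) F :=
  (Matrix.permMatrixHom (n := Fin n) (R := F)).toHomUnits

theorem permGL_coe (σ : Equiv.Perm (Fin n)) :
    ((permGL n σ : GL (Fin n) F) : Matrix (Fin n) (Fin n) F) = (σ⁻¹).permMatrix F := rfl

/-- diagonal matrices as a homomorphism into `GL_n(F)`. -/
def diagGL : (Fin n → Fˣ) →* GL (Fin n) F :=
  (Units.map (Matrix.diagonalRingHom (Fin n) F).toMonoidHom).comp
    (MulEquiv.piUnits (M := fun _ : Fin n => F)).symm.toMonoidHom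

theorem diagGL_coe (d : Fin n → Fˣ) :
    ((diagGL n d : GL (Fin n) F) : Matrix (Fin n) (Fin n) F)
      = Matrix.diagonal (fun i => ((d i : Fˣ) : F)) := rfl

theorem det_diagGL (d : Fin n → Fˣ) :
    Matrix.GeneralLinearGroup.det (diagGL n d) = ∏ i, d i := by
  apply Units.ext
  rw [Units.coe_prod]
  show (Matrix.diagonal (fun i => ((d i : Fˣ) : F))).det = _
  rw [Matrix.det_diagonal]

theorem det_permGL (σ : Equiv.Perm (Fin n)) :
    Matrix.GeneralLinearGroup.det (permGL (F := F) n σ) = 1 ∨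
    Matrix.GeneralLinearGroup.det (permGL (F := F) n σ) = -1 := by
  have h : ((Matrix.GeneralLinearGroup.det (permGL (F := F) n σ) : Fˣ) : F)
      = (((Equiv.Perm.sign σ⁻¹ : ℤˣ) : ℤ) : F) := by
    show ((permGL n σ : GL (Fin n) F) : Matrix (Fin n) (Fin n) F).det = _
    rw [permGL_coe, Matrix.det_permutation]
  rcases Int.units_eq_one_or (Equiv.Perm.sign σ⁻¹) with h1 | h1
  · left; apply Units.ext; rw [h, h1]; simp
  · right; apply Units.ext; rw [h, h1]; simp

theorem permGL_mul_diagGL (σ : Equiv.Perm (Fin n)) (d : Fin n → Fˣ) :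
    permGL n σ * diagGL n d = diagGL n (fun i => d (σ⁻¹ i)) * permGL n σ := by
  apply Units.ext
  rw [Units.val_mul, Units.val_mul, permGL_coe, diagGL_coe, diagGL_coe, permMatrix_mul_diagonal]

theorem diagGL_eq_permGL (σ : Equiv.Perm (Fin n)) (d : Fin n → Fˣ)
    (h : diagGL n d = permGL (F := F) n σ) : σ = 1 := by
  have h1 := congrArg Units.val h
  rw [diagGL_coe, permGL_coe] at h1
  have hσ : ∀ k, σ⁻¹ k = k := by
    intro k
    by_contra hne
    have h3 := congrFun (congrFun h1 k) (σ⁻¹ k)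
    rw [Matrix.diagonal_apply_ne _ (fun h' => hne h'.symm), permMatrix_apply', if_pos rfl] at h3
    exact zero_ne_one h3
  have : σ⁻¹ = 1 := Equiv.ext hσ
  exact inv_eq_one.mp this

theorem diagGL_injective : Function.Injective (diagGL (F := F) n) := by
  intro d d' h
  have h1 := congrArg Units.val h
  rw [diagGL_coe, diagGL_coe] at h1
  funext i
  apply Units.ext
  have := congrFun (congrFun h1 i) i
  simpa using this

theorem permGL_injective : Function.Injective (permGL (F := F) n) := by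
  intro σ τ h
  have h1 : diagGL n 1 = permGL (F := F) n (τ⁻¹ * σ) := by
    rw [map_one, map_mul, h, ← map_mul]; simp
  have := diagGL_eq_permGL n _ _ h1
  exact (inv_mul_eq_one.mp this).symm

/-- induction over a Sylow `2`-subgroup of `S_n` along its involutions. -/
theorem sylow_perm_induction (T : Sylow 2 (Equiv.Perm (Fin n)))
    (p : Equiv.Perm (Fin n) → Prop)
    (hgen : ∀ τ ∈ (T : Subgroup (Equiv.Perm (Fin n))), τ ^ 2 = 1 → p τ) (h1 : p 1)
    (hmul : ∀ σ₁ σ₂, p σ₁ → p σ₂ → p (σ₁ * σ₂)) (hinv : ∀ σ, p σ → p σ⁻¹) :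
    ∀ σ ∈ (T : Subgroup (Equiv.Perm (Fin n))), p σ := by
  intro σ hσ
  have hfact : Fact (Nat.Prime 2) := ⟨Nat.prime_two⟩
  have hg := Cfsg.Agent.Lib.helper69.isGenP_sylow_perm 2 n T
  let Q : Subgroup (Equiv.Perm (Fin n)) :=
    { carrier := {σ | p σ}
      mul_mem' := fun ha hb => hmul _ _ ha hb
      one_mem' := h1
      inv_mem' := fun ha => hinv _ ha }
  have hle : Subgroup.closure {y : ↥(T : Subgroup (Equiv.Perm (Fin n))) | y ^ 2 = 1}
      ≤ Q.comap (T : Subgroup (Equiv.Perm (Fin n))).subtype := by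
    rw [Subgroup.closure_le]
    intro y hy
    have h2 : (y : Equiv.Perm (Fin n)) ^ 2 = 1 := by
      have := congrArg Subtype.val hy
      simpa using this
    exact hgen y.1 y.2 h2
  have hmem : (⟨σ, hσ⟩ : ↥(T : Subgroup (Equiv.Perm (Fin n)))) ∈
      Q.comap (T : Subgroup (Equiv.Perm (Fin n))).subtype :=
    hle (by rw [hg]; exact Subgroup.mem_top _)
  exact hmem

end

theorem v2_sq_sub_one_of_four_dvd_pred (q : ℕ) (hq1 : 1 < q) (hq : 4 ∣ q - 1) :
    padicValNat 2 (q ^ 2 - 1) = padicValNat 2 (q - 1) + 1 := by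
  have hfact : Fact (Nat.Prime 2) := ⟨Nat.prime_two⟩
  obtain ⟨r, hr⟩ := hq
  have hq' : q = 4 * r + 1 := by omega
  subst hq'
  have hr0 : r ≠ 0 := by omega
  have h1 : (4 * r + 1) ^ 2 - 1 = (4 * r) * (2 * (2 * r + 1)) := by
    have : (4 * r + 1) ^ 2 = (4 * r) * (2 * (2 * r + 1)) + 1 := by ring
    rw [this, Nat.add_sub_cancel]
  rw [h1, Nat.add_sub_cancel, padicValNat.mul (a := 4 * r) (b := 2 * (2 * r + 1)) (by omega)
    (by omega), padicValNat.mul (a := 2) (b := 2 * r + 1) (by norm_num) (by omega),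
    padicValNat.eq_zero_of_not_dvd (show ¬ 2 ∣ 2 * r + 1 by omega)]
  simp

theorem mem_sylow_units_of_pow {F : Type*} [Field F] (D : Sylow 2 Fˣ) (u : Fˣ) (r : ℕ)
    (hu : u ^ (2 ^ r) = 1) : u ∈ (D : Subgroup Fˣ) := by
  have hz : IsPGroup 2 ↥(Subgroup.zpowers u) := by
    rintro ⟨g, hg⟩
    refine ⟨r, ?_⟩
    obtain ⟨z, rfl⟩ := hg
    apply Subtype.ext
    show (u ^ z) ^ (2 ^ r) = 1
    rw [← zpow_natCast, ← zpow_mul, mul_comm, zpow_mul, zpow_natCast, hu, one_zpow]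
  exact hz.le_sylow_of_normal D (Subgroup.mem_zpowers u)

section

variable {F : Type*} [Field F] [Fintype F]

/-- Sylow `2`-subgroups of `SL_n(F)`, `|F| ≡ 1 mod 4`, `n = 2m` a power of `2`. -/
theorem sl_even_sylow_sqC_one (hF : Odd (Fintype.card F)) (hq : 4 ∣ Fintype.card F - 1)
    (n m j : ℕ) (hn : n = 2 * m) (hmj : m = 2 ^ j)
    (P : Sylow 2 (Matrix.SpecialLinearGroup (Fin n) F)) :
    SqC (P : Subgroup (Matrix.SpecialLinearGroup (Fin n) F)) := by
  classical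
  have hfact : Fact (Nat.Prime 2) := ⟨Nat.prime_two⟩
  have hq1 : 1 < Fintype.card F := Fintype.one_lt_card
  have hq2 : ¬ 2 ∣ Fintype.card F := by
    intro h; exact (Nat.not_even_iff_odd.mpr hF) (even_iff_two_dvd.mpr h)
  have hm1 : 1 ≤ m := by rw [hmj]; exact Nat.one_le_two_pow
  have hn2 : 2 ≤ n := by omega
  -- the Sylow `2`-subgroup of `Fˣ`
  obtain ⟨D⟩ : Nonempty (Sylow 2 Fˣ) := inferInstance
  set a := padicValNat 2 (Fintype.card F - 1) with ha
  have hDcard : Nat.card ↥(D : Subgroup Fˣ) = 2 ^ a := by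
    rw [Sylow.card_eq_multiplicity, Nat.factorization_def _ Nat.prime_two, Nat.card_units,
      Nat.card_eq_fintype_card]
  let DD : Subgroup Fˣ := (D : Subgroup Fˣ)
  have hneg : (-1 : Fˣ) ∈ DD := mem_sylow_units_of_pow D (-1) 1 (by simp)
  obtain ⟨ζ, hζ⟩ : ∃ ζ : Fˣ, ζ ^ 2 = -1 := by
    have h4 : Fintype.card F % 4 ≠ 3 := by omega
    obtain ⟨r, hr⟩ := FiniteField.isSquare_neg_one_iff.mpr h4
    have hr0 : r ≠ 0 := by
      rintro rfl
      simp at hr
    refine ⟨Units.mk0 r hr0, ?_⟩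
    apply Units.ext
    simp [pow_two, ← hr]
  have hζD : ζ ∈ DD := mem_sylow_units_of_pow D ζ 2 (by
    rw [show (2:ℕ) ^ 2 = 2 * 2 from rfl, pow_mul, hζ]; simp)
  -- a transitive Sylow `2`-subgroup of `S_n`
  have hcyc : Equiv.Perm.IsCycle (finRotate n) := isCycle_finRotate_of_le hn2
  have hsupp : (finRotate n).support = Finset.univ := support_finRotate_of_le hn2
  have hord : orderOf (finRotate n) = 2 ^ (j + 1) := by
    rw [hcyc.orderOf, hsupp, Finset.card_univ, Fintype.card_fin, hn, hmj, pow_succ, mul_comm]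
  have hzp : IsPGroup 2 ↥(Subgroup.zpowers (finRotate n)) :=
    IsPGroup.of_card (n := j + 1) (by rw [Nat.card_zpowers, hord])
  obtain ⟨T, hT⟩ := hzp.exists_le_sylow
  have htrans : ∀ i k : Fin n, ∃ σ ∈ (T : Subgroup (Equiv.Perm (Fin n))), σ i = k := by
    intro i k
    have hmv : ∀ l : Fin n, finRotate n l ≠ l := by
      intro l
      have : l ∈ (finRotate n).support := by rw [hsupp]; exact Finset.mem_univ l
      exact Equiv.Perm.mem_support.mp this
    obtain ⟨r, hr⟩ := hcyc.exists_pow_eq (hmv i) (hmv k)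
    exact ⟨finRotate n ^ r, hT (Subgroup.pow_mem _ (Subgroup.mem_zpowers _) r), hr⟩
  have hTcard : Nat.card ↥(T : Subgroup (Equiv.Perm (Fin n)))
      = 2 ^ padicValNat 2 (Nat.factorial n) := by
    rw [Sylow.card_eq_multiplicity, Nat.card_perm, Nat.factorization_def _ Nat.prime_two]
    simp
  -- maps
  let φ : (Fin n → ↥DD) →* GL (Fin n) F := (diagGL n).comp (DD.subtype.compLeft (Fin n))
  have hφ : ∀ f : Fin n → ↥DD, φ f = diagGL n (fun i => (f i).1) := fun f => rfl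
  have hφinj : Function.Injective φ := by
    intro f g hfg
    rw [hφ, hφ] at hfg
    have := diagGL_injective n hfg
    funext i
    exact Subtype.ext (congrFun this i)
  let Δ : (Fin n → ↥DD) →* Fˣ := Matrix.GeneralLinearGroup.det.comp φ
  have hΔ' : ∀ f, Δ f = ∏ i, (f i).1 := fun f => by
    show Matrix.GeneralLinearGroup.det (φ f) = _
    rw [hφ, det_diagGL]
  have hΔ : ∀ i x, Δ (Pi.mulSingle i x) = x.1 := by
    intro i x
    rw [hΔ', Finset.prod_eq_single i]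
    · rw [Pi.mulSingle_eq_same]
    · intro k _ hk; rw [Pi.mulSingle_eq_of_ne hk]; rfl
    · intro h; exact absurd (Finset.mem_univ i) h
  let sg : Equiv.Perm (Fin n) →* Fˣ := Matrix.GeneralLinearGroup.det.comp (permGL n)
  have hsg : ∀ σ, sg σ = 1 ∨ sg σ = -1 := fun σ => det_permGL n σ
  have hconj' : ∀ (σ : Equiv.Perm (Fin n)) (f : Fin n → ↥DD),
      permGL n σ * φ f = φ (fun i => f (σ⁻¹ i)) * permGL n σ := by
    intro σ f
    rw [hφ, hφ]
    exact permGL_mul_diagGL n σ _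
  have hconj : ∀ (σ : Equiv.Perm (Fin n)) (f : Fin n → ↥DD),
      permGL n σ * φ f * (permGL n σ)⁻¹ = φ (fun i => f (σ⁻¹ i)) := by
    intro σ f
    rw [mul_inv_eq_iff_eq_mul]
    exact hconj' σ f
  have hms : ∀ (σ : Equiv.Perm (Fin n)) (i : Fin n) (u : ↥DD),
      (fun k => (Pi.mulSingle i u : Fin n → ↥DD) (σ⁻¹ k)) = Pi.mulSingle (σ i) u := by
    intro σ i u
    funext k
    by_cases hk : k = σ i
    · subst hk; simp
    · have : σ⁻¹ k ≠ i := fun h => hk (by rw [← h]; simp)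
      rw [Pi.mulSingle_eq_of_ne hk, Pi.mulSingle_eq_of_ne this]
  let negOne : ↥DD := ⟨-1, hneg⟩
  let ζ' : ↥DD := ⟨ζ, hζD⟩
  have hζ' : ζ' ^ 2 = negOne := Subtype.ext (by simpa using hζ)
  have hnegOne : negOne⁻¹ = negOne := Subtype.ext (by simp [negOne])
  let i₀ : Fin n := ⟨0, by omega⟩
  let E : Fin n → Fin n → ↥DD → GL (Fin n) F :=
    fun i k u => φ (Pi.mulSingle i u * Pi.mulSingle k u⁻¹)
  let Gen : Set (GL (Fin n) F) :=
    {x | ∃ i k u, x = E i k u} ∪
    {x | ∃ τ ∈ (T : Subgroup (Equiv.Perm (Fin n))), τ ^ 2 = 1 ∧ sg τ = 1 ∧ x = permGL n τ} ∪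
    {x | ∃ τ ∈ (T : Subgroup (Equiv.Perm (Fin n))), τ ^ 2 = 1 ∧ sg τ = -1 ∧
      x = φ (Pi.mulSingle i₀ negOne) * permGL n τ}
  let C : Subgroup (GL (Fin n) F) := Subgroup.closure Gen
  have hEC : ∀ i k u, E i k u ∈ C :=
    fun i k u => Subgroup.subset_closure (Or.inl (Or.inl ⟨i, k, u, rfl⟩))
  -- lifts of the elements of `T`
  have hlift : ∀ σ ∈ (T : Subgroup (Equiv.Perm (Fin n))),
      ∃ f : Fin n → ↥DD, φ f * permGL n σ ∈ C := by
    apply sylow_perm_induction n T (fun σ => ∃ f : Fin n → ↥DD, φ f * permGL n σ ∈ C)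
    · intro τ hτ hτ2
      rcases hsg τ with h | h
      · exact ⟨1, by
          rw [map_one, one_mul]
          exact Subgroup.subset_closure (Or.inl (Or.inr ⟨τ, hτ, hτ2, h, rfl⟩))⟩
      · exact ⟨Pi.mulSingle i₀ negOne, Subgroup.subset_closure (Or.inr ⟨τ, hτ, hτ2, h, rfl⟩)⟩
    · exact ⟨1, by rw [map_one, map_one, one_mul]; exact Subgroup.one_mem _⟩
    · rintro σ₁ σ₂ ⟨f₁, h₁⟩ ⟨f₂, h₂⟩
      refine ⟨f₁ * (fun i => f₂ (σ₁⁻¹ i)), ?_⟩
      have : φ (f₁ * fun i => f₂ (σ₁⁻¹ i)) * permGL n (σ₁ * σ₂)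
          = (φ f₁ * permGL n σ₁) * (φ f₂ * permGL n σ₂) := by
        rw [map_mul, map_mul, mul_assoc (φ f₁) (permGL n σ₁), ← mul_assoc (permGL n σ₁),
          hconj' σ₁ f₂]
        simp only [mul_assoc]
      rw [this]; exact Subgroup.mul_mem _ h₁ h₂
    · rintro σ ⟨f, h⟩
      refine ⟨fun i => (f (σ i))⁻¹, ?_⟩
      have : φ (fun i => (f (σ i))⁻¹) * permGL n σ⁻¹ = (φ f * permGL n σ)⁻¹ := by
        rw [mul_inv_rev, ← map_inv, ← map_inv, hconj' σ⁻¹ f⁻¹]
        simp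
      rw [this]; exact Subgroup.inv_mem _ h
  have hcomm : ∀ f g : Fin n → ↥DD, φ f * φ g = φ g * φ f := by
    intro f g; rw [← map_mul, ← map_mul, mul_comm]
  -- squares of the elementary diagonal elements
  have hE2 : ∀ σ ∈ (T : Subgroup (Equiv.Perm (Fin n))), ∀ i u, (E i (σ i) u) ^ 2 ∈ ⁅C, C⁆ := by
    apply sylow_perm_induction n T (fun σ => ∀ i u, (E i (σ i) u) ^ 2 ∈ ⁅C, C⁆)
    · intro τ hτ hτ2 i u
      obtain ⟨f, hf⟩ := hlift τ hτ
      have hττ : τ (τ i) = i := by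
        have := congrArg (fun ρ : Equiv.Perm (Fin n) => ρ i) hτ2
        simpa [pow_two] using this
      have h2 : permGL n τ * E i (τ i) u * (permGL n τ)⁻¹ = (E i (τ i) u)⁻¹ := by
        show permGL n τ * φ _ * (permGL n τ)⁻¹ = (φ _)⁻¹
        rw [hconj, ← map_inv]
        congr 1
        have e1 := hms τ i u
        have e2 := hms τ (τ i) u⁻¹
        rw [hττ] at e2
        have e3 : (fun k => (Pi.mulSingle i u * Pi.mulSingle (τ i) u⁻¹ : Fin n → ↥DD) (τ⁻¹ k))
            = (fun k => (Pi.mulSingle i u : Fin n → ↥DD) (τ⁻¹ k))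
              * (fun k => (Pi.mulSingle (τ i) u⁻¹ : Fin n → ↥DD) (τ⁻¹ k)) := rfl
        rw [e3, e1, e2, mul_inv_rev, ← Pi.mulSingle_inv, ← Pi.mulSingle_inv, inv_inv, mul_comm]
      have h1 : (φ f * permGL n τ) * E i (τ i) u * (φ f * permGL n τ)⁻¹ = (E i (τ i) u)⁻¹ := by
        calc (φ f * permGL n τ) * E i (τ i) u * (φ f * permGL n τ)⁻¹
            = φ f * (permGL n τ * E i (τ i) u * (permGL n τ)⁻¹) * (φ f)⁻¹ := by group
          _ = φ f * (E i (τ i) u)⁻¹ * (φ f)⁻¹ := by rw [h2]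
          _ = (E i (τ i) u)⁻¹ := by
              show φ f * (φ _)⁻¹ * (φ f)⁻¹ = (φ _)⁻¹
              rw [← map_inv, hcomm, mul_assoc, mul_inv_cancel, mul_one]
      have h3 : ⁅φ f * permGL n τ, E i (τ i) u⁆ ∈ ⁅C, C⁆ :=
        Subgroup.commutator_mem_commutator hf (hEC _ _ _)
      rw [commutatorElement_def, h1, ← mul_inv_rev, ← pow_two] at h3
      exact (Subgroup.inv_mem_iff _).mp h3
    · intro i u
      have : E i ((1 : Equiv.Perm (Fin n)) i) u = 1 := by
        show φ (Pi.mulSingle i u * Pi.mulSingle i u⁻¹) = 1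
        rw [← Pi.mulSingle_mul, mul_inv_cancel, Pi.mulSingle_one, map_one]
      rw [this, one_pow]; exact Subgroup.one_mem _
    · intro σ₁ σ₂ h₁ h₂ i u
      have : E i ((σ₁ * σ₂) i) u = E i (σ₂ i) u * E (σ₂ i) (σ₁ (σ₂ i)) u := by
        show φ _ = φ _ * φ _
        rw [← map_mul]
        congr 1
        have e : (Pi.mulSingle (σ₂ i) u⁻¹ : Fin n → ↥DD) * Pi.mulSingle (σ₂ i) u = 1 := by
          rw [← Pi.mulSingle_mul, inv_mul_cancel, Pi.mulSingle_one]
        rw [Equiv.Perm.mul_apply, mul_assoc,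
          ← mul_assoc (Pi.mulSingle (σ₂ i) u⁻¹ : Fin n → ↥DD), e, one_mul]
      have hc : Commute (E i (σ₂ i) u) (E (σ₂ i) (σ₁ (σ₂ i)) u) := hcomm _ _
      rw [this, hc.mul_pow]
      exact Subgroup.mul_mem _ (h₂ i u) (h₁ (σ₂ i) u)
    · intro σ h i u
      have : E i (σ⁻¹ i) u = (E (σ⁻¹ i) (σ (σ⁻¹ i)) u)⁻¹ := by
        show φ _ = (φ _)⁻¹
        rw [← map_inv]; congr 1
        have hσσ : σ (σ⁻¹ i) = i := by simp
        rw [hσσ, mul_inv_rev, ← Pi.mulSingle_inv, ← Pi.mulSingle_inv, inv_inv]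
      rw [this, inv_pow]
      exact Subgroup.inv_mem _ (h (σ⁻¹ i) u)
  have hE2all : ∀ i k u, (E i k u) ^ 2 ∈ ⁅C, C⁆ := by
    intro i k u
    obtain ⟨σ, hσ, rfl⟩ := htrans i k
    exact hE2 σ hσ i u
  -- squares of the generators
  have hsq : ∀ s ∈ Gen, s ^ 2 ∈ ⁅C, C⁆ := by
    rintro s ((⟨i, k, u, rfl⟩ | ⟨τ, hτ, hτ2, _, rfl⟩) | ⟨τ, hτ, hτ2, _, rfl⟩)
    · exact hE2all i k u
    · rw [← map_pow, hτ2, map_one]
      exact Subgroup.one_mem _
    · have h1 : (φ (Pi.mulSingle i₀ negOne) * permGL n τ) ^ 2 = (E i₀ (τ i₀) ζ') ^ 2 := by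
        have e1 : (E i₀ (τ i₀) ζ') ^ 2
            = φ (Pi.mulSingle i₀ negOne * Pi.mulSingle (τ i₀) negOne) := by
          show (φ _) ^ 2 = _
          rw [← map_pow, mul_pow, ← Pi.mulSingle_pow, ← Pi.mulSingle_pow, inv_pow, hζ', hnegOne]
        have e2 : permGL (F := F) n τ * permGL n τ = 1 := by
          rw [← map_mul, ← pow_two, hτ2, map_one]
        rw [e1, pow_two, mul_assoc (φ (Pi.mulSingle i₀ negOne)) (permGL (F := F) n τ),
          ← mul_assoc (permGL (F := F) n τ), hconj' τ, hms τ i₀ negOne, mul_assoc, e2, mul_one,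
          ← map_mul]
      rw [h1]
      exact hE2all _ _ _
  have hsqC : SqC C := sqC_of_closure C Gen rfl hsq
  -- `C` consists of matrices of determinant one
  have hR : C ≤ (Matrix.SpecialLinearGroup.toGL :
      Matrix.SpecialLinearGroup (Fin n) F →* GL (Fin n) F).range := by
    show Subgroup.closure Gen ≤ _
    rw [Subgroup.closure_le]
    rintro s ((⟨i, k, u, rfl⟩ | ⟨τ, hτ, hτ2, hs, rfl⟩) | ⟨τ, hτ, hτ2, hs, rfl⟩)
    · rw [SetLike.mem_coe, mem_toGL_range_iff]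
      show Δ (Pi.mulSingle i u * Pi.mulSingle k u⁻¹) = 1
      rw [map_mul, hΔ, hΔ]
      simp
    · rw [SetLike.mem_coe, mem_toGL_range_iff]
      exact hs
    · rw [SetLike.mem_coe, mem_toGL_range_iff, map_mul]
      have h1 : Matrix.GeneralLinearGroup.det (φ (Pi.mulSingle i₀ negOne)) = -1 := hΔ i₀ negOne
      have h2 : Matrix.GeneralLinearGroup.det (permGL (F := F) n τ) = -1 := hs
      rw [h1, h2]; simp
  -- `C` is a `2`-group
  let A : Subgroup (GL (Fin n) F) := φ.range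
  let B : Subgroup (GL (Fin n) F) := (T : Subgroup (Equiv.Perm (Fin n))).map (permGL n)
  have hAcard : Nat.card ↥A = 2 ^ (a * n) := by
    rw [← Nat.card_congr (MonoidHom.ofInjective hφinj).toEquiv, Nat.card_fun, hDcard,
      Nat.card_fin, pow_mul]
  have hAp : IsPGroup 2 ↥A := IsPGroup.of_card hAcard
  have hBp : IsPGroup 2 ↥B := IsPGroup.map T.isPGroup' (permGL n)
  have hW : IsPGroup 2 ↥(A ⊔ B) := by
    apply isPGroup_sup_of_normalizes A B hAp hBp
    rintro _ ⟨σ, hσ, rfl⟩ _ ⟨f, rfl⟩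
    exact ⟨_, (hconj σ f).symm⟩
  have hCW : C ≤ A ⊔ B := by
    show Subgroup.closure Gen ≤ _
    rw [Subgroup.closure_le]
    rintro s ((⟨i, k, u, rfl⟩ | ⟨τ, hτ, hτ2, hs, rfl⟩) | ⟨τ, hτ, hτ2, hs, rfl⟩)
    · exact (le_sup_left : A ≤ A ⊔ B) ⟨_, rfl⟩
    · exact (le_sup_right : B ≤ A ⊔ B) (Subgroup.mem_map_of_mem _ hτ)
    · exact Subgroup.mul_mem _ ((le_sup_left : A ≤ A ⊔ B) ⟨_, rfl⟩)
        ((le_sup_right : B ≤ A ⊔ B) (Subgroup.mem_map_of_mem _ hτ))
  have hCp : IsPGroup 2 ↥C := hW.to_le hCW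
  -- the order of `C`
  let K : Subgroup (Fin n → ↥DD) := Δ.ker
  have hKC : K.map φ ≤ C := by
    rintro _ ⟨f, hf, rfl⟩
    have hprod : ∏ i, f i = 1 := by
      apply Subtype.ext
      have h1 : Δ f = 1 := hf
      rw [hΔ'] at h1
      have h5 : ((∏ i, f i : ↥DD) : Fˣ) = ∏ i, (f i).1 := map_prod DD.subtype f Finset.univ
      rw [h5, h1]
      rfl
    have hfe : f = ∏ i, (Pi.mulSingle i (f i) * Pi.mulSingle i₀ (f i)⁻¹) := by
      rw [Finset.prod_mul_distrib, Finset.univ_prod_mulSingle]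
      have h2 : ∏ i, (Pi.mulSingle i₀ (f i)⁻¹ : Fin n → ↥DD) = 1 := by
        have h := map_prod (MonoidHom.mulSingle (fun _ : Fin n => ↥DD) i₀)
          (fun i => (f i)⁻¹) Finset.univ
        rw [Finset.prod_inv_distrib, hprod, inv_one, map_one] at h
        exact h.symm
      rw [h2, mul_one]
    have hmem : ∏ i, (Pi.mulSingle i (f i) * Pi.mulSingle i₀ (f i)⁻¹) ∈ C.comap φ :=
      Subgroup.prod_mem _ (fun i _ => hEC i i₀ (f i))
    rw [← hfe] at hmem
    exact hmem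
  have hKcard : 2 ^ (a * n) ≤ Nat.card ↥K * 2 ^ a := by
    have h1 : Nat.card ↥K * K.index = Nat.card (Fin n → ↥DD) := Subgroup.card_mul_index _
    have h2 : K.index = Nat.card Δ.range := Subgroup.index_ker Δ
    have h3 : Nat.card ↥Δ.range ≤ Nat.card ↥DD := by
      apply Subgroup.card_le_of_le
      rintro _ ⟨f, rfl⟩
      rw [hΔ']
      exact Subgroup.prod_mem _ (fun i _ => (f i).2)
    rw [Nat.card_fun, hDcard, Nat.card_fin, ← pow_mul] at h1
    rw [← h1, h2]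
    exact Nat.mul_le_mul_left _ (h3.trans hDcard.le)
  choose! ℓ hℓ using hlift
  have hCcard : Nat.card ↥K * Nat.card ↥(T : Subgroup (Equiv.Perm (Fin n))) ≤ Nat.card ↥C := by
    rw [← Nat.card_prod]
    apply Nat.card_le_card_of_injective
      (fun g : ↥K × ↥(T : Subgroup (Equiv.Perm (Fin n))) =>
        (⟨φ g.1.1 * (φ (ℓ g.2.1) * permGL n g.2.1),
          Subgroup.mul_mem _ (hKC ⟨g.1.1, g.1.2, rfl⟩) (hℓ g.2.1 g.2.2)⟩ : ↥C))
    rintro ⟨⟨f, hf⟩, ⟨σ, hσ⟩⟩ ⟨⟨f', hf'⟩, ⟨σ', hσ'⟩⟩ h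
    have h1 : φ f * (φ (ℓ σ) * permGL n σ) = φ f' * (φ (ℓ σ') * permGL n σ') :=
      congrArg Subtype.val h
    have hX : φ (f * ℓ σ) * permGL n σ = φ (f' * ℓ σ') * permGL n σ' := by
      rw [map_mul, map_mul, mul_assoc, mul_assoc]; exact h1
    have h2 : φ ((f' * ℓ σ')⁻¹ * (f * ℓ σ)) = permGL n (σ' * σ⁻¹) := by
      rw [map_mul, map_inv, map_mul (permGL n), map_inv, inv_mul_eq_iff_eq_mul, ← mul_assoc,
        eq_mul_inv_iff_mul_eq]
      exact hX
    have h3 : σ' * σ⁻¹ = 1 := diagGL_eq_permGL n _ _ (by rw [← hφ]; exact h2)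
    have h4 : σ = σ' := (mul_inv_eq_one.mp h3).symm
    subst h4
    have h5 : φ f = φ f' := mul_right_cancel h1
    have h6 := hφinj h5
    subst h6
    rfl
  -- numerics
  have hc : padicValNat 2 (Fintype.card F ^ 2 - 1) = a + 1 :=
    v2_sq_sub_one_of_four_dvd_pred _ hq1 hq
  have hG : padicValNat 2 (Nat.card (Matrix.SpecialLinearGroup (Fin n) F)) + a
      = a * n + padicValNat 2 (Nat.factorial n) := by
    have h1 := Cfsg.Agent.S0242.result (F := F) rfl n (by omega)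
    have h2 := congrArg (padicValNat 2) h1
    rw [v2_gl_prod _ hq1 hq2, hn, v2Sum_even _ hq1 hq2,
      padicValNat.mul (by omega) (Nat.card_pos.ne'), hc] at h2
    rw [hn, padicValNat_factorial_mul]
    have h3 : a * (2 * m) = m * a + m * a := by ring
    rw [mul_add, ← ha] at h2
    omega
  -- transfer to `SL_n`
  let P1 : Subgroup (Matrix.SpecialLinearGroup (Fin n) F) :=
    C.comap Matrix.SpecialLinearGroup.toGL
  have hP1sq : SqC P1 := hsqC.comap_of_injective _ Matrix.SpecialLinearGroup.toGL_injective hR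
  have hP1p : IsPGroup 2 ↥P1 :=
    hCp.comap_of_injective _ Matrix.SpecialLinearGroup.toGL_injective
  have hP1card : Nat.card ↥P1 = Nat.card ↥C :=
    card_comap_of_injective_of_le _ Matrix.SpecialLinearGroup.toGL_injective hR
  have hidx : ¬ 2 ∣ P1.index := by
    apply odd_index_of_card_ge _ hP1p
    rw [hP1card]
    have h3 : 2 ^ (padicValNat 2 (Nat.card (Matrix.SpecialLinearGroup (Fin n) F))) * 2 ^ a
        ≤ Nat.card ↥C * 2 ^ a := by
      rw [← pow_add, hG, pow_add]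
      calc 2 ^ (a * n) * 2 ^ padicValNat 2 n.factorial
          ≤ (Nat.card ↥K * 2 ^ a) * Nat.card ↥(T : Subgroup (Equiv.Perm (Fin n))) := by
            rw [hTcard]; exact Nat.mul_le_mul_right _ hKcard
        _ = (Nat.card ↥K * Nat.card ↥(T : Subgroup (Equiv.Perm (Fin n)))) * 2 ^ a := by ring
        _ ≤ _ := Nat.mul_le_mul_right _ hCcard
    exact Nat.le_of_mul_le_mul_right h3 (by positivity)
  exact sqC_sylow_of_sub _ hP1p hidx hP1sq P

end

end Cfsg.Agent.Lib.helper37
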