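import Mathlib
import Cfsg.Agent.Lib.helper37.SqComm

set_option autoImplicit false
open scoped commutatorElement

namespace Cfsg.Agent.Lib.helper37

/-- every element of a power is a product of "balanced pairs" times an element supported at `i0`. -/
theorem collect_at {ι : Type*} [DecidableEq ι] [Fintype ι] {X : Type*} [Group X] (i0 : ι)
    (f : ι → X) :
    ∃ x : X, f * (Pi.mulSingle i0 x)⁻¹ ∈ Subgroup.closure
      {g : ι → X | ∃ i j y, i ≠ j ∧ g = Pi.mulSingle i y * Pi.mulSingle j y⁻¹} := by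
  classical
  set B : Set (ι → X) := {g : ι → X | ∃ i j y, i ≠ j ∧ g = Pi.mulSingle i y * Pi.mulSingle j y⁻¹}
    with hB
  have key : ∀ s : Finset ι, i0 ∉ s → ∀ f : ι → X, (∀ l, l ∉ s → l ≠ i0 → f l = 1) →
      ∃ x : X, f * (Pi.mulSingle i0 x)⁻¹ ∈ Subgroup.closure B := by
    intro s
    induction s using Finset.induction_on with
    | empty =>
      intro _ f hf
      refine ⟨f i0, ?_⟩
      have : f = Pi.mulSingle i0 (f i0) := by
        funext l
        by_cases hl : l = i0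
        · subst hl; simp
        · rw [Pi.mulSingle_eq_of_ne hl]
          exact hf l (Finset.notMem_empty l) hl
      rw [← this, mul_inv_cancel]
      exact Subgroup.one_mem _
    | insert i s' hi ih =>
      intro h0 f hf
      have hi0 : i ≠ i0 := fun h => h0 (h ▸ Finset.mem_insert_self i s')
      have h0' : i0 ∉ s' := fun h => h0 (Finset.mem_insert_of_mem h)
      set b : ι → X := Pi.mulSingle i (f i) * Pi.mulSingle i0 (f i)⁻¹ with hb
      have hbB : b ∈ Subgroup.closure B := Subgroup.subset_closure ⟨i, i0, f i, hi0, rfl⟩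
      obtain ⟨x, hx⟩ := ih h0' (b⁻¹ * f) (by
        intro l hl hl0
        by_cases hli : l = i
        · subst hli
          simp [hb, Pi.mulSingle_eq_of_ne hl0]
        · have : f l = 1 := hf l (by simp [hli, hl]) hl0
          simp [hb, Pi.mulSingle_eq_of_ne hli, Pi.mulSingle_eq_of_ne hl0, this])
      refine ⟨x, ?_⟩
      have : f * (Pi.mulSingle i0 x)⁻¹ = b * (b⁻¹ * f * (Pi.mulSingle i0 x)⁻¹) := by group
      rw [this]
      exact Subgroup.mul_mem _ hbB hx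
  exact key (Finset.univ.erase i0) (Finset.notMem_erase i0 _) f (by
    intro l hl hl0
    exact absurd (Finset.mem_erase.mpr ⟨hl0, Finset.mem_univ l⟩) hl)

/-- the kernel of a character on a wreath-type group `(X^k ⋊ T) × R` has elementary abelian
abelianization, provided `X` is "dihedral-like" with respect to an involution `s`. -/
theorem sqC_wreath_ker {G E X : Type*} [Group G] [CommGroup E] [Group X] (k : ℕ) (hk : 2 ≤ k)
    (Φ : G →* E) (β : (Fin k → X) →* G) (π : Equiv.Perm (Fin k) →* G)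
    (T : Subgroup (Equiv.Perm (Fin k)))
    (hT : ∀ σ ∈ T, σ ∈ Subgroup.closure {τ : Equiv.Perm (Fin k) | τ ∈ T ∧ τ ^ 2 = 1})
    (Rg : Subgroup G)
    (h1 : ∀ σ f, π σ * β f * (π σ)⁻¹ = β (fun i => f (σ⁻¹ i)))
    (h2a : ∀ r ∈ Rg, ∀ f, r * β f = β f * r)
    (h2b : ∀ r ∈ Rg, ∀ σ, r * π σ = π σ * r)
    (h2c : ∀ r ∈ Rg, r * r = 1)
    (h3 : ∀ σ, Φ (π σ) = 1)
    (s : X) (hs : s * s = 1) (h4 : ∀ x : X, x * x = 1 ∨ s * x * s⁻¹ = x⁻¹)
    (W : Subgroup G) (hW : ∀ g, g ∈ W ↔ ∃ f, ∃ σ ∈ T, ∃ r ∈ Rg, g = β f * π σ * r) :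
    SqC (W ⊓ Φ.ker) := by
  classical
  let i0 : Fin k := ⟨0, by omega⟩
  let i1 : Fin k := ⟨1, by omega⟩
  have h01 : i0 ≠ i1 := by
    intro h
    have := congrArg Fin.val h
    simp [i0, i1] at this
  let φ : X →* E := Φ.comp (β.comp (MonoidHom.mulSingle (fun _ : Fin k => X) i0))
  have hms : ∀ (σ : Equiv.Perm (Fin k)) (i : Fin k) (u : X),
      (fun l => (Pi.mulSingle i u : Fin k → X) (σ⁻¹ l)) = Pi.mulSingle (σ i) u := by
    intro σ i u
    funext l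
    by_cases hl : l = σ i
    · subst hl; simp
    · have : σ⁻¹ l ≠ i := fun h => hl (by rw [← h]; simp)
      rw [Pi.mulSingle_eq_of_ne hl, Pi.mulSingle_eq_of_ne this]
  have hφ : ∀ i x, Φ (β (Pi.mulSingle i x)) = φ x := by
    intro i x
    have h := h1 (Equiv.swap i i0) (Pi.mulSingle i x)
    rw [hms, Equiv.swap_apply_left] at h
    show _ = Φ (β (Pi.mulSingle i0 x))
    rw [← h, map_mul, map_mul, map_inv, mul_comm, ← mul_assoc, inv_mul_cancel, one_mul]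
  set P0 : Subgroup G := W ⊓ Φ.ker with hP0
  have hmemP0 : ∀ g, g ∈ P0 ↔ g ∈ W ∧ Φ g = 1 := by
    intro g
    rw [hP0, Subgroup.mem_inf, MonoidHom.mem_ker]
  let B : Set (Fin k → X) :=
    {g : Fin k → X | ∃ i j y, i ≠ j ∧ g = Pi.mulSingle i y * Pi.mulSingle j y⁻¹}
  let Gen : Set G := (β '' B) ∪ {g | ∃ τ ∈ T, τ ^ 2 = 1 ∧ g = π τ} ∪
    {g | ∃ r ∈ Rg, ∃ x, Φ (r * β (Pi.mulSingle i0 x)) = 1 ∧ g = r * β (Pi.mulSingle i0 x)}
  have hβW : ∀ f, β f ∈ W := by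
    intro f
    rw [hW]
    exact ⟨f, 1, T.one_mem, 1, Rg.one_mem, by rw [map_one, mul_one, mul_one]⟩
  have hΦB : ∀ u ∈ B, Φ (β u) = 1 := by
    rintro u ⟨i, j, y, hij, rfl⟩
    rw [map_mul, map_mul, hφ, hφ, ← map_mul, mul_inv_cancel, map_one]
  -- generators lie in `P0`
  have hGenP0 : Gen ⊆ P0 := by
    rintro g ((⟨u, hu, rfl⟩ | ⟨τ, hτ, hτ2, rfl⟩) | ⟨r, hr, x, hΦ, rfl⟩)
    · exact (hmemP0 _).mpr ⟨hβW u, hΦB u hu⟩
    · refine (hmemP0 _).mpr ⟨?_, h3 τ⟩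
      rw [hW]
      exact ⟨1, τ, hτ, 1, Rg.one_mem, by rw [map_one, one_mul, mul_one]⟩
    · refine (hmemP0 _).mpr ⟨?_, hΦ⟩
      rw [hW]
      exact ⟨Pi.mulSingle i0 x, 1, T.one_mem, r, hr, by rw [map_one, mul_one, h2a r hr]⟩
  have hcl : Subgroup.closure Gen ≤ P0 := (Subgroup.closure_le _).mpr hGenP0
  -- `P0` is generated by `Gen`
  have hle : P0 ≤ Subgroup.closure Gen := by
    intro g hg
    obtain ⟨hgW, hgΦ⟩ := (hmemP0 g).mp hg
    obtain ⟨f, σ, hσ, r, hr, rfl⟩ := (hW g).mp hgW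
    have hπ : π σ ∈ Subgroup.closure Gen := by
      have hle' : Subgroup.closure {τ : Equiv.Perm (Fin k) | τ ∈ T ∧ τ ^ 2 = 1}
          ≤ (Subgroup.closure Gen).comap π := by
        rw [Subgroup.closure_le]
        rintro τ ⟨hτ, hτ2⟩
        exact Subgroup.subset_closure (Or.inl (Or.inr ⟨τ, hτ, hτ2, rfl⟩))
      exact hle' (hT σ hσ)
    obtain ⟨x, hx⟩ := collect_at i0 f
    have hc : β (f * (Pi.mulSingle i0 x)⁻¹) ∈ Subgroup.closure Gen := by
      have hle' : Subgroup.closure B ≤ (Subgroup.closure Gen).comap β := by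
        rw [Subgroup.closure_le]
        intro u hu
        exact Subgroup.subset_closure (Or.inl (Or.inl ⟨u, hu, rfl⟩))
      exact hle' hx
    have hcΦ : Φ (β (f * (Pi.mulSingle i0 x)⁻¹)) = 1 := ((hmemP0 _).mp (hcl hc)).2
    have e1 : β f = β (f * (Pi.mulSingle i0 x)⁻¹) * β (Pi.mulSingle i0 x) := by
      rw [← map_mul, inv_mul_cancel_right]
    have heq : β f * π σ * r
        = β (f * (Pi.mulSingle i0 x)⁻¹) * (r * β (Pi.mulSingle i0 x)) * π σ := by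
      calc β f * π σ * r = β f * (π σ * r) := mul_assoc _ _ _
        _ = β f * (r * π σ) := by rw [h2b r hr]
        _ = β (f * (Pi.mulSingle i0 x)⁻¹) * β (Pi.mulSingle i0 x) * (r * π σ) := by rw [← e1]
        _ = β (f * (Pi.mulSingle i0 x)⁻¹) * (β (Pi.mulSingle i0 x) * r) * π σ := by
            simp only [mul_assoc]
        _ = β (f * (Pi.mulSingle i0 x)⁻¹) * (r * β (Pi.mulSingle i0 x)) * π σ := by
            rw [h2a r hr]
    have hd : Φ (r * β (Pi.mulSingle i0 x)) = 1 := by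
      rw [heq, map_mul, map_mul, hcΦ, h3, one_mul, mul_one] at hgΦ
      exact hgΦ
    rw [heq]
    exact Subgroup.mul_mem _ (Subgroup.mul_mem _ hc
      (Subgroup.subset_closure (Or.inr ⟨r, hr, x, hd, rfl⟩))) hπ
  have hEq : P0 = Subgroup.closure Gen := le_antisymm hle hcl
  -- the element `β (s at i, s at j)` lies in `P0`
  have hzP0 : ∀ i j : Fin k, β (Pi.mulSingle i s * Pi.mulSingle j s) ∈ P0 := by
    intro i j
    refine (hmemP0 _).mpr ⟨hβW _, ?_⟩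
    rw [map_mul, map_mul, hφ, hφ, ← map_mul, hs, map_one]
  apply sqC_of_closure P0 Gen hEq
  rintro g ((⟨u, ⟨i, j, y, hij, rfl⟩, rfl⟩ | ⟨τ, hτ, hτ2, rfl⟩) | ⟨r, hr, x, hΦ, rfl⟩)
  · -- balanced pairs
    set u : Fin k → X := Pi.mulSingle i y * Pi.mulSingle j y⁻¹ with hu
    have huP0 : β u ∈ P0 := hGenP0 (Or.inl (Or.inl ⟨u, ⟨i, j, y, hij, rfl⟩, rfl⟩))
    rcases h4 y with hy | hy
    · have hu2 : u ^ 2 = 1 := by
        funext l
        simp only [Pi.pow_apply, Pi.one_apply, hu, Pi.mul_apply]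
        by_cases hli : l = i
        · have hlj : l ≠ j := fun h => hij (hli.symm.trans h)
          subst hli
          rw [Pi.mulSingle_eq_same, Pi.mulSingle_eq_of_ne hlj, mul_one, pow_two, hy]
        · by_cases hlj : l = j
          · subst hlj
            rw [Pi.mulSingle_eq_same, Pi.mulSingle_eq_of_ne hli, one_mul, pow_two, ← mul_inv_rev,
              hy, inv_one]
          · rw [Pi.mulSingle_eq_of_ne hli, Pi.mulSingle_eq_of_ne hlj, one_mul, one_pow]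
      rw [← map_pow, hu2, map_one]
      exact Subgroup.one_mem _
    · set z : Fin k → X := Pi.mulSingle i s * Pi.mulSingle j s with hz
      have hconj : z * u * z⁻¹ = u⁻¹ := by
        funext l
        simp only [Pi.mul_apply, Pi.inv_apply, hu, hz]
        by_cases hli : l = i
        · have hlj : l ≠ j := fun h => hij (hli.symm.trans h)
          subst hli
          rw [Pi.mulSingle_eq_same, Pi.mulSingle_eq_same, Pi.mulSingle_eq_of_ne hlj,
            Pi.mulSingle_eq_of_ne hlj, mul_one, mul_one, hy]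
        · by_cases hlj : l = j
          · subst hlj
            rw [Pi.mulSingle_eq_same, Pi.mulSingle_eq_same, Pi.mulSingle_eq_of_ne hli,
              Pi.mulSingle_eq_of_ne hli, one_mul, one_mul]
            have : s * y⁻¹ * s⁻¹ = (s * y * s⁻¹)⁻¹ := by group
            rw [this, hy]
          · rw [Pi.mulSingle_eq_of_ne hli, Pi.mulSingle_eq_of_ne hlj, Pi.mulSingle_eq_of_ne hli,
              Pi.mulSingle_eq_of_ne hlj]
            simp
      have hcomm : ⁅β z, β u⁆ = ((β u) ^ 2)⁻¹ := by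
        have e1 : β z * β u * (β z)⁻¹ = (β u)⁻¹ := by
          rw [← map_inv, ← map_mul, ← map_mul, hconj, map_inv]
        rw [commutatorElement_def, e1, pow_two, mul_inv_rev]
      have h3' : ⁅β z, β u⁆ ∈ ⁅P0, P0⁆ := Subgroup.commutator_mem_commutator (hzP0 i j) huP0
      rw [hcomm] at h3'
      exact (Subgroup.inv_mem_iff _).mp h3'
  · rw [← map_pow, hτ2, map_one]
    exact Subgroup.one_mem _
  · set v : Fin k → X := Pi.mulSingle i0 x with hv
    have hgP0 : r * β v ∈ P0 := hGenP0 (Or.inr ⟨r, hr, x, hΦ, rfl⟩)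
    have hg2 : (r * β v) ^ 2 = β (v * v) := by
      rw [pow_two, mul_assoc, ← mul_assoc (β v), ← h2a r hr, mul_assoc, ← mul_assoc, h2c r hr, one_mul,
        map_mul]
    rcases h4 x with hx | hx
    · have : v * v = 1 := by
        rw [hv, ← Pi.mulSingle_mul, hx, Pi.mulSingle_one]
      rw [hg2, this, map_one]
      exact Subgroup.one_mem _
    · set z : Fin k → X := Pi.mulSingle i0 s * Pi.mulSingle i1 s with hz
      have hconj : z * v * z⁻¹ = v⁻¹ := by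
        funext l
        simp only [Pi.mul_apply, Pi.inv_apply, hv, hz]
        by_cases hl0 : l = i0
        · have hl1 : l ≠ i1 := fun h => h01 (hl0.symm.trans h)
          subst hl0
          rw [Pi.mulSingle_eq_same, Pi.mulSingle_eq_same, Pi.mulSingle_eq_of_ne hl1, mul_one, hx]
        · rw [Pi.mulSingle_eq_of_ne hl0, Pi.mulSingle_eq_of_ne hl0]
          simp
      have hcomm : ⁅β z, r * β v⁆ = ((r * β v) ^ 2)⁻¹ := by
        have hrβ : ∀ f, r * β f = β f * r := h2a r hr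
        have e1 : β z * (r * β v) * (β z)⁻¹ = r * (β v)⁻¹ := by
          calc β z * (r * β v) * (β z)⁻¹ = (β z * r) * β v * (β z)⁻¹ := by simp only [mul_assoc]
            _ = (r * β z) * β v * (β z)⁻¹ := by rw [hrβ z]
            _ = r * (β z * β v * (β z)⁻¹) := by simp only [mul_assoc]
            _ = r * (β v)⁻¹ := by rw [← map_inv, ← map_mul, ← map_mul, hconj, map_inv]
        have e2 : r * (β v)⁻¹ = (β v)⁻¹ * r := by rw [← map_inv, hrβ]
        rw [commutatorElement_def, e1, hg2, map_mul]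
        calc r * (β v)⁻¹ * (r * β v)⁻¹ = (β v)⁻¹ * r * ((β v)⁻¹ * r⁻¹) := by rw [e2, mul_inv_rev]
          _ = (β v)⁻¹ * (r * (β v)⁻¹) * r⁻¹ := by simp only [mul_assoc]
          _ = (β v)⁻¹ * ((β v)⁻¹ * r) * r⁻¹ := by rw [e2]
          _ = (β v * β v)⁻¹ := by
              rw [mul_inv_rev]
              simp only [mul_assoc, mul_inv_cancel, mul_one]
      have h3' : ⁅β z, r * β v⁆ ∈ ⁅P0, P0⁆ := Subgroup.commutator_mem_commutator (hzP0 i0 i1) hgP0
      rw [hcomm] at h3'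
      exact (Subgroup.inv_mem_iff _).mp h3'

/-- the subgroup `{β f * π σ * r}`. -/
def wreathSub {G X : Type*} [Group G] [Group X] (k : ℕ) (β : (Fin k → X) →* G)
    (π : Equiv.Perm (Fin k) →* G) (T : Subgroup (Equiv.Perm (Fin k))) (Rg : Subgroup G)
    (h1 : ∀ σ f, π σ * β f * (π σ)⁻¹ = β (fun i => f (σ⁻¹ i)))
    (h2a : ∀ r ∈ Rg, ∀ f, r * β f = β f * r)
    (h2b : ∀ r ∈ Rg, ∀ σ, r * π σ = π σ * r) : Subgroup G where
  carrier := {g | ∃ f, ∃ σ ∈ T, ∃ r ∈ Rg, g = β f * π σ * r}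
  one_mem' := ⟨1, 1, T.one_mem, 1, Rg.one_mem, by simp⟩
  mul_mem' := by
    rintro _ _ ⟨f, σ, hσ, r, hr, rfl⟩ ⟨f', σ', hσ', r', hr', rfl⟩
    refine ⟨f * (fun i => f' (σ⁻¹ i)), σ * σ', T.mul_mem hσ hσ', r * r', Rg.mul_mem hr hr', ?_⟩
    have e1 : π σ * β f' = β (fun i => f' (σ⁻¹ i)) * π σ := by
      rw [← h1 σ f', inv_mul_cancel_right]
    calc β f * π σ * r * (β f' * π σ' * r')
        = β f * π σ * (r * β f') * π σ' * r' := by simp only [mul_assoc]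
      _ = β f * π σ * (β f' * r) * π σ' * r' := by rw [h2a r hr]
      _ = β f * (π σ * β f') * (r * π σ') * r' := by simp only [mul_assoc]
      _ = β f * (β (fun i => f' (σ⁻¹ i)) * π σ) * (π σ' * r) * r' := by rw [e1, h2b r hr]
      _ = β (f * fun i => f' (σ⁻¹ i)) * π (σ * σ') * (r * r') := by
          rw [map_mul, map_mul]; simp only [mul_assoc]
  inv_mem' := by
    rintro _ ⟨f, σ, hσ, r, hr, rfl⟩
    refine ⟨fun i => (f (σ i))⁻¹, σ⁻¹, T.inv_mem hσ, r⁻¹, Rg.inv_mem hr, ?_⟩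
    have e1 : π σ⁻¹ * β f⁻¹ = β (fun i => f⁻¹ (σ⁻¹⁻¹ i)) * π σ⁻¹ := by
      rw [← h1 σ⁻¹ f⁻¹, inv_mul_cancel_right]
    have e2 : (fun i => f⁻¹ (σ⁻¹⁻¹ i)) = fun i => (f (σ i))⁻¹ := by
      funext i; simp
    calc (β f * π σ * r)⁻¹ = r⁻¹ * (π σ⁻¹ * β f⁻¹) := by
          rw [mul_inv_rev, mul_inv_rev, map_inv, map_inv]
      _ = r⁻¹ * (β (fun i => (f (σ i))⁻¹) * π σ⁻¹) := by rw [e1, e2]
      _ = (r⁻¹ * β (fun i => (f (σ i))⁻¹)) * π σ⁻¹ := by rw [mul_assoc]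
      _ = β (fun i => (f (σ i))⁻¹) * (r⁻¹ * π σ⁻¹) := by
          rw [h2a r⁻¹ (Rg.inv_mem hr), mul_assoc]
      _ = β (fun i => (f (σ i))⁻¹) * π σ⁻¹ * r⁻¹ := by
          rw [h2b r⁻¹ (Rg.inv_mem hr), mul_assoc]

theorem mem_wreathSub {G X : Type*} [Group G] [Group X] (k : ℕ) (β : (Fin k → X) →* G)
    (π : Equiv.Perm (Fin k) →* G) (T : Subgroup (Equiv.Perm (Fin k))) (Rg : Subgroup G)
    (h1 : ∀ σ f, π σ * β f * (π σ)⁻¹ = β (fun i => f (σ⁻¹ i)))
    (h2a : ∀ r ∈ Rg, ∀ f, r * β f = β f * r)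
    (h2b : ∀ r ∈ Rg, ∀ σ, r * π σ = π σ * r) (g : G) :
    g ∈ wreathSub k β π T Rg h1 h2a h2b ↔ ∃ f, ∃ σ ∈ T, ∃ r ∈ Rg, g = β f * π σ * r := Iff.rfl

theorem card_wreathSub {G X : Type*} [Group G] [Group X] [Finite G] [Finite X] (k : ℕ)
    (β : (Fin k → X) →* G)
    (π : Equiv.Perm (Fin k) →* G) (T : Subgroup (Equiv.Perm (Fin k))) (Rg : Subgroup G)
    (h1 : ∀ σ f, π σ * β f * (π σ)⁻¹ = β (fun i => f (σ⁻¹ i)))
    (h2a : ∀ r ∈ Rg, ∀ f, r * β f = β f * r)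
    (h2b : ∀ r ∈ Rg, ∀ σ, r * π σ = π σ * r)
    (h5 : ∀ f σ, ∀ r ∈ Rg, β f * π σ * r = 1 → f = 1 ∧ σ = 1 ∧ r = 1) :
    Nat.card ↥(wreathSub k β π T Rg h1 h2a h2b)
      = Nat.card X ^ k * Nat.card ↥T * Nat.card ↥Rg := by
  have hc : Nat.card ((Fin k → X) × ↥T × ↥Rg) = Nat.card X ^ k * Nat.card ↥T * Nat.card ↥Rg := by
    rw [Nat.card_prod, Nat.card_prod, Nat.card_fun, Nat.card_fin, mul_assoc]
  rw [← hc]
  symm
  apply Nat.card_congr
  refine Equiv.ofBijective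
    (fun p => (⟨β p.1 * π p.2.1.1 * p.2.2.1, p.1, p.2.1.1, p.2.1.2, p.2.2.1, p.2.2.2, rfl⟩ :
      ↥(wreathSub k β π T Rg h1 h2a h2b))) ⟨?_, ?_⟩
  · rintro ⟨f, ⟨σ, hσ⟩, ⟨r, hr⟩⟩ ⟨f', ⟨σ', hσ'⟩, ⟨r', hr'⟩⟩ h
    have h' : β f * π σ * r = β f' * π σ' * r' := congrArg Subtype.val h
    have h'' : β f * π σ * (r * r'⁻¹) = β f' * π σ' := by
      rw [← mul_assoc, h', mul_inv_cancel_right]
    have key : β (f'⁻¹ * f) * π (σ * σ'⁻¹) * (r * r'⁻¹) = 1 := by
      calc β (f'⁻¹ * f) * π (σ * σ'⁻¹) * (r * r'⁻¹)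
          = (β f')⁻¹ * (β f * π σ) * (π σ'⁻¹ * (r * r'⁻¹)) := by
            rw [map_mul, map_mul, map_inv]; simp only [mul_assoc]
        _ = (β f')⁻¹ * (β f * π σ) * ((r * r'⁻¹) * π σ'⁻¹) := by
            rw [h2b _ (Rg.mul_mem hr (Rg.inv_mem hr'))]
        _ = (β f')⁻¹ * (β f * π σ * (r * r'⁻¹)) * π σ'⁻¹ := by simp only [mul_assoc]
        _ = 1 := by rw [h'', map_inv]; group
    obtain ⟨hf, hσ1, hr1⟩ := h5 _ _ _ (Rg.mul_mem hr (Rg.inv_mem hr')) key
    have e1 : f = f' := (inv_mul_eq_one.mp hf).symm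
    have e2 : σ = σ' := mul_inv_eq_one.mp hσ1
    have e3 : r = r' := mul_inv_eq_one.mp hr1
    subst e1; subst e2; subst e3
    rfl
  · rintro ⟨g, f, σ, hσ, r, hr, rfl⟩
    exact ⟨⟨f, ⟨σ, hσ⟩, ⟨r, hr⟩⟩, rfl⟩

end Cfsg.Agent.Lib.helper37
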