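import Mathlib
import Cfsg.Agent.Lib.helper37.SLSylowEvenB

set_option autoImplicit false

namespace Cfsg.Agent.Lib.helper37

theorem v2_two_mul' (x : ℕ) (hx : x ≠ 0) : padicValNat 2 (2 * x) = 1 + padicValNat 2 x := by
  have hfact : Fact (Nat.Prime 2) := ⟨Nat.prime_two⟩
  rw [padicValNat.mul (by norm_num) hx, padicValNat_self]

theorem v2_of_mod_four (x : ℕ) (hx : x % 4 = 2) : padicValNat 2 x = 1 := by
  have hfact : Fact (Nat.Prime 2) := ⟨Nat.prime_two⟩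
  obtain ⟨s, hs⟩ : ∃ s, x = 2 * (2 * s + 1) := ⟨x / 4, by omega⟩
  rw [hs, v2_two_mul' _ (by omega), padicValNat.eq_zero_of_not_dvd (by omega)]

theorem nat_sq_sub_one (x : ℕ) (hx : 1 ≤ x) : x ^ 2 - 1 = (x - 1) * (x + 1) := by
  obtain ⟨t, rfl⟩ : ∃ t, x = t + 1 := ⟨x - 1, by omega⟩
  simp only [Nat.add_sub_cancel]
  have : (t + 1) ^ 2 = t * (t + 1 + 1) + 1 := by ring
  omega

/-- the shape of the orders of the even-dimensional orthogonal groups -/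
theorem v2_orth_shape (q : ℕ) (hq1 : 1 < q) (hq2 : ¬ 2 ∣ q) (n t A : ℕ) (hA : A ≠ 0) :
    padicValNat 2 (2 * q ^ t * A * ∏ i ∈ Finset.range n, (q ^ (2 * (i + 1)) - 1))
      = 1 + padicValNat 2 A + (n * padicValNat 2 (q ^ 2 - 1) + padicValNat 2 n.factorial) := by
  have hfact : Fact (Nat.Prime 2) := ⟨Nat.prime_two⟩
  obtain ⟨h0, h1⟩ := v2_sp_prod q hq1 hq2 n
  have hq0 : q ^ t ≠ 0 := pow_ne_zero _ (by omega)
  have hq3 : ¬ 2 ∣ q ^ t := fun h => hq2 (Nat.prime_two.dvd_of_dvd_pow h)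
  rw [padicValNat.mul (mul_ne_zero (mul_ne_zero (by norm_num) hq0) hA) h0, h1,
    padicValNat.mul (mul_ne_zero (by norm_num) hq0) hA, v2_two_mul' _ hq0,
    padicValNat.eq_zero_of_not_dvd hq3]

theorem v2_factorial_pred (m : ℕ) (hm : 1 ≤ m) :
    padicValNat 2 m.factorial = padicValNat 2 m + padicValNat 2 (m - 1).factorial := by
  have hfact : Fact (Nat.Prime 2) := ⟨Nat.prime_two⟩
  obtain ⟨n, rfl⟩ : ∃ n, m = n + 1 := ⟨m - 1, by omega⟩
  rw [Nat.factorial_succ, padicValNat.mul (by omega) (Nat.factorial_ne_zero n)]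
  simp

theorem pow_sub_one_ne_zero' (q : ℕ) (hq1 : 1 < q) (m : ℕ) (hm : 1 ≤ m) : q ^ m - 1 ≠ 0 := by
  have : 1 < q ^ m := Nat.one_lt_pow (by omega) hq1
  omega

/-- odd dimension -/
theorem num_odd (q : ℕ) (hq1 : 1 < q) (hq2 : ¬ 2 ∣ q) (m : ℕ) :
    padicValNat 2 (2 * q ^ (m ^ 2) * ∏ i ∈ Finset.range m, (q ^ (2 * (i + 1)) - 1))
      ≤ padicValNat 2 (q ^ 2 - 1) * m + padicValNat 2 m.factorial + 1 := by
  have h := v2_orth_shape q hq1 hq2 m (m ^ 2) 1 one_ne_zero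
  rw [mul_one] at h
  rw [h]
  simp only [padicValNat_one_right]
  rw [mul_comm]
  omega

/-- plus type, square discriminant -/
theorem num_plus_const (q : ℕ) (hq1 : 1 < q) (hq2 : ¬ 2 ∣ q) (m : ℕ) (hm : 1 ≤ m)
    (h : Even m ∨ 4 ∣ q - 1) :
    padicValNat 2 (2 * q ^ (m * (m - 1)) * (q ^ m - 1)
        * ∏ i ∈ Finset.range (m - 1), (q ^ (2 * (i + 1)) - 1))
      ≤ padicValNat 2 (q ^ 2 - 1) * m + padicValNat 2 m.factorial := by
  have hfact : Fact (Nat.Prime 2) := ⟨Nat.prime_two⟩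
  rw [v2_orth_shape q hq1 hq2 (m - 1) _ _ (pow_sub_one_ne_zero' q hq1 m hm), v2_factorial_pred m hm]
  have key : 1 + padicValNat 2 (q ^ m - 1) ≤ padicValNat 2 (q ^ 2 - 1) + padicValNat 2 m := by
    rcases Nat.even_or_odd m with he | ho
    · obtain ⟨j, hj⟩ := he
      obtain ⟨i, rfl⟩ : ∃ i, j = i + 1 := ⟨j - 1, by omega⟩
      have hm2 : m = 2 * (i + 1) := by omega
      rw [hm2, v2_pow_sub_one q hq1 hq2 i, v2_two_mul' _ (by omega)]
      omega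
    · rcases h with he | h4
      · exact absurd he (Nat.not_even_iff_odd.mpr ho)
      · obtain ⟨j, hj⟩ := ho
        rw [hj, v2_pow_odd_sub_one q hq1 hq2 j, v2_sq_sub_one_of_four_dvd_pred q hq1 h4]
        omega
  obtain ⟨n, rfl⟩ : ∃ n, m = n + 1 := ⟨m - 1, by omega⟩
  simp only [Nat.add_sub_cancel] at *
  rw [mul_add, mul_one, mul_comm]
  omega

/-- plus type, non-square discriminant -/
theorem num_plus_nf (q : ℕ) (hq1 : 1 < q) (hq2 : ¬ 2 ∣ q) (m : ℕ) (hm : 1 ≤ m)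
    (ho : Odd m) (h4 : 4 ∣ q + 1) :
    padicValNat 2 (2 * q ^ (m * (m - 1)) * (q ^ m - 1)
        * ∏ i ∈ Finset.range (m - 1), (q ^ (2 * (i + 1)) - 1))
      ≤ padicValNat 2 (q ^ 2 - 1) * (m - 1) + padicValNat 2 (m - 1).factorial + 2 := by
  rw [v2_orth_shape q hq1 hq2 (m - 1) _ _ (pow_sub_one_ne_zero' q hq1 m hm)]
  have key : padicValNat 2 (q ^ m - 1) = 1 := by
    obtain ⟨j, hj⟩ := ho
    rw [hj, v2_pow_odd_sub_one q hq1 hq2 j, v2_pred_of_four_dvd_succ q h4]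
  rw [key, mul_comm]
  omega

/-- the valuation of `q^m + 1` for odd `m` -/
theorem v2_pow_add_one_odd (q : ℕ) (hq1 : 1 < q) (hq2 : ¬ 2 ∣ q) (m : ℕ) (ho : Odd m)
    (h4 : 4 ∣ q + 1) : padicValNat 2 (q ^ m + 1) + 1 = padicValNat 2 (q ^ 2 - 1) := by
  have hfact : Fact (Nat.Prime 2) := ⟨Nat.prime_two⟩
  obtain ⟨j, hj⟩ := ho
  have hm1 : 1 ≤ m := by omega
  have h1 : q ^ (2 * m) - 1 = (q ^ m - 1) * (q ^ m + 1) := by
    rw [mul_comm 2 m, pow_mul]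
    exact nat_sq_sub_one _ (Nat.one_le_pow _ _ (by omega))
  have h2 : padicValNat 2 (q ^ (2 * m) - 1) = padicValNat 2 (q ^ 2 - 1) := by
    obtain ⟨i, rfl⟩ : ∃ i, m = i + 1 := ⟨m - 1, by omega⟩
    have hnd : ¬ 2 ∣ i + 1 := by omega
    rw [v2_pow_sub_one q hq1 hq2 i, padicValNat.eq_zero_of_not_dvd hnd, add_zero]
  have h3 : padicValNat 2 (q ^ m - 1) = 1 := by
    rw [hj, v2_pow_odd_sub_one q hq1 hq2 j, v2_pred_of_four_dvd_succ q h4]
  rw [h1, padicValNat.mul (pow_sub_one_ne_zero' q hq1 m hm1) (by omega), h3] at h2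
  omega

/-- minus type, square discriminant -/
theorem num_minus_const (q : ℕ) (hq1 : 1 < q) (hq2 : ¬ 2 ∣ q) (m : ℕ) (hm : 1 ≤ m)
    (ho : Odd m) (h4 : 4 ∣ q + 1) :
    padicValNat 2 (2 * q ^ (m * (m - 1)) * (q ^ m + 1)
        * ∏ i ∈ Finset.range (m - 1), (q ^ (2 * (i + 1)) - 1))
      ≤ padicValNat 2 (q ^ 2 - 1) * m + padicValNat 2 m.factorial := by
  rw [v2_orth_shape q hq1 hq2 (m - 1) _ _ (by omega), v2_factorial_pred m hm]
  have key := v2_pow_add_one_odd q hq1 hq2 m ho h4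
  obtain ⟨n, rfl⟩ : ∃ n, m = n + 1 := ⟨m - 1, by omega⟩
  simp only [Nat.add_sub_cancel] at *
  rw [mul_add, mul_one, mul_comm]
  omega

/-- minus type, non-square discriminant -/
theorem num_minus_nf (q : ℕ) (hq1 : 1 < q) (hq2 : ¬ 2 ∣ q) (m : ℕ)
    (h : Even m ∨ 4 ∣ q - 1) :
    padicValNat 2 (2 * q ^ (m * (m - 1)) * (q ^ m + 1)
        * ∏ i ∈ Finset.range (m - 1), (q ^ (2 * (i + 1)) - 1))
      ≤ padicValNat 2 (q ^ 2 - 1) * (m - 1) + padicValNat 2 (m - 1).factorial + 2 := by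
  rw [v2_orth_shape q hq1 hq2 (m - 1) _ _ (by omega)]
  have hmod : q ^ m % 4 = 1 := by
    rcases h with he | h4
    · obtain ⟨j, hj⟩ := he
      have hq4 : q ^ 2 % 4 = 1 := by
        have : q % 4 = 1 ∨ q % 4 = 3 := by omega
        rcases this with h | h <;> simp [Nat.pow_mod, h]
      rw [hj, ← two_mul, pow_mul, Nat.pow_mod, hq4]
      simp
    · have hq4 : q % 4 = 1 := by omega
      rw [Nat.pow_mod, hq4]
      simp
  have key : padicValNat 2 (q ^ m + 1) = 1 := v2_of_mod_four _ (by omega)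
  rw [key, mul_comm]
  omega

end Cfsg.Agent.Lib.helper37
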