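import Mathlib
import Cfsg.Prelude.Def_Local
import Cfsg.Prelude.Def_CaseTheorems
import Cfsg.Agent.Lib.helper37.BaerConj
import Cfsg.Agent.Lib.helper28.PCores
import Cfsg.Agent.Lib.helper40.Cores

/-!
# `p'`-subgroups normalized by a large `p`-subgroup of a `p`-constrained group (`p` odd)

`le_pPrimeCore_of_normalized_odd`: `X` finite `p`-constrained, `p` odd, `A` a `p`-subgroup
containing every element of order `p` of `C_X(A)`.  Then every subgroup of order prime to
`p` normalized by `A` lies in `O_{p'}(X)`.  (No commutativity of `A` is needed.)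
-/

set_option autoImplicit false

namespace Cfsg.Agent.Lib.helper37

open Cfsg

theorem le_pPrimeCore_of_normalized_odd {X : Type*} [Group X] [Finite X] (p : ℕ)
    [Fact p.Prime] (hp : p ≠ 2) (hX : Cfsg.IsPConstrained p X) (A : Subgroup X)
    (hAp : IsPGroup p ↥A)
    (hΩ : ∀ x ∈ Subgroup.centralizer (A : Set X), orderOf x = p → x ∈ A)
    (Q : Subgroup X) (hQ : ¬ p ∣ Nat.card ↥Q)
    (hAQ : A ≤ Subgroup.normalizer (Q : Set X)) : Q ≤ Cfsg.pPrimeCore p X := by
  have hpp : p.Prime := Fact.out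
  have hKcop : (Nat.card (pPrimeCore p X)).Coprime p :=
    Cfsg.Agent.Lib.helper40.pPrimeCore_card_coprime p X
  have hcons := Cfsg.Agent.Lib.helper28.isPConstrained_iff.mp hX
  have hPb : IsPGroup p (pCore p (X ⧸ pPrimeCore p X)) :=
    Cfsg.Agent.Lib.helper40.pCore_isPGroup p _
  have hQcop : (Nat.card Q).Coprime p := ((Nat.Prime.coprime_iff_not_dvd hpp).mpr hQ).symm
  have hQb : (Nat.card (Q.map (QuotientGroup.mk' (pPrimeCore p X)))).Coprime p :=
    Nat.Coprime.coprime_dvd_left (Subgroup.card_map_dvd _ _) hQcop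
  have hAb : IsPGroup p (A.map (QuotientGroup.mk' (pPrimeCore p X))) := hAp.map _
  have hAQb : A.map (QuotientGroup.mk' (pPrimeCore p X)) ≤
      Subgroup.normalizer (Q.map (QuotientGroup.mk' (pPrimeCore p X)) :
        Set (X ⧸ pPrimeCore p X)) :=
    (Subgroup.map_mono hAQ).trans (Subgroup.le_normalizer_map _)
  have hΩb : ∀ x ∈ pCore p (X ⧸ pPrimeCore p X),
      x ∈ Subgroup.centralizer (A.map (QuotientGroup.mk' (pPrimeCore p X)) :
        Set (X ⧸ pPrimeCore p X)) → x ^ p = 1 →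
      x ∈ A.map (QuotientGroup.mk' (pPrimeCore p X)) := by
    intro x _ hxc hxp
    by_cases hx1 : x = 1
    · rw [hx1]; exact one_mem _
    obtain ⟨g, rfl⟩ := QuotientGroup.mk'_surjective (pPrimeCore p X) x
    have hg : ∀ y ∈ A, g * y * g⁻¹ * y⁻¹ ∈ pPrimeCore p X := by
      intro y hy
      have hc := Subgroup.mem_centralizer_iff.mp hxc _ ⟨y, hy, rfl⟩
      rw [← QuotientGroup.eq_one_iff, ← QuotientGroup.mk'_apply]
      simp only [map_mul, map_inv]
      rw [← hc]
      group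
    obtain ⟨n, hn, hnc⟩ := Cfsg.Agent.Lib.helper28.exists_mul_mem_centralizer_of_coprime
      (pPrimeCore p X) hKcop A hAp g hg
    have hπn : QuotientGroup.mk' (pPrimeCore p X) n = 1 := by
      rw [QuotientGroup.mk'_apply, QuotientGroup.eq_one_iff]; exact hn
    have hπc : QuotientGroup.mk' (pPrimeCore p X) (n⁻¹ * g) =
        QuotientGroup.mk' (pPrimeCore p X) g := by
      rw [map_mul, map_inv, hπn, inv_one, one_mul]
    obtain ⟨t, -, ht⟩ := Nat.exists_mul_mod_eq_one_of_coprime hKcop hpp.one_lt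
    set c := n⁻¹ * g with hc
    set c₁ := c ^ (Nat.card (pPrimeCore p X) * t) with hc₁
    have hπc₁ : QuotientGroup.mk' (pPrimeCore p X) c₁ =
        QuotientGroup.mk' (pPrimeCore p X) g := by
      rw [hc₁, map_pow, hπc, pow_eq_pow_mod _ hxp, ht, pow_one]
    have hcp : c ^ p ∈ pPrimeCore p X := by
      rw [← QuotientGroup.eq_one_iff, ← QuotientGroup.mk'_apply, map_pow, hπc]
      exact hxp
    have hc₁p : c₁ ^ p = 1 := by
      rw [hc₁, ← pow_mul, mul_comm, ← mul_assoc, pow_mul, pow_mul]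
      have h1 : (c ^ p) ^ Nat.card (pPrimeCore p X) = 1 := by
        have h0 : (⟨c ^ p, hcp⟩ : ↥(pPrimeCore p X)) ^ Nat.card (pPrimeCore p X) = 1 :=
          pow_card_eq_one'
        have h00 := congrArg Subtype.val h0
        rwa [Subgroup.coe_pow, Subgroup.coe_one] at h00
      rw [h1, one_pow]
    have hc₁1 : c₁ ≠ 1 := by
      intro h
      apply hx1
      rw [← hπc₁, h, map_one]
    have hc₁A : c₁ ∈ A :=
      hΩ c₁ (pow_mem hnc _) (orderOf_eq_prime hc₁p hc₁1)
    rw [← hπc₁]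
    exact ⟨c₁, hc₁A, rfl⟩
  have key := centralizer_of_baer p hp (pCore p (X ⧸ pPrimeCore p X))
    (Q.map (QuotientGroup.mk' (pPrimeCore p X))) (A.map (QuotientGroup.mk' (pPrimeCore p X)))
    hPb hQb hAb hAQb hΩb
  intro q hq
  have h1 : QuotientGroup.mk' (pPrimeCore p X) q ∈ pCore p (X ⧸ pPrimeCore p X) :=
    hcons (key ⟨q, hq, rfl⟩)
  have h2 : QuotientGroup.mk' (pPrimeCore p X) q ∈
      pCore p (X ⧸ pPrimeCore p X) ⊓ Q.map (QuotientGroup.mk' (pPrimeCore p X)) :=
    ⟨h1, ⟨q, hq, rfl⟩⟩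
  rw [Cfsg.Agent.Lib.helper28.inf_eq_bot_of_isPGroup_of_coprime hPb hQb, Subgroup.mem_bot] at h2
  exact (QuotientGroup.eq_one_iff q).mp h2

end Cfsg.Agent.Lib.helper37
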