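import Mathlib

set_option autoImplicit false

namespace Cfsg.Agent.Lib.helper37.S1237


/-- the four elements `1, v, ψ v, ψ (ψ v)` exhaust `V` -/
theorem four_cover {T : Type*} [Group T] [Finite T] (V : Subgroup T)
    (hV : ∀ x : T, x ∈ V ↔ x * x = 1) (hV4 : Nat.card V = 4) (hVc : V ≤ Subgroup.center T)
    (ψ : MulAut T) (hψ : ∀ y : T, ψ y = y → y = 1) (v : T) (hv : v ∈ V) (hv1 : v ≠ 1)
    (w : T) (hw : w ∈ V) : w = 1 ∨ w = v ∨ w = ψ v ∨ w = ψ (ψ v) := by
  classical
  have hψV : ∀ u ∈ V, ψ u ∈ V := by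
    intro u hu
    rw [hV, ← map_mul, (hV u).mp hu, map_one]
  have h1 : ψ v ≠ 1 := by
    intro h
    exact hv1 (by rw [← map_one ψ] at h; exact ψ.injective h)
  have h2 : ψ (ψ v) ≠ 1 := by
    intro h
    exact h1 (by rw [← map_one ψ] at h; exact ψ.injective h)
  have h3 : ψ v ≠ v := fun h => hv1 (hψ v h)
  have h4 : ψ (ψ v) ≠ ψ v := fun h => h1 (hψ _ h)
  have h5 : ψ (ψ v) ≠ v := by
    intro h
    have hcomm : ψ v * v = v * ψ v := Subgroup.mem_center_iff.mp (hVc hv) (ψ v)
    have : ψ (v * ψ v) = v * ψ v := by rw [map_mul, h, hcomm]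
    have h6 := hψ _ this
    have h7 : ψ v = v := by
      have hvv := (hV v).mp hv
      calc ψ v = v * (v * ψ v) := by rw [← mul_assoc, hvv, one_mul]
        _ = v := by rw [h6, mul_one]
    exact h3 h7
  by_contra hcon
  have hw1 : w ≠ 1 := fun h => hcon (Or.inl h)
  have hw2 : w ≠ v := fun h => hcon (Or.inr (Or.inl h))
  have hw3 : w ≠ ψ v := fun h => hcon (Or.inr (Or.inr (Or.inl h)))
  have hw4 : w ≠ ψ (ψ v) := fun h => hcon (Or.inr (Or.inr (Or.inr h)))
  let S : Finset T := {w, 1, v, ψ v, ψ (ψ v)}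
  have hS : S.card = 5 := by
    rw [Finset.card_insert_of_notMem, Finset.card_insert_of_notMem, Finset.card_insert_of_notMem,
      Finset.card_insert_of_notMem, Finset.card_singleton]
    · simp only [Finset.mem_singleton]; exact fun h => h4 h.symm
    · simp only [Finset.mem_insert, Finset.mem_singleton, not_or]
      exact ⟨fun h => h3 h.symm, fun h => h5 h.symm⟩
    · simp only [Finset.mem_insert, Finset.mem_singleton, not_or]
      exact ⟨fun h => hv1 h.symm, fun h => h1 h.symm, fun h => h2 h.symm⟩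
    · simp only [Finset.mem_insert, Finset.mem_singleton, not_or]
      exact ⟨hw1, hw2, hw3, hw4⟩
  have hsub : (S : Set T) ⊆ (V : Set T) := by
    intro x hx
    simp only [S, Finset.coe_insert, Finset.coe_singleton, Set.mem_insert_iff,
      Set.mem_singleton_iff] at hx
    rcases hx with rfl | rfl | rfl | rfl | rfl
    · exact hw
    · exact V.one_mem
    · exact hv
    · exact hψV _ hv
    · exact hψV _ (hψV _ hv)
  have hle := Set.ncard_le_ncard hsub (Set.toFinite _)
  rw [Set.ncard_coe_finset, hS] at hle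
  have : (V : Set T).ncard = 4 := by
    rw [← hV4]; rfl
  omega

/-- PIECE C1, tail (steps (5)–(7)); `hcc` is piece C2 (`count_contra`) for this `T`, `V`, `ψ`, `τ`. -/
theorem c1_tail_of {T : Type*} [Group T] [Finite T] (hT : IsPGroup 2 T) (V : Subgroup T)
    (hV : ∀ x : T, x ∈ V ↔ x * x = 1) (hV4 : Nat.card V = 4) (hVc : V ≤ Subgroup.center T)
    (ψ τ : MulAut T) (hψ : ∀ y : T, ψ y = y → y = 1)
    (hτ3 : ∀ y : T, τ (τ (τ y)) = y)
    (hsqZ : ∀ x : T, x * x ∈ Subgroup.center T)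
    (hτZ : ∀ z ∈ Subgroup.center T, τ z = z)
    (hfix : ∀ x : T, x⁻¹ * τ x ∈ Subgroup.center T → x ∈ Subgroup.center T)
    (hna : ∃ x : T, x ∉ Subgroup.center T)
    (hcc : (∀ x : T, x * x ∈ V) → (∀ v ∈ V, τ v = v) → (∀ x : T, x⁻¹ * τ x ∈ V → x ∈ V) →
      (∃ x : T, x ∉ V) → False) : False := by
  have hψZ : ∀ z ∈ Subgroup.center T, ψ z ∈ Subgroup.center T := by
    intro z hz
    rw [Subgroup.mem_center_iff] at hz ⊢
    intro g
    have := congrArg ψ (hz (ψ.symm g))
    simpa using this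
  have hψZ' : ∀ z : T, ψ z ∈ Subgroup.center T → z ∈ Subgroup.center T := by
    intro z hz
    rw [Subgroup.mem_center_iff] at hz ⊢
    intro g
    have := hz (ψ g)
    rw [← map_mul, ← map_mul] at this
    exact ψ.injective this
  -- step (5)
  have step5 : ∀ x : T, x ∉ Subgroup.center T →
      x⁻¹ * τ x ∉ Subgroup.center T ∧ (x⁻¹ * τ x) * (x⁻¹ * τ x) ∈ V ∧
        (x⁻¹ * τ x) * (x⁻¹ * τ x) ≠ 1 := by
    intro x hx
    set c := x⁻¹ * τ x with hc
    have hcZ : c ∉ Subgroup.center T := fun h => hx (hfix x h)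
    have hτx : τ x = x * c := by rw [hc]; group
    have h1 : τ (x * x) = x * x := hτZ _ (hsqZ x)
    rw [map_mul, hτx] at h1
    have h2 : c * x * c = x := by
      have : x * (c * x * c) = x * x := by rw [← h1]; group
      exact mul_left_cancel this
    have hccZ := Subgroup.mem_center_iff.mp (hsqZ c)
    have h3 : (c * c) * (c * c) = 1 := by
      have e1 : c * c * x = x * (c * c)⁻¹ := by
        have : c * x = x * c⁻¹ := by
          calc c * x = (c * x * c) * c⁻¹ := by group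
            _ = x * c⁻¹ := by rw [h2]
        calc c * c * x = c * (c * x) := by group
          _ = c * (x * c⁻¹) := by rw [this]
          _ = (c * x) * c⁻¹ := by group
          _ = x * c⁻¹ * c⁻¹ := by rw [this]
          _ = x * (c * c)⁻¹ := by group
      have e2 : x * (c * c) = x * (c * c)⁻¹ := by rw [← e1]; exact hccZ x
      have e3 : c * c = (c * c)⁻¹ := mul_left_cancel e2
      calc (c * c) * (c * c) = (c * c) * (c * c)⁻¹ := by rw [← e3]
        _ = 1 := mul_inv_cancel _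
    refine ⟨hcZ, (hV _).mpr h3, ?_⟩
    intro h
    exact hcZ (hVc ((hV c).mpr h))
  -- step (6): the centre has exponent 2
  obtain ⟨x, hx⟩ := hna
  obtain ⟨hcZ, hcV, hc1⟩ := step5 x hx
  generalize x⁻¹ * τ x = c at hcZ hcV hc1
  have hZ2 : ∀ z ∈ Subgroup.center T, z * z = 1 := by
    intro z hz
    by_contra hz1
    have : Fact (Nat.Prime 2) := ⟨Nat.prime_two⟩
    obtain ⟨j, hj⟩ := (IsPGroup.iff_orderOf.mp hT) z
    have hj2 : 2 ≤ j := by
      by_contra hcon
      have hj1 : j ≤ 1 := by omega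
      have : z ^ 2 = 1 := by
        have h1 : z ^ 2 ^ j = 1 := by rw [← hj]; exact pow_orderOf_eq_one z
        interval_cases j
        · rw [pow_zero, pow_one] at h1; rw [h1, one_pow]
        · rw [pow_one] at h1; exact h1
      exact hz1 (by rw [← pow_two]; exact this)
    obtain ⟨y, hy⟩ : ∃ y : T, y = z ^ 2 ^ (j - 2) := ⟨_, rfl⟩
    have hyZ : y ∈ Subgroup.center T := by rw [hy]; exact Subgroup.pow_mem _ hz _
    have hy4 : y ^ 4 = 1 := by
      rw [hy, ← pow_mul, show 2 ^ (j - 2) * 4 = 2 ^ j by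
        rw [show (4 : ℕ) = 2 ^ 2 by norm_num, ← pow_add]; congr 1; omega, ← hj]
      exact pow_orderOf_eq_one z
    have hy2 : y ^ 2 ≠ 1 := by
      rw [hy, ← pow_mul]
      intro h
      have hdvd := orderOf_dvd_of_pow_eq_one h
      rw [hj, show 2 ^ (j - 2) * 2 = 2 ^ (j - 1) by
        rw [← pow_succ]; congr 1; omega] at hdvd
      have := Nat.le_of_dvd (by positivity) hdvd
      have h2 : 2 ^ (j - 1) < 2 ^ j := Nat.pow_lt_pow_right (by norm_num) (by omega)
      omega
    have hyyV : y * y ∈ V := by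
      rw [hV]
      have : y * y * (y * y) = y ^ 4 := by
        rw [show (4 : ℕ) = 2 + 2 by norm_num, pow_add, pow_two]
      rw [this, hy4]
    have hyy1 : y * y ≠ 1 := by rw [← pow_two]; exact hy2
    -- some ψ-translate c' of c has c' * c' = y * y
    have key : ∃ c' : T, c' ∉ Subgroup.center T ∧ c' * c' = y * y := by
      rcases four_cover V hV hV4 hVc ψ hψ (c * c) hcV hc1 (y * y) hyyV with h | h | h | h
      · exact absurd h hyy1
      · exact ⟨c, hcZ, h.symm⟩
      · exact ⟨ψ c, fun h' => hcZ (hψZ' _ h'), by rw [h, map_mul]⟩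
      · exact ⟨ψ (ψ c), fun h' => hcZ (hψZ' _ (hψZ' _ h')), by rw [h, map_mul, map_mul]⟩
    obtain ⟨c', hc'Z, hc'⟩ := key
    have hyc := Subgroup.mem_center_iff.mp hyZ
    have : (c' * y⁻¹) * (c' * y⁻¹) = 1 := by
      have e : (c' * y⁻¹) * (c' * y⁻¹) = (c' * c') * (y * y)⁻¹ := by
        have h1 : y⁻¹ * c' = c' * y⁻¹ := by
          have := hyc c'
          calc y⁻¹ * c' = y⁻¹ * (c' * y) * y⁻¹ := by group
            _ = y⁻¹ * (y * c') * y⁻¹ := by rw [this]
            _ = c' * y⁻¹ := by group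
        calc (c' * y⁻¹) * (c' * y⁻¹) = c' * (y⁻¹ * c') * y⁻¹ := by group
          _ = c' * (c' * y⁻¹) * y⁻¹ := by rw [h1]
          _ = (c' * c') * (y * y)⁻¹ := by group
      rw [e, hc', mul_inv_cancel]
    have hmem : c' * y⁻¹ ∈ Subgroup.center T := hVc ((hV _).mpr this)
    apply hc'Z
    have : c' = (c' * y⁻¹) * y := by group
    rw [this]
    exact Subgroup.mul_mem _ hmem hyZ
  -- step (7)
  have hZV : ∀ z : T, z ∈ Subgroup.center T → z ∈ V := fun z hz => (hV z).mpr (hZ2 z hz)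
  exact hcc (fun y => hZV _ (hsqZ y))
    (fun v hv => hτZ v (hVc hv)) (fun y hy => hZV _ (hfix y (hVc hy))) ⟨x, fun h => hx (hVc h)⟩

end Cfsg.Agent.Lib.helper37.S1237
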