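import Mathlib
import Cfsg.Prelude.Def_CaseTheorems
import Cfsg.Agent.Lib.helper26.Suz64b
import Cfsg.Agent.Lib.helper37.S1238Cfg0
import Cfsg.Agent.Lib.helper32.S1238E1p
import Cfsg.Agent.Lib.helper32.S1238E2cp
import Cfsg.Agent.Lib.helper61.S1238E3p
import Cfsg.Agent.Lib.helper61.S1238E4p
import Cfsg.Agent.Lib.helper48.S1238TG

/-!
# The y-free endgame of S1238 and its pure 2-group form (interface for S5213)

`endgame0`: the configuration `Cfg0` with an automorphism `φ` of `T` cycling `z → u → z u` forces a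
Sylow 2-subgroup of 2-rank 2 to be dihedral, quasi-dihedral or wreathed.
`two_group_endgame`: a finite 2-group `P` of 2-rank at most 2 whose centre has a unique involution `z`,
with an involution `u ≠ z` and an automorphism `φ` of `C_P(u)` with `φ z = u`, `φ u = z u`, is
dihedral, quasi-dihedral or wreathed.
Assembled from pieces of helper32, helper61, helper48.
-/

set_option autoImplicit false

namespace Cfsg.Agent.Lib.helper37.S1238

open Cfsg Cfsg.Agent.Lib.helper26

/-- y-free endgame. -/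
theorem endgame0 {G : Type*} [Group G] [Finite G] (h2 : Cfsg.PRankLE 2 2 G) (S : Sylow 2 G)
    (T : Subgroup G) (z u s : G) (h : Cfg0 (S : Subgroup G) T z u s)
    (φ : MulAut ↥T) (hφz : ((φ ⟨z, h.zT⟩ : ↥T) : G) = u) (hφu : ((φ ⟨u, h.uT⟩ : ↥T) : G) = z * u) :
    (∃ m : ℕ, 2 ≤ m ∧ Nonempty ((S : Subgroup G) ≃* DihedralGroup m)) ∨
    Cfsg.IsQuasiDihedral (S : Subgroup G) ∨ Cfsg.IsWreathed (S : Subgroup G) := by
  rcases Cfsg.Agent.Lib.helper32.S1238.cfg0_T_struct h2 S T z u s h φ hφz hφu with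
    ⟨n, hn, ⟨e⟩⟩ | ⟨ρ, H⟩
  · rcases Nat.lt_or_ge n 2 with hlt | hge
    · have hn1 : n = 1 := by omega
      subst hn1
      have hT4 : Nat.card T = 4 := by
        rw [Nat.card_congr e.toEquiv]
        have : Nat.card (Multiplicative (ZMod (2 ^ 1) × ZMod (2 ^ 1))) =
            Nat.card (ZMod (2 ^ 1) × ZMod (2 ^ 1)) := rfl
        rw [this, Nat.card_prod, Nat.card_zmod]
        norm_num
      rcases Cfsg.Agent.Lib.helper61.S1238.dihedral_or_qd_of_cfg0 S T z u s h hT4 with h' | h'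
      · exact Or.inl h'
      · exact Or.inr (Or.inl h')
    · exact Or.inr (Or.inr (Cfsg.Agent.Lib.helper61.S1238.wreathed_of_cfg0 h2 S T z u s h n hge e))
  · exact (Cfsg.Agent.Lib.helper32.S1238.cfg0_not_hyp64 h2 S T z u s h ρ H).elim

/-- Pure 2-group form of Case II (interface for S5213). -/
theorem two_group_endgame {P : Type*} [Group P] [Finite P] (hP : IsPGroup 2 P)
    (h2 : Cfsg.PRankLE 2 2 P) (z u : P) (hz2 : orderOf z = 2) (hzc : ∀ g : P, g * z = z * g)
    (huniq : ∀ z' : P, (∀ g : P, g * z' = z' * g) → orderOf z' = 2 → z' = z)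
    (huu : u * u = 1) (hu1 : u ≠ 1) (huz : u ≠ z)
    (φ : MulAut ↥(Subgroup.centralizer ({u} : Set P)))
    (hφz : ((φ ⟨z, Subgroup.mem_centralizer_singleton_iff.mpr (hzc u).symm⟩ :
      ↥(Subgroup.centralizer ({u} : Set P))) : P) = u)
    (hφu : ((φ ⟨u, Subgroup.mem_centralizer_singleton_iff.mpr rfl⟩ :
      ↥(Subgroup.centralizer ({u} : Set P))) : P) = z * u) :
    (∃ m : ℕ, 2 ≤ m ∧ Nonempty (P ≃* DihedralGroup m)) ∨ Cfsg.IsQuasiDihedral P ∨
      Cfsg.IsWreathed P :=
  Cfsg.Agent.Lib.helper48.S1238.two_group_endgame_of (@endgame0 P _ _) hP h2 z u hz2 hzc huniq huu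
    hu1 huz φ hφz hφu

end Cfsg.Agent.Lib.helper37.S1238
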