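import Mathlib
import Cfsg.Agent.Lib.helper69.StemSylow

set_option autoImplicit false

namespace Cfsg.Agent.Lib.helper37.S2113

open scoped commutatorElement
open Cfsg.Agent.Lib.helper69

/-- PIECE TWOC of S2113: the preimage of a `2³` with a fixed-point-free element of order 7 in a
central extension is abelian. -/
theorem helper37_two_comm {G Γ : Type*} [Group G] [Group Γ] (σ : Γ →* G)
    (hsurj : Function.Surjective σ)
    (hc : σ.ker ≤ Subgroup.center Γ) (S : Subgroup G) (hcard : Nat.card S = 8)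
    (hexp : ∀ x ∈ S, x * x = 1) (g : G) (hg : ∀ x ∈ S, g * x * g⁻¹ ∈ S) (hg7 : g ^ 7 = 1)
    (hfix : ∀ x ∈ S, g * x * g⁻¹ = x → x = 1)
    (hF : ∀ (f : ZMod 7 → Γ) (j : ZMod 7), (∀ a b, f a * f b = f b * f a) → f 0 = 1 →
      (∀ k, f k * f k = 1) → (∀ k, f (-k) = f k) → j ≠ 0 → j ≠ 1 →
      (∀ i, f (i + j) = f i * f (i + 1)) → ∀ k, f k = 1)
    (x y : Γ) (hx : σ x ∈ S) (hy : σ y ∈ S) : x * y = y * x := by
  classical
  haveI : Fact (Nat.Prime 7) := ⟨by norm_num⟩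
  -- S is abelian
  have hSab : ∀ a ∈ S, ∀ b ∈ S, a * b = b * a := by
    intro a ha b hb
    have h1 := hexp a ha
    have h2 := hexp b hb
    have h3 := hexp (a * b) (S.mul_mem ha hb)
    have ha' : a⁻¹ = a := inv_eq_of_mul_eq_one_left h1
    have hb' : b⁻¹ = b := inv_eq_of_mul_eq_one_left h2
    calc a * b = (a * b)⁻¹ := (inv_eq_of_mul_eq_one_left h3).symm
      _ = b⁻¹ * a⁻¹ := mul_inv_rev a b
      _ = b * a := by rw [ha', hb']
  -- a section
  obtain ⟨ℓ, hℓ⟩ : ∃ ℓ : G → Γ, ∀ a, σ (ℓ a) = a :=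
    ⟨Function.surjInv hsurj, Function.surjInv_eq hsurj⟩
  have hcen : ∀ a ∈ S, ∀ b ∈ S, ⁅ℓ a, ℓ b⁆ ∈ Subgroup.center Γ := by
    intro a ha b hb
    apply commutatorElement_mem_center_of_central σ hc
    rw [hℓ, hℓ]; exact hSab a ha b hb
  have hcong : ∀ u v : Γ, ⁅u, v⁆ = ⁅ℓ (σ u), ℓ (σ v)⁆ := by
    intro u v
    exact commutatorElement_congr_of_central σ hc u _ v _ (hℓ _).symm (hℓ _).symm
  have hmulr : ∀ a ∈ S, ∀ b ∈ S, ∀ b' ∈ S,
      ⁅ℓ a, ℓ (b * b')⁆ = ⁅ℓ a, ℓ b⁆ * ⁅ℓ a, ℓ b'⁆ := by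
    intro a ha b hb b' hb'
    rw [← stem_commutatorElement_mul_right _ _ _ (hcen a ha b' hb')]
    exact commutatorElement_congr_of_central σ hc _ _ _ _ rfl (by rw [map_mul, hℓ, hℓ, hℓ])
  have hℓ1 : ℓ 1 ∈ Subgroup.center Γ := hc (by rw [MonoidHom.mem_ker, hℓ])
  have hone : ∀ a, ⁅ℓ a, ℓ 1⁆ = 1 := by
    intro a
    rw [commutatorElement_eq_one_iff_mul_comm]
    exact (Subgroup.mem_center_iff.mp hℓ1) (ℓ a)
  have hconj : ∀ h : G, ∀ a ∈ S, ∀ b ∈ S,
      ⁅ℓ (h * a * h⁻¹), ℓ (h * b * h⁻¹)⁆ = ⁅ℓ a, ℓ b⁆ := by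
    intro h a ha b hb
    obtain ⟨η, hη⟩ := hsurj h
    rw [← commutatorElement_conj_of_central η _ _ (hcen a ha b hb)]
    exact commutatorElement_congr_of_central σ hc _ _ _ _
      (by rw [hℓ, map_mul, map_mul, map_inv, hη, hℓ])
      (by rw [hℓ, map_mul, map_mul, map_inv, hη, hℓ])
  -- the action of `ZMod 7`
  have hZadd : ∀ k l : ZMod 7, g ^ (k + l).val = g ^ k.val * g ^ l.val := by
    intro k l
    rw [ZMod.val_add, ← pow_eq_pow_mod _ hg7, pow_add]
  obtain ⟨C, hC⟩ : ∃ C : ZMod 7 → G → G, ∀ k a, C k a = g ^ k.val * a * (g ^ k.val)⁻¹ :=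
    ⟨_, fun _ _ => rfl⟩
  have hC0 : ∀ a, C 0 a = a := by
    intro a; rw [hC, ZMod.val_zero, pow_zero, one_mul, inv_one, mul_one]
  have hC1 : ∀ a, C 1 a = g * a * g⁻¹ := by
    intro a; rw [hC, show (1 : ZMod 7).val = 1 from rfl, pow_one]
  have hCadd : ∀ k l a, C (k + l) a = C k (C l a) := by
    intro k l a; rw [hC, hC, hC, hZadd, mul_inv_rev]; simp only [mul_assoc]
  have hCmul : ∀ k a b, C k (a * b) = C k a * C k b := by
    intro k a b; rw [hC, hC, hC]; simp only [mul_assoc, inv_mul_cancel_left]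
  have hCmem : ∀ k, ∀ a ∈ S, C k a ∈ S := by
    intro k a ha
    rw [hC]
    have : ∀ n : ℕ, g ^ n * a * (g ^ n)⁻¹ ∈ S := by
      intro n
      induction n with
      | zero => simpa using ha
      | succ n ih =>
        have h1 := hg _ ih
        have e : g ^ (n + 1) * a * (g ^ (n + 1))⁻¹ = g * (g ^ n * a * (g ^ n)⁻¹) * g⁻¹ := by
          rw [pow_succ', mul_inv_rev]; simp only [mul_assoc]
        rw [e]; exact h1
    exact this _
  have hCone : ∀ k a, C k a = 1 → a = 1 := by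
    intro k a h
    rw [hC] at h
    have e : a = (g ^ k.val)⁻¹ * (g ^ k.val * a * (g ^ k.val)⁻¹) * g ^ k.val := by group
    rw [e, h]; group
  have hfpf : ∀ k : ZMod 7, k ≠ 0 → ∀ a ∈ S, C k a = a → a = 1 := by
    intro k hk a ha h
    have hn : ∀ n : ℕ, C ((n : ZMod 7) * k) a = a := by
      intro n
      induction n with
      | zero => rw [Nat.cast_zero, zero_mul, hC0]
      | succ n ih => rw [Nat.cast_succ, add_mul, one_mul, hCadd, h, ih]
    have h1 := hn (k⁻¹).val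
    rw [ZMod.natCast_zmod_val, inv_mul_cancel₀ hk, hC1] at h1
    exact hfix a ha h1
  have hsurjS : ∀ x₀ ∈ S, x₀ ≠ 1 → ∀ s ∈ S, s = 1 ∨ ∃ k, s = C k x₀ := by
    intro x₀ hx₀ hne s hs
    haveI : Finite S := Nat.finite_of_card_ne_zero (by rw [hcard]; norm_num)
    let ψ : Option (ZMod 7) → S := fun o => match o with
      | none => 1
      | some k => ⟨C k x₀, hCmem k x₀ hx₀⟩
    have hinj : Function.Injective ψ := by
      intro o o' h
      rcases o with _ | k <;> rcases o' with _ | l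
      · rfl
      · exfalso
        have h' : (1 : G) = C l x₀ := congrArg Subtype.val h
        exact hne (hCone l x₀ h'.symm)
      · exfalso
        have h' : C k x₀ = (1 : G) := congrArg Subtype.val h
        exact hne (hCone k x₀ h')
      · have h' : C k x₀ = C l x₀ := congrArg Subtype.val h
        by_contra hkl
        have hkl' : k - l ≠ 0 := fun h0 => hkl (by rw [sub_eq_zero.mp h0])
        have e : C (k - l) (C l x₀) = C l x₀ := by rw [← hCadd, sub_add_cancel, h']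
        exact hne (hCone l x₀ (hfpf (k - l) hkl' _ (hCmem l x₀ hx₀) e))
    have hbij : Function.Bijective ψ := by
      apply hinj.bijective_of_nat_card_le
      rw [hcard, Nat.card_eq_fintype_card, Fintype.card_option, ZMod.card]
    obtain ⟨o, ho⟩ := hbij.2 ⟨s, hs⟩
    rcases o with _ | k
    · left
      have h' : (1 : G) = s := congrArg Subtype.val ho
      exact h'.symm
    · right
      have h' : C k x₀ = s := congrArg Subtype.val ho
      exact ⟨k, h'.symm⟩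
  have key : ∀ x₀ ∈ S, ∀ s ∈ S, ⁅ℓ x₀, ℓ s⁆ = 1 := by
    intro x₀ hx₀ s hs
    by_cases hne : x₀ = 1
    · rw [hne, commutatorElement_eq_one_iff_mul_comm]
      exact ((Subgroup.mem_center_iff.mp hℓ1) (ℓ s)).symm
    · have hs_k : ∀ k, C k x₀ ∈ S := fun k => hCmem k x₀ hx₀
      have hsq2 : ∀ k, ⁅ℓ x₀, ℓ (C k x₀)⁆ * ⁅ℓ x₀, ℓ (C k x₀)⁆ = 1 := by
        intro k
        rw [← hmulr x₀ hx₀ _ (hs_k k) _ (hs_k k), hexp _ (hs_k k), hone]
      have hf : ∀ k, ⁅ℓ x₀, ℓ (C k x₀)⁆ = 1 := by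
        have hj : ∃ j, x₀ * C 1 x₀ = C j x₀ := by
          rcases hsurjS x₀ hx₀ hne _ (S.mul_mem hx₀ (hs_k 1)) with h | ⟨j, hj⟩
          · exfalso
            have h1 : C 1 x₀ = x₀ := mul_left_cancel (h.trans (hexp x₀ hx₀).symm)
            exact hne (hfpf 1 one_ne_zero x₀ hx₀ h1)
          · exact ⟨j, hj⟩
        obtain ⟨j, hj⟩ := hj
        have hj0 : j ≠ 0 := by
          rintro rfl
          rw [hC0] at hj
          exact hne (hCone 1 x₀ (mul_eq_left.mp hj))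
        have hj1 : j ≠ 1 := by
          rintro rfl
          exact hne (mul_eq_right.mp hj)
        refine hF (fun k => ⁅ℓ x₀, ℓ (C k x₀)⁆) j ?_ ?_ ?_ ?_ hj0 hj1 ?_
        · intro a b
          exact (Subgroup.mem_center_iff.mp (hcen x₀ hx₀ _ (hs_k b))) _
        · show ⁅ℓ x₀, ℓ (C 0 x₀)⁆ = 1
          rw [hC0, commutatorElement_self]
        · intro k
          exact hsq2 k
        · intro k
          show ⁅ℓ x₀, ℓ (C (-k) x₀)⁆ = ⁅ℓ x₀, ℓ (C k x₀)⁆
          have h1 : ⁅ℓ (C k x₀), ℓ (C k (C (-k) x₀))⁆ = ⁅ℓ x₀, ℓ (C (-k) x₀)⁆ := by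
            rw [hC k x₀, hC k (C (-k) x₀)]
            exact hconj _ x₀ hx₀ _ (hs_k (-k))
          rw [← hCadd, add_neg_cancel, hC0] at h1
          rw [← h1, ← commutatorElement_inv]
          exact inv_eq_of_mul_eq_one_left (hsq2 k)
        · intro i
          show ⁅ℓ x₀, ℓ (C (i + j) x₀)⁆ = ⁅ℓ x₀, ℓ (C i x₀)⁆ * ⁅ℓ x₀, ℓ (C (i + 1) x₀)⁆
          rw [hCadd i j, ← hj, hCmul, ← hCadd i 1]
          exact hmulr x₀ hx₀ _ (hs_k i) _ (hs_k (i + 1))
      rcases hsurjS x₀ hx₀ hne s hs with h | ⟨k, hk⟩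
      · rw [h]; exact hone x₀
      · rw [hk]; exact hf k
  have hfin := key (σ x) hx (σ y) hy
  rw [← hcong] at hfin
  exact commutatorElement_eq_one_iff_mul_comm.mp hfin

end Cfsg.Agent.Lib.helper37.S2113
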