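import Mathlib

set_option autoImplicit false

namespace Cfsg.Agent.Lib.helper37.S2113

/-- PIECE TWOF of S2113: a combinatorial lemma on `ZMod 7`. -/
theorem helper37_two_f {Γ : Type*} [Group Γ] (f : ZMod 7 → Γ) (j : ZMod 7)
    (hcomm : ∀ a b, f a * f b = f b * f a) (h0 : f 0 = 1) (hsq : ∀ k, f k * f k = 1)
    (hneg : ∀ k, f (-k) = f k) (hj0 : j ≠ 0) (hj1 : j ≠ 1)
    (hrel : ∀ i, f (i + j) = f i * f (i + 1)) : ∀ k, f k = 1 := by
  have hrel' : ∀ i k l : ZMod 7, i + j = k → i + 1 = l → f k = f i * f l := by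
    intro i k l h1 h2
    rw [← h1, ← h2]
    exact hrel i
  have hneg' : ∀ k l : ZMod 7, -k = l → f l = f k := by
    intro k l h
    rw [← h]
    exact hneg k
  have h4 : f 4 = f 3 := hneg' 3 4 (by decide)
  have h5 : f 5 = f 2 := hneg' 2 5 (by decide)
  have h6 : f 6 = f 1 := hneg' 1 6 (by decide)
  have fin : f 1 = 1 → f 2 = 1 → f 3 = 1 → ∀ k, f k = 1 := by
    intro f1 f2 f3 k
    have hk : ∀ k : ZMod 7, k = 0 ∨ k = 1 ∨ k = 2 ∨ k = 3 ∨ k = 4 ∨ k = 5 ∨ k = 6 := by decide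
    rcases hk k with rfl | rfl | rfl | rfl | rfl | rfl | rfl
    · exact h0
    · exact f1
    · exact f2
    · exact f3
    · rw [h4]; exact f3
    · rw [h5]; exact f2
    · rw [h6]; exact f1
  have hj : ∀ j : ZMod 7, j ≠ 0 → j ≠ 1 → j = 2 ∨ j = 3 ∨ j = 4 ∨ j = 5 ∨ j = 6 := by decide
  rcases hj j hj0 hj1 with rfl | rfl | rfl | rfl | rfl
  · -- j = 2
    have e0 : f 2 = f 0 * f 1 := hrel' 0 2 1 (by decide) (by decide)
    have e1 : f 3 = f 1 * f 2 := hrel' 1 3 2 (by decide) (by decide)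
    have e2 : f 4 = f 2 * f 3 := hrel' 2 4 3 (by decide) (by decide)
    rw [h0, one_mul] at e0
    rw [e0, hsq] at e1
    rw [h4, e1, mul_one] at e2
    have f2 : f 2 = 1 := e2.symm
    have f1 : f 1 = 1 := by rw [← e0]; exact f2
    exact fin f1 f2 e1
  · -- j = 3
    have e0 : f 3 = f 0 * f 1 := hrel' 0 3 1 (by decide) (by decide)
    have e1 : f 4 = f 1 * f 2 := hrel' 1 4 2 (by decide) (by decide)
    have e2 : f 5 = f 2 * f 3 := hrel' 2 5 3 (by decide) (by decide)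
    rw [h0, one_mul] at e0
    rw [h4, e0] at e1
    have f2 : f 2 = 1 := by
      have := e1
      exact (mul_eq_left.mp this.symm)
    rw [h5, f2, one_mul] at e2
    have f3 : f 3 = 1 := e2.symm
    have f1 : f 1 = 1 := by rw [← e0]; exact f3
    exact fin f1 f2 f3
  · -- j = 4
    have e0 : f 4 = f 0 * f 1 := hrel' 0 4 1 (by decide) (by decide)
    have e1 : f 5 = f 1 * f 2 := hrel' 1 5 2 (by decide) (by decide)
    have e2 : f 6 = f 2 * f 3 := hrel' 2 6 3 (by decide) (by decide)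
    rw [h0, one_mul, h4] at e0
    rw [h5] at e1
    have f1 : f 1 = 1 := mul_eq_right.mp e1.symm
    have f3 : f 3 = 1 := by rw [e0]; exact f1
    rw [h6, f1, f3, mul_one] at e2
    exact fin f1 e2.symm f3
  · -- j = 5
    have e0 : f 5 = f 0 * f 1 := hrel' 0 5 1 (by decide) (by decide)
    have e1 : f 6 = f 1 * f 2 := hrel' 1 6 2 (by decide) (by decide)
    have e2 : f 0 = f 2 * f 3 := hrel' 2 0 3 (by decide) (by decide)
    rw [h0, one_mul, h5] at e0
    rw [h6] at e1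
    have f2 : f 2 = 1 := mul_eq_left.mp e1.symm
    have f1 : f 1 = 1 := by rw [← e0]; exact f2
    rw [h0, f2, one_mul] at e2
    exact fin f1 f2 e2.symm
  · -- j = 6
    have e1 : f 0 = f 1 * f 2 := hrel' 1 0 2 (by decide) (by decide)
    have e2 : f 1 = f 2 * f 3 := hrel' 2 1 3 (by decide) (by decide)
    have e3 : f 2 = f 3 * f 4 := hrel' 3 2 4 (by decide) (by decide)
    rw [h4, hsq] at e3
    rw [h0, e3, mul_one] at e1
    rw [← e1, e3, one_mul] at e2
    exact fin e1.symm e3 e2.symm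

end Cfsg.Agent.Lib.helper37.S2113
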