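import Mathlib
import Cfsg.Agent.Lib.helper89.S60Defs
import Cfsg.Agent.Lib.helper29.S60BTF
import Cfsg.Agent.Lib.helper31.S60BFC

/-! S6000 piece N3 (`s60_nec_three`), helper37 (row owner, canonical name). -/

set_option autoImplicit false

namespace Cfsg.Agent.Lib.helper89.S60

open Matrix Cfsg Cfsg.Geo

theorem h37_s60_conj_pow {G : Type*} [Group G] (g x : G) (n : ℕ) :
    (g⁻¹ * x * g) ^ n = g⁻¹ * x ^ n * g := by
  have h := conj_pow (i := n) (a := g⁻¹) (b := x)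
  rwa [inv_inv] at h

theorem h37_s60_trace_conj {F : Type*} [Field F] (g x : GL (Fin 4) F) :
    Matrix.trace ((g⁻¹ * x * g : GL (Fin 4) F) : Matrix (Fin 4) (Fin 4) F)
      = Matrix.trace (x : Matrix (Fin 4) (Fin 4) F) := by
  rw [Units.val_mul, Units.val_mul, Matrix.trace_mul_comm, ← Matrix.mul_assoc, ← Units.val_mul,
    mul_inv_cancel, Units.val_one, Matrix.one_mul]

theorem h37_s60_exists_three {F : Type*} [Field F] [Fintype F] (hq : Fintype.card F % 3 = 1) :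
    ∃ x : GL (Fin 4) F, x ∈ specialLinear (Fin 4) F ∧ x ^ 3 = 1 ∧
      (∀ z : F, (x : Matrix (Fin 4) (Fin 4) F) ≠ z • (1 : Matrix (Fin 4) (Fin 4) F)) ∧
      Matrix.trace (x : Matrix (Fin 4) (Fin 4) F) *
        Matrix.trace ((x⁻¹ : GL (Fin 4) F) : Matrix (Fin 4) (Fin 4) F) = 7 := by
  classical
  have h3dvd : 3 ∣ Fintype.card Fˣ := by
    rw [Fintype.card_units]
    have := Fintype.card_pos (α := F)
    omega
  haveI : Fact (Nat.Prime 3) := ⟨by norm_num⟩
  obtain ⟨u, hu⟩ := exists_prime_orderOf_dvd_card 3 h3dvd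
  have hu3 : u ^ 3 = 1 := by rw [← hu]; exact pow_orderOf_eq_one u
  have hu1 : u ≠ 1 := by
    intro h
    rw [h, orderOf_one] at hu
    norm_num at hu
  obtain ⟨ω, hω⟩ : ∃ ω : F, ω = (u : F) := ⟨_, rfl⟩
  have hω3 : ω ^ 3 = 1 := by
    have := congrArg (fun v : Fˣ => (v : F)) hu3
    rw [hω]
    simpa using this
  have hω1 : ω ≠ 1 := by
    intro h
    rw [hω] at h
    exact hu1 (Units.ext h)
  have hω0 : ω ^ 2 + ω + 1 = 0 := by
    have h : (ω - 1) * (ω ^ 2 + ω + 1) = 0 := by linear_combination hω3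
    rcases mul_eq_zero.mp h with h | h
    · exact absurd (sub_eq_zero.mp h) hω1
    · exact h
  have hDD' : (Matrix.diagonal ![ω, ω, ω, 1] : Matrix (Fin 4) (Fin 4) F) *
      Matrix.diagonal ![ω ^ 2, ω ^ 2, ω ^ 2, 1] = 1 := by
    rw [Matrix.diagonal_mul_diagonal, ← Matrix.diagonal_one]
    congr 1
    funext i
    fin_cases i <;> simp <;> linear_combination hω3
  have hD'D : (Matrix.diagonal ![ω ^ 2, ω ^ 2, ω ^ 2, 1] : Matrix (Fin 4) (Fin 4) F) *
      Matrix.diagonal ![ω, ω, ω, 1] = 1 := by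
    rw [Matrix.diagonal_mul_diagonal, ← Matrix.diagonal_one]
    congr 1
    funext i
    fin_cases i <;> simp <;> linear_combination hω3
  refine ⟨⟨Matrix.diagonal ![ω, ω, ω, 1], Matrix.diagonal ![ω ^ 2, ω ^ 2, ω ^ 2, 1], hDD', hD'D⟩,
    ?_, ?_, ?_, ?_⟩
  · show _ ∈ (Matrix.GeneralLinearGroup.det : GL (Fin 4) F →* Fˣ).ker
    rw [MonoidHom.mem_ker]
    apply Units.ext
    rw [Matrix.GeneralLinearGroup.val_det_apply]
    show (Matrix.diagonal ![ω, ω, ω, 1] : Matrix (Fin 4) (Fin 4) F).det = 1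
    rw [Matrix.det_diagonal, Fin.prod_univ_four]
    simp
    linear_combination hω3
  · apply Units.ext
    rw [Units.val_pow_eq_pow_val]
    show (Matrix.diagonal ![ω, ω, ω, 1] : Matrix (Fin 4) (Fin 4) F) ^ 3 = 1
    rw [Matrix.diagonal_pow, ← Matrix.diagonal_one]
    congr 1
    funext i
    fin_cases i <;> simp [hω3]
  · intro z hz
    have hz' : (Matrix.diagonal ![ω, ω, ω, 1] : Matrix (Fin 4) (Fin 4) F) =
        z • (1 : Matrix (Fin 4) (Fin 4) F) := hz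
    have h0 := congrFun (congrFun hz' 0) 0
    have h3 := congrFun (congrFun hz' 3) 3
    simp at h0 h3
    exact hω1 (h0.trans h3.symm)
  · show Matrix.trace (Matrix.diagonal ![ω, ω, ω, 1] : Matrix (Fin 4) (Fin 4) F) *
      Matrix.trace (Matrix.diagonal ![ω ^ 2, ω ^ 2, ω ^ 2, 1] : Matrix (Fin 4) (Fin 4) F) = 7
    rw [Matrix.trace_diagonal, Matrix.trace_diagonal, Fin.sum_univ_four, Fin.sum_univ_four]
    simp
    linear_combination 9 * hω3 + 3 * hω0

/-- N3. -/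
theorem s60_nec_three {F : Type*} [Field F] [Fintype F] (h2 : (2 : F) ≠ 0) (R : Subgroup (GL (Fin 4) F)) (w : F) (hG : Good R w)
    (h3 : (3 : F) ≠ 0) (hq : Fintype.card F % 3 = 1) : Derang R 3 := by
  haveI : Fact (Nat.Prime 3) := ⟨by norm_num⟩
  obtain ⟨x, hx, hx3, hxs, htr⟩ := h37_s60_exists_three hq
  refine ⟨x, hx, hx3, hxs, ?_⟩
  intro g hy
  have hy3 : (g⁻¹ * x * g) ^ 3 = 1 := by
    rw [h37_s60_conj_pow, hx3]
    group
  have hty : Matrix.trace ((g⁻¹ * x * g : GL (Fin 4) F) : Matrix (Fin 4) (Fin 4) F) =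
      Matrix.trace (x : Matrix (Fin 4) (Fin 4) F) := h37_s60_trace_conj g x
  have htyi : Matrix.trace (((g⁻¹ * x * g)⁻¹ : GL (Fin 4) F) : Matrix (Fin 4) (Fin 4) F) =
      Matrix.trace ((x⁻¹ : GL (Fin 4) F) : Matrix (Fin 4) (Fin 4) F) := by
    have e : (g⁻¹ * x * g)⁻¹ = g⁻¹ * x⁻¹ * g := by group
    rw [e, h37_s60_trace_conj]
  obtain ⟨hdvd, h4, hmod, -⟩ := s60_fix_count h2 R w hG 3 _ hy hy3
  have hF := s60_trace_formula h2 R w hG _ hy 3 (by decide) hy3
  rw [hty, htyi, htr] at hF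
  obtain ⟨c, hc⟩ : ∃ c : ℕ, c = Nat.card {s : GL (Fin 4) F // s ∈ R ∧ g⁻¹ * x * g * s = s * (g⁻¹ * x * g)} :=
    ⟨_, rfl⟩
  rw [← hc] at hdvd h4 hmod hF
  have hcle : c ≤ 64 := Nat.le_of_dvd (by norm_num) hdvd
  have hc3 : c = 4 ∨ c = 16 ∨ c = 64 := by
    interval_cases c <;> omega
  have h23 : (2 : F) ^ 2 * 3 ≠ 0 := mul_ne_zero (pow_ne_zero 2 h2) h3
  rcases hc3 with h | h | h
  · rw [h] at hF
    apply mul_ne_zero h2 h23
    push_cast at hF
    linear_combination hF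
  · rw [h] at hF
    apply h23
    push_cast at hF
    linear_combination hF
  · rw [h] at hF
    apply mul_ne_zero h23 h3
    push_cast at hF
    linear_combination -hF

end Cfsg.Agent.Lib.helper89.S60
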