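import Mathlib
import Cfsg.Agent.S0242
import Cfsg.Agent.Lib.helper69.SymSylow
import Cfsg.Agent.Lib.helper46.SL2Sylow
import Cfsg.Agent.Lib.helper37.SqComm
import Cfsg.Agent.Lib.helper37.GL2Sylow
import Cfsg.Agent.Lib.helper37.GLBlocks
import Cfsg.Agent.Lib.helper37.SLNum

set_option autoImplicit false
open scoped commutatorElement

namespace Cfsg.Agent.Lib.helper37

section

variable {F : Type*} [Field F] [Fintype F]

theorem card_sylow_gl2 (hF : Odd (Fintype.card F)) (S : Sylow 2 (GL (Fin 2) F)) :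
    Nat.card ↥(S : Subgroup (GL (Fin 2) F))
      = 2 ^ (padicValNat 2 (Fintype.card F - 1) + padicValNat 2 (Fintype.card F ^ 2 - 1)) := by
  have hfact : Fact (Nat.Prime 2) := ⟨Nat.prime_two⟩
  have hq1 : 1 < Fintype.card F := Fintype.one_lt_card
  have hq2 : ¬ 2 ∣ Fintype.card F := by
    intro h; exact (Nat.not_even_iff_odd.mpr hF) (even_iff_two_dvd.mpr h)
  rw [Sylow.card_eq_multiplicity, Nat.factorization_def _ Nat.prime_two,
    Cfsg.Agent.Lib.helper46.card_GL_eq_card_units_mul_card_SL' (F := F) 2,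
    padicValNat.mul (Nat.card_pos.ne') (Nat.card_pos.ne'), Nat.card_units,
    Nat.card_eq_fintype_card, Cfsg.Agent.Lib.helper46.card_SL2' (F := F) rfl,
    v2_sl2_card _ hq1 hq2]

/-- the Sylow `2`-subgroup `S ≀ T` of `GL_{2m}(F)` built from blocks. -/
theorem gl_block_sylow (hF : Odd (Fintype.card F)) (m : ℕ) (S : Sylow 2 (GL (Fin 2) F))
    (hS : SqC (S : Subgroup (GL (Fin 2) F))) :
    ∃ W : Subgroup (GL (Fin 2 × Fin m) F), IsPGroup 2 ↥W ∧ SqC W ∧
      2 ^ (m * (padicValNat 2 (Fintype.card F - 1) + padicValNat 2 (Fintype.card F ^ 2 - 1))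
        + padicValNat 2 (Nat.factorial m)) ≤ Nat.card ↥W := by
  classical
  have hfact : Fact (Nat.Prime 2) := ⟨Nat.prime_two⟩
  set e := padicValNat 2 (Fintype.card F - 1) + padicValNat 2 (Fintype.card F ^ 2 - 1) with he
  obtain ⟨T⟩ : Nonempty (Sylow 2 (Equiv.Perm (Fin m))) := inferInstance
  have hScard := card_sylow_gl2 hF S
  have hTcard : Nat.card ↥(T : Subgroup (Equiv.Perm (Fin m)))
      = 2 ^ padicValNat 2 (Nat.factorial m) := by
    rw [Sylow.card_eq_multiplicity, Nat.card_perm, Nat.factorization_def _ Nat.prime_two]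
    simp
  let φ : (Fin m → ↥(S : Subgroup (GL (Fin 2) F))) →* GL (Fin 2 × Fin m) F :=
    (bdHom m).comp ((S : Subgroup (GL (Fin 2) F)).subtype.compLeft (Fin m))
  have hφ : ∀ f : Fin m → ↥(S : Subgroup (GL (Fin 2) F)),
      φ f = bdHom m (fun i => (f i).1) := fun f => rfl
  have hφinj : Function.Injective φ := by
    intro f g hfg
    rw [hφ, hφ] at hfg
    have := bdHom_injective m hfg
    funext i
    exact Subtype.ext (congrFun this i)
  let A : Subgroup (GL (Fin 2 × Fin m) F) := φ.range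
  let B : Subgroup (GL (Fin 2 × Fin m) F) := (T : Subgroup (Equiv.Perm (Fin m))).map (pmHom m)
  have hconj : ∀ (σ : Equiv.Perm (Fin m)) (f : Fin m → ↥(S : Subgroup (GL (Fin 2) F))),
      pmHom m σ * φ f * (pmHom m σ)⁻¹ = φ (fun i => f (σ⁻¹ i)) := by
    intro σ f
    rw [mul_inv_eq_iff_eq_mul, hφ, hφ]
    exact pmHom_mul_bdHom m σ _
  have hAcard : Nat.card ↥A = 2 ^ (e * m) := by
    rw [← Nat.card_congr (MonoidHom.ofInjective hφinj).toEquiv, Nat.card_fun, hScard,
      Nat.card_fin, pow_mul]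
  have hAp : IsPGroup 2 ↥A := IsPGroup.of_card hAcard
  have hBp : IsPGroup 2 ↥B := IsPGroup.map T.isPGroup' (pmHom m)
  have hBcard : Nat.card ↥B = 2 ^ padicValNat 2 (Nat.factorial m) := by
    rw [← hTcard]
    exact Subgroup.card_map_of_injective (pmHom_injective m)
  have hdisj : Disjoint A B := by
    rw [Subgroup.disjoint_def]
    rintro x ⟨f, rfl⟩ ⟨σ, hσ, hσf⟩
    rw [hφ] at hσf
    have := bdHom_eq_pmHom m σ _ hσf.symm
    rw [hφ, ← hσf, this, map_one]
  have hP2 : IsPGroup 2 ↥(A ⊔ B) := by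
    apply isPGroup_sup_of_normalizes A B hAp hBp
    rintro _ ⟨σ, hσ, rfl⟩ _ ⟨f, rfl⟩
    exact ⟨_, (hconj σ f).symm⟩
  have hcard : 2 ^ (m * e + padicValNat 2 (Nat.factorial m)) ≤ Nat.card ↥(A ⊔ B) := by
    have h1 := card_sup_ge_of_disjoint A B hdisj
    rw [hAcard, hBcard] at h1
    calc 2 ^ (m * e + padicValNat 2 (Nat.factorial m))
        = 2 ^ (e * m) * 2 ^ padicValNat 2 (Nat.factorial m) := by rw [pow_add, mul_comm m e]
      _ ≤ _ := h1
  let SA : Set (GL (Fin 2 × Fin m) F) :=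
    {x | ∃ i, ∃ y : ↥(S : Subgroup (GL (Fin 2) F)), x = φ (Pi.mulSingle i y)}
  let SB : Set (GL (Fin 2 × Fin m) F) :=
    {x | ∃ τ ∈ (T : Subgroup (Equiv.Perm (Fin m))), τ ^ 2 = 1 ∧ x = pmHom m τ}
  have hA : A = Subgroup.closure SA := by
    apply le_antisymm
    · rintro _ ⟨f, rfl⟩
      have : f ∈ (Subgroup.closure SA).comap φ := by
        rw [← Finset.noncommProd_mulSingle f]
        apply Subgroup.noncommProd_mem
        intro i _
        exact Subgroup.subset_closure ⟨i, f i, rfl⟩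
      exact this
    · rw [Subgroup.closure_le]
      rintro x ⟨i, y, rfl⟩
      exact ⟨_, rfl⟩
  have hB : B = Subgroup.closure SB := by
    apply le_antisymm
    · rintro _ ⟨τ, hτ, rfl⟩
      have hg := Cfsg.Agent.Lib.helper69.isGenP_sylow_perm 2 m T
      have hle : Subgroup.closure {y : ↥(T : Subgroup (Equiv.Perm (Fin m))) | y ^ 2 = 1}
          ≤ (Subgroup.closure SB).comap
            ((pmHom m).comp (T : Subgroup (Equiv.Perm (Fin m))).subtype) := by
        rw [Subgroup.closure_le]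
        intro y hy
        refine Subgroup.subset_closure ⟨y.1, y.2, ?_, rfl⟩
        have := congrArg Subtype.val hy
        simpa using this
      have hmem : (⟨τ, hτ⟩ : ↥(T : Subgroup (Equiv.Perm (Fin m)))) ∈
          (Subgroup.closure SB).comap
            ((pmHom m).comp (T : Subgroup (Equiv.Perm (Fin m))).subtype) :=
        hle (by rw [hg]; exact Subgroup.mem_top _)
      exact hmem
    · rw [Subgroup.closure_le]
      rintro x ⟨τ, hτ, _, rfl⟩
      exact Subgroup.mem_map_of_mem _ hτ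
  have hsq : ∀ s ∈ SA ∪ SB, s ^ 2 ∈ ⁅A ⊔ B, A ⊔ B⁆ := by
    rintro s (⟨i, y, rfl⟩ | ⟨τ, hτ, hτ2, rfl⟩)
    · let ψ : ↥(S : Subgroup (GL (Fin 2) F)) →* GL (Fin 2 × Fin m) F :=
        φ.comp (MonoidHom.mulSingle (fun _ : Fin m => ↥(S : Subgroup (GL (Fin 2) F))) i)
      have h1 : (φ (Pi.mulSingle i y)) ^ 2 = ψ (y ^ 2) := by
        rw [map_pow]; rfl
      rw [h1]
      have h2 : ψ (y ^ 2) ∈ (commutator ↥(S : Subgroup (GL (Fin 2) F))).map ψ :=
        Subgroup.mem_map_of_mem _ (hS.coe y)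
      rw [commutator_def, Subgroup.map_commutator] at h2
      have h3 : (⊤ : Subgroup ↥(S : Subgroup (GL (Fin 2) F))).map ψ ≤ A ⊔ B := by
        rintro _ ⟨z, _, rfl⟩
        exact (le_sup_left : A ≤ A ⊔ B) ⟨_, rfl⟩
      exact Subgroup.commutator_mono h3 h3 h2
    · rw [← map_pow, hτ2, map_one]
      exact Subgroup.one_mem _
  exact ⟨A ⊔ B, hP2, sqC_sup_of_gens A B SA SB hA hB hsq, hcard⟩

/-- Sylow `2`-subgroups of `SL_{2m+1}(F)`, `|F| ≡ 3 mod 4`. -/
theorem sl_odd_sylow_sqC (hF : Odd (Fintype.card F)) (hq : 4 ∣ Fintype.card F + 1) (m : ℕ)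
    (P : Sylow 2 (Matrix.SpecialLinearGroup (Fin (2 * m + 1)) F)) :
    SqC (P : Subgroup (Matrix.SpecialLinearGroup (Fin (2 * m + 1)) F)) := by
  classical
  have hfact : Fact (Nat.Prime 2) := ⟨Nat.prime_two⟩
  have hq1 : 1 < Fintype.card F := Fintype.one_lt_card
  have hq2 : ¬ 2 ∣ Fintype.card F := by
    intro h; exact (Nat.not_even_iff_odd.mpr hF) (even_iff_two_dvd.mpr h)
  obtain ⟨S⟩ : Nonempty (Sylow 2 (GL (Fin 2) F)) := inferInstance
  obtain ⟨_, _, _, hS4⟩ := gl2_sylow_struct hF hq S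
  obtain ⟨W, hWp, hWsq, hWcard⟩ := gl_block_sylow hF m S hS4
  have hcard : Fintype.card ((Fin 2 × Fin m) ⊕ Unit) = 2 * m + 1 := by simp
  let e : (Fin 2 × Fin m) ⊕ Unit ≃ Fin (2 * m + 1) := Fintype.equivFinOfCardEq hcard
  let Θ : GL (Fin 2 × Fin m) F →* Matrix.SpecialLinearGroup (Fin (2 * m + 1)) F :=
    (reindexSL e).comp glToSL
  have hΘ : Function.Injective Θ := (reindexSL_injective e).comp glToSL_injective
  have hP2 : IsPGroup 2 ↥(W.map Θ) := IsPGroup.map hWp Θ
  have hc : Nat.card ↥(W.map Θ) = Nat.card ↥W := Subgroup.card_map_of_injective hΘ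
  have hG : padicValNat 2 (Nat.card (Matrix.SpecialLinearGroup (Fin (2 * m + 1)) F))
      = m * (padicValNat 2 (Fintype.card F - 1) + padicValNat 2 (Fintype.card F ^ 2 - 1))
        + padicValNat 2 (Nat.factorial m) := by
    have h1 := Cfsg.Agent.S0242.result (F := F) rfl (2 * m + 1) (by omega)
    have h2 := congrArg (padicValNat 2) h1
    rw [v2_gl_prod _ hq1 hq2, v2Sum_odd _ hq1 hq2,
      padicValNat.mul (by omega) (Nat.card_pos.ne')] at h2
    have h3 : (m + 1) * padicValNat 2 (Fintype.card F - 1)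
        = padicValNat 2 (Fintype.card F - 1) + m * padicValNat 2 (Fintype.card F - 1) := by ring
    rw [mul_add]
    omega
  have hidx : ¬ 2 ∣ (W.map Θ).index := by
    apply odd_index_of_card_ge _ hP2
    rw [hG, hc]
    exact hWcard
  exact sqC_sylow_of_sub _ hP2 hidx (hWsq.map Θ) P

end

end Cfsg.Agent.Lib.helper37
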