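import Mathlib
import Cfsg.Agent.S0242
import Cfsg.Agent.Lib.helper69.SymSylow
import Cfsg.Agent.Lib.helper46.SL2Sylow
import Cfsg.Agent.Lib.helper37.SqComm
import Cfsg.Agent.Lib.helper37.GL2Sylow
import Cfsg.Agent.Lib.helper37.GLBlocks
import Cfsg.Agent.Lib.helper37.SLNum
import Cfsg.Agent.Lib.helper37.SLSylowOdd

set_option autoImplicit false
open scoped commutatorElement

namespace Cfsg.Agent.Lib.helper37

/-- generators of the kernel of a "product of local characters" on a power. -/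
theorem ker_closure_of_mulSingle {ι : Type*} [DecidableEq ι] [Fintype ι] {S C : Type*}
    [Group S] [Group C]
    (Δ : (ι → S) →* C) (d : S →* C) (hΔ : ∀ i x, Δ (Pi.mulSingle i x) = d x)
    (y : S) (hy : ∀ x, d x = 1 ∨ d (x * y) = 1) (f : ι → S) (hf : Δ f = 1) :
    f ∈ Subgroup.closure ({g : ι → S | ∃ i x, d x = 1 ∧ g = Pi.mulSingle i x} ∪
       {g : ι → S | ∃ i j, i ≠ j ∧ g = Pi.mulSingle i y⁻¹ * Pi.mulSingle j y}) := by
  classical
  set Gen := ({g : ι → S | ∃ i x, d x = 1 ∧ g = Pi.mulSingle i x} ∪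
       {g : ι → S | ∃ i j, i ≠ j ∧ g = Pi.mulSingle i y⁻¹ * Pi.mulSingle j y}) with hGen
  have key : ∀ s : Finset ι, ∀ f : ι → S, (∀ k, k ∉ s → f k = 1) → Δ f = 1 →
      f ∈ Subgroup.closure Gen := by
    intro s
    induction s using Finset.induction_on with
    | empty =>
      intro f hsupp _
      have : f = 1 := funext fun k => hsupp k (Finset.notMem_empty k)
      rw [this]; exact Subgroup.one_mem _
    | insert i s' hi ih =>
      intro f hsupp hf
      by_cases h0 : d (f i) = 1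
      · have hmem : Pi.mulSingle i (f i) ∈ Subgroup.closure Gen :=
          Subgroup.subset_closure (Or.inl ⟨i, f i, h0, rfl⟩)
        have hf' : (Pi.mulSingle i (f i))⁻¹ * f ∈ Subgroup.closure Gen := by
          apply ih
          · intro k hk
            by_cases hki : k = i
            · subst hki; simp
            · have : f k = 1 := hsupp k (by simp [hki, hk])
              simp [Pi.mulSingle_eq_of_ne hki, this]
          · rw [map_mul, map_inv, hΔ, h0, hf]; simp
        have := Subgroup.mul_mem _ hmem hf'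
        rwa [mul_inv_cancel_left] at this
      · have h1 : d (f i * y) = 1 := (hy (f i)).resolve_left h0
        by_cases hs' : s' = ∅
        · exfalso
          apply h0
          have hfeq : f = Pi.mulSingle i (f i) := by
            funext k
            by_cases hki : k = i
            · subst hki; simp
            · rw [Pi.mulSingle_eq_of_ne hki]
              exact hsupp k (by simp [hki, hs'])
          rw [← hΔ i (f i), ← hfeq, hf]
        · obtain ⟨j, hj⟩ := Finset.nonempty_iff_ne_empty.mpr hs'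
          have hji : j ≠ i := fun h => hi (h ▸ hj)
          set a : ι → S := Pi.mulSingle i (f i * y) * (Pi.mulSingle i y⁻¹ * Pi.mulSingle j y)
            with ha
          have hmem : a ∈ Subgroup.closure Gen :=
            Subgroup.mul_mem _ (Subgroup.subset_closure (Or.inl ⟨i, f i * y, h1, rfl⟩))
              (Subgroup.subset_closure (Or.inr ⟨i, j, hji.symm, rfl⟩))
          have hΔa : Δ a = 1 := by
            rw [ha, map_mul, map_mul, hΔ, hΔ, hΔ, h1, map_inv]; simp
          have hf' : a⁻¹ * f ∈ Subgroup.closure Gen := by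
            apply ih
            · intro k hk
              by_cases hki : k = i
              · subst hki
                simp [ha, Pi.mulSingle_eq_of_ne hji.symm]
              · have hkj : k ≠ j := fun h => hk (h ▸ hj)
                have : f k = 1 := hsupp k (by simp [hki, hk])
                simp [ha, Pi.mulSingle_eq_of_ne hki, Pi.mulSingle_eq_of_ne hkj, this]
            · rw [map_mul, map_inv, hΔa, hf]; simp
          have := Subgroup.mul_mem _ hmem hf'
          rwa [mul_inv_cancel_left] at this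
  exact key Finset.univ f (fun k hk => absurd (Finset.mem_univ k) hk) hf

section

variable {F : Type*} [Field F] [Fintype F]

/-- Sylow `2`-subgroups of `SL_{2m}(F)`, `|F| ≡ 3 mod 4`. -/
theorem sl_even_sylow_sqC_three (hF : Odd (Fintype.card F)) (hq : 4 ∣ Fintype.card F + 1) (m : ℕ)
    (hm : 1 ≤ m) (P : Sylow 2 (Matrix.SpecialLinearGroup (Fin (2 * m)) F)) :
    SqC (P : Subgroup (Matrix.SpecialLinearGroup (Fin (2 * m)) F)) := by
  classical
  have hfact : Fact (Nat.Prime 2) := ⟨Nat.prime_two⟩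
  have hq1 : 1 < Fintype.card F := Fintype.one_lt_card
  have hq2 : ¬ 2 ∣ Fintype.card F := by
    intro h; exact (Nat.not_even_iff_odd.mpr hF) (even_iff_two_dvd.mpr h)
  obtain ⟨S⟩ : Nonempty (Sylow 2 (GL (Fin 2) F)) := inferInstance
  obtain ⟨hS1, ⟨y, hyS, hy2, hydet⟩, hS3, _⟩ := gl2_sylow_struct hF hq S
  set e := padicValNat 2 (Fintype.card F - 1) + padicValNat 2 (Fintype.card F ^ 2 - 1) with he
  obtain ⟨T⟩ : Nonempty (Sylow 2 (Equiv.Perm (Fin m))) := inferInstance
  have hScard := card_sylow_gl2 hF S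
  have hTcard : Nat.card ↥(T : Subgroup (Equiv.Perm (Fin m)))
      = 2 ^ padicValNat 2 (Nat.factorial m) := by
    rw [Sylow.card_eq_multiplicity, Nat.card_perm, Nat.factorization_def _ Nat.prime_two]
    simp
  let SS : Subgroup (GL (Fin 2) F) := (S : Subgroup (GL (Fin 2) F))
  let R2 : Subgroup (GL (Fin 2) F) :=
    (Matrix.SpecialLinearGroup.toGL : Matrix.SpecialLinearGroup (Fin 2) F →* GL (Fin 2) F).range
  let φ : (Fin m → ↥SS) →* GL (Fin 2 × Fin m) F :=
    (bdHom m).comp (SS.subtype.compLeft (Fin m))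
  have hφ : ∀ f : Fin m → ↥SS, φ f = bdHom m (fun i => (f i).1) := fun f => rfl
  have hφinj : Function.Injective φ := by
    intro f g hfg
    rw [hφ, hφ] at hfg
    have := bdHom_injective m hfg
    funext i
    exact Subtype.ext (congrFun this i)
  let d : ↥SS →* Fˣ := Matrix.GeneralLinearGroup.det.comp SS.subtype
  let Δ : (Fin m → ↥SS) →* Fˣ := Matrix.GeneralLinearGroup.det.comp φ
  have hΔ' : ∀ f, Δ f = ∏ i, d (f i) := fun f => by
    show Matrix.GeneralLinearGroup.det (φ f) = _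
    rw [hφ, det_bdHom]; rfl
  have hΔ : ∀ i x, Δ (Pi.mulSingle i x) = d x := by
    intro i x
    rw [hΔ', Finset.prod_eq_single i]
    · rw [Pi.mulSingle_eq_same]
    · intro k _ hk; rw [Pi.mulSingle_eq_of_ne hk, map_one]
    · intro h; exact absurd (Finset.mem_univ i) h
  let y' : ↥SS := ⟨y, hyS⟩
  have hy'2 : y' * y' = 1 := Subtype.ext (by rw [← pow_two] at *; simpa using hy2)
  have hy'inv : y'⁻¹ = y' := inv_eq_of_mul_eq_one_left hy'2
  have hdy : d y' = -1 := hydet
  have hd : ∀ x : ↥SS, d x = 1 ∨ d x = -1 := fun x => hS1 x.1 x.2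
  have hdy' : ∀ x, d x = 1 ∨ d (x * y') = 1 := by
    intro x
    rcases hd x with h | h
    · left; exact h
    · right; rw [map_mul, h, hdy]; simp
  let K : Subgroup (Fin m → ↥SS) := Δ.ker
  let A : Subgroup (GL (Fin 2 × Fin m) F) := K.map φ
  let B : Subgroup (GL (Fin 2 × Fin m) F) := (T : Subgroup (Equiv.Perm (Fin m))).map (pmHom m)
  have hconj : ∀ (σ : Equiv.Perm (Fin m)) (f : Fin m → ↥SS),
      pmHom m σ * φ f * (pmHom m σ)⁻¹ = φ (fun i => f (σ⁻¹ i)) := by
    intro σ f
    rw [mul_inv_eq_iff_eq_mul, hφ, hφ]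
    exact pmHom_mul_bdHom m σ _
  have hPi : IsPGroup 2 (Fin m → ↥SS) :=
    IsPGroup.of_card (n := e * m) (by rw [Nat.card_fun, hScard, Nat.card_fin, pow_mul])
  have hAp : IsPGroup 2 ↥A := IsPGroup.map (hPi.to_subgroup K) φ
  have hBp : IsPGroup 2 ↥B := IsPGroup.map T.isPGroup' (pmHom m)
  have hBcard : Nat.card ↥B = 2 ^ padicValNat 2 (Nat.factorial m) := by
    rw [← hTcard]
    exact Subgroup.card_map_of_injective (pmHom_injective m)
  have hΔpm : ∀ f, Δ f = 1 ∨ Δ f = -1 := by
    intro f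
    rw [hΔ']
    apply Finset.prod_induction (fun i => d (f i)) (fun u => u = 1 ∨ u = -1)
    · rintro a b (rfl | rfl) (rfl | rfl) <;> simp
    · left; rfl
    · intro i _; exact hd (f i)
  have hKcard : 2 ^ (e * m) ≤ 2 * Nat.card ↥A := by
    have h1 := card_le_two_mul_ker Δ hΔpm
    rw [Nat.card_fun, hScard, Nat.card_fin, ← pow_mul] at h1
    have h2 : Nat.card ↥A = Nat.card ↥K := Subgroup.card_map_of_injective hφinj
    rw [h2]; exact h1
  have hdisj : Disjoint A B := by
    rw [Subgroup.disjoint_def]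
    rintro x ⟨f, _, rfl⟩ ⟨σ, hσ, hσf⟩
    rw [hφ] at hσf
    have := bdHom_eq_pmHom m σ _ hσf.symm
    rw [hφ, ← hσf, this, map_one]
  have hP2 : IsPGroup 2 ↥(A ⊔ B) := by
    apply isPGroup_sup_of_normalizes A B hAp hBp
    rintro _ ⟨σ, hσ, rfl⟩ _ ⟨f, hf, rfl⟩
    refine ⟨_, ?_, (hconj σ f).symm⟩
    show Matrix.GeneralLinearGroup.det (φ (fun i => f (σ⁻¹ i))) = 1
    rw [← hconj σ f, map_mul, map_mul, map_inv, mul_comm, ← mul_assoc, inv_mul_cancel, one_mul]
    exact hf
  have hcard : 2 ^ (m * e + padicValNat 2 (Nat.factorial m)) ≤ 2 * Nat.card ↥(A ⊔ B) := by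
    have h1 := card_sup_ge_of_disjoint A B hdisj
    rw [hBcard] at h1
    calc 2 ^ (m * e + padicValNat 2 (Nat.factorial m))
        = 2 ^ (e * m) * 2 ^ padicValNat 2 (Nat.factorial m) := by rw [pow_add, mul_comm m e]
      _ ≤ 2 * Nat.card ↥A * 2 ^ padicValNat 2 (Nat.factorial m) := Nat.mul_le_mul_right _ hKcard
      _ = 2 * (Nat.card ↥A * 2 ^ padicValNat 2 (Nat.factorial m)) := by ring
      _ ≤ _ := Nat.mul_le_mul_left _ h1
  let Gen : Set (Fin m → ↥SS) := ({g : Fin m → ↥SS | ∃ i x, d x = 1 ∧ g = Pi.mulSingle i x} ∪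
       {g : Fin m → ↥SS | ∃ i j, i ≠ j ∧ g = Pi.mulSingle i y'⁻¹ * Pi.mulSingle j y'})
  let SA : Set (GL (Fin 2 × Fin m) F) := φ '' Gen
  let SB : Set (GL (Fin 2 × Fin m) F) :=
    {x | ∃ τ ∈ (T : Subgroup (Equiv.Perm (Fin m))), τ ^ 2 = 1 ∧ x = pmHom m τ}
  have hKgen : K = Subgroup.closure Gen := by
    apply le_antisymm
    · intro f hf
      exact ker_closure_of_mulSingle Δ d hΔ y' hdy' f hf
    · rw [Subgroup.closure_le]
      rintro g (⟨i, x, hx, rfl⟩ | ⟨i, j, hij, rfl⟩)
      · show Δ _ = 1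
        rw [hΔ, hx]
      · show Δ _ = 1
        rw [map_mul, hΔ, hΔ, map_inv, inv_mul_cancel]
  have hA : A = Subgroup.closure SA := by
    show K.map φ = Subgroup.closure (φ '' Gen)
    rw [hKgen, MonoidHom.map_closure]
  have hB : B = Subgroup.closure SB := by
    apply le_antisymm
    · rintro _ ⟨τ, hτ, rfl⟩
      have hg := Cfsg.Agent.Lib.helper69.isGenP_sylow_perm 2 m T
      have hle : Subgroup.closure {y : ↥(T : Subgroup (Equiv.Perm (Fin m))) | y ^ 2 = 1}
          ≤ (Subgroup.closure SB).comap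
            ((pmHom m).comp (T : Subgroup (Equiv.Perm (Fin m))).subtype) := by
        rw [Subgroup.closure_le]
        intro y hy
        refine Subgroup.subset_closure ⟨y.1, y.2, ?_, rfl⟩
        have := congrArg Subtype.val hy
        simpa using this
      have hmem : (⟨τ, hτ⟩ : ↥(T : Subgroup (Equiv.Perm (Fin m)))) ∈
          (Subgroup.closure SB).comap
            ((pmHom m).comp (T : Subgroup (Equiv.Perm (Fin m))).subtype) :=
        hle (by rw [hg]; exact Subgroup.mem_top _)
      exact hmem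
    · rw [Subgroup.closure_le]
      rintro x ⟨τ, hτ, _, rfl⟩
      exact Subgroup.mem_map_of_mem _ hτ
  have hsq : ∀ s ∈ SA ∪ SB, s ^ 2 ∈ ⁅A ⊔ B, A ⊔ B⁆ := by
    rintro s (⟨g, (⟨i, x, hx, rfl⟩ | ⟨i, j, hij, rfl⟩), rfl⟩ | ⟨τ, hτ, hτ2, rfl⟩)
    · let ψ : GL (Fin 2) F →* GL (Fin 2 × Fin m) F :=
        (bdHom m).comp (MonoidHom.mulSingle (fun _ : Fin m => GL (Fin 2) F) i)
      have hψ : ∀ z : ↥SS, φ (Pi.mulSingle i z) = ψ z.1 := by
        intro z
        rw [hφ]
        show bdHom m _ = bdHom m (Pi.mulSingle i z.1)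
        congr 1
        funext k
        by_cases hk : k = i
        · subst hk; simp
        · simp [Pi.mulSingle_eq_of_ne hk]
      have h1 : (φ (Pi.mulSingle i x)) ^ 2 = ψ (x.1 ^ 2) := by
        rw [hψ, map_pow]
      rw [h1]
      have hxm : x.1 ∈ SS ⊓ R2 := by
        rw [Subgroup.mem_inf]
        refine ⟨x.2, ?_⟩
        show x.1 ∈ (Matrix.SpecialLinearGroup.toGL :
          Matrix.SpecialLinearGroup (Fin 2) F →* GL (Fin 2) F).range
        rw [mem_toGL_range_iff]; exact hx
      have h2 : ψ (x.1 ^ 2) ∈ (⁅SS ⊓ R2, SS ⊓ R2⁆).map ψ :=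
        Subgroup.mem_map_of_mem _ (hS3 x.1 hxm)
      rw [Subgroup.map_commutator] at h2
      have h3 : (SS ⊓ R2).map ψ ≤ A ⊔ B := by
        rintro _ ⟨z, hz0, rfl⟩
        have hz : z ∈ SS ∧ z ∈ R2 := Subgroup.mem_inf.mp hz0
        apply (le_sup_left : A ≤ A ⊔ B)
        refine ⟨Pi.mulSingle i ⟨z, hz.1⟩, ?_, hψ ⟨z, hz.1⟩⟩
        show Δ _ = 1
        rw [hΔ]
        exact (mem_toGL_range_iff z).mp hz.2
      exact Subgroup.commutator_mono h3 h3 h2
    · have hg2 : (Pi.mulSingle i y'⁻¹ * Pi.mulSingle j y' : Fin m → ↥SS) ^ 2 = 1 := by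
        rw [hy'inv]
        funext k
        simp only [Pi.pow_apply, Pi.mul_apply, Pi.one_apply]
        by_cases hki : k = i
        · have hkj : k ≠ j := fun h => hij (hki.symm.trans h)
          subst hki
          rw [Pi.mulSingle_eq_same, Pi.mulSingle_eq_of_ne hkj, mul_one, pow_two, hy'2]
        · by_cases hkj : k = j
          · subst hkj
            rw [Pi.mulSingle_eq_same, Pi.mulSingle_eq_of_ne hki, one_mul, pow_two, hy'2]
          · rw [Pi.mulSingle_eq_of_ne hki, Pi.mulSingle_eq_of_ne hkj, one_mul, one_pow]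
      rw [← map_pow, hg2, map_one]
      exact Subgroup.one_mem _
    · rw [← map_pow, hτ2, map_one]
      exact Subgroup.one_mem _
  have hsqC : SqC (A ⊔ B) := sqC_sup_of_gens A B SA SB hA hB hsq
  have hR : A ⊔ B ≤ (Matrix.SpecialLinearGroup.toGL :
      Matrix.SpecialLinearGroup (Fin 2 × Fin m) F →* GL (Fin 2 × Fin m) F).range := by
    rw [sup_le_iff]
    constructor
    · rintro _ ⟨f, hf, rfl⟩
      rw [mem_toGL_range_iff]; exact hf
    · rintro _ ⟨σ, _, rfl⟩
      rw [mem_toGL_range_iff]; exact det_pmHom m σ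
  let P1 : Subgroup (Matrix.SpecialLinearGroup (Fin 2 × Fin m) F) :=
    (A ⊔ B).comap Matrix.SpecialLinearGroup.toGL
  have hP1sq : SqC P1 := hsqC.comap_of_injective _ Matrix.SpecialLinearGroup.toGL_injective hR
  have hP1p : IsPGroup 2 ↥P1 :=
    hP2.comap_of_injective _ Matrix.SpecialLinearGroup.toGL_injective
  have hP1card : Nat.card ↥P1 = Nat.card ↥(A ⊔ B) :=
    card_comap_of_injective_of_le _ Matrix.SpecialLinearGroup.toGL_injective hR
  have hcard' : Fintype.card (Fin 2 × Fin m) = 2 * m := by simp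
  let ee : Fin 2 × Fin m ≃ Fin (2 * m) := Fintype.equivFinOfCardEq hcard'
  let Θ : Matrix.SpecialLinearGroup (Fin 2 × Fin m) F →*
      Matrix.SpecialLinearGroup (Fin (2 * m)) F := reindexSL ee
  have hΘ : Function.Injective Θ := reindexSL_injective ee
  have hQ2 : IsPGroup 2 ↥(P1.map Θ) := IsPGroup.map hP1p Θ
  have hc : Nat.card ↥(P1.map Θ) = Nat.card ↥P1 := Subgroup.card_map_of_injective hΘ
  have hG : padicValNat 2 (Nat.card (Matrix.SpecialLinearGroup (Fin (2 * m)) F)) + 1
      = m * e + padicValNat 2 (Nat.factorial m) := by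
    have h1 := Cfsg.Agent.S0242.result (F := F) rfl (2 * m) (by omega)
    have h2 := congrArg (padicValNat 2) h1
    rw [v2_gl_prod _ hq1 hq2, v2Sum_even _ hq1 hq2,
      padicValNat.mul (by omega) (Nat.card_pos.ne'), v2_pred_of_four_dvd_succ _ hq] at h2
    rw [he, v2_pred_of_four_dvd_succ _ hq, mul_add]
    omega
  have hidx : ¬ 2 ∣ (P1.map Θ).index := by
    apply odd_index_of_card_ge _ hQ2
    rw [hc, hP1card]
    have h3 : 2 ^ (padicValNat 2 (Nat.card (Matrix.SpecialLinearGroup (Fin (2 * m)) F)) + 1)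
        ≤ 2 * Nat.card ↥(A ⊔ B) := by rw [hG]; exact hcard
    rw [pow_succ] at h3
    omega
  exact sqC_sylow_of_sub _ hQ2 hidx (hP1sq.map Θ) P

end

end Cfsg.Agent.Lib.helper37
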