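import Mathlib
import Cfsg.Agent.Lib.helper49.SPEDefs

set_option autoImplicit false

namespace Cfsg.Agent.Lib.helper49.SPE

open Matrix

/-- the polar form of a quadratic form with coefficient matrix `M` is `u ⬝ᵥ (M + Mᵀ) *ᵥ v` -/
theorem h37_polar_eq {F : Type*} [Field F] {n : ℕ} (Q : (Fin n → F) → F)
    (M : Matrix (Fin n) (Fin n) F) (hM : ∀ x, Q x = ∑ i, ∑ j, M i j * x i * x j)
    (u v : Fin n → F) : polar Q u v = u ⬝ᵥ ((M + Mᵀ) *ᵥ v) := by
  have h1 : polar Q u v = ∑ i, ∑ j, (M i j * (u i * v j) + M i j * (v i * u j)) := by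
    simp only [polar, hM, Pi.add_apply]
    rw [← Finset.sum_sub_distrib, ← Finset.sum_sub_distrib]
    refine Finset.sum_congr rfl fun i _ => ?_
    rw [← Finset.sum_sub_distrib, ← Finset.sum_sub_distrib]
    refine Finset.sum_congr rfl fun j _ => ?_
    ring
  have h2 : u ⬝ᵥ ((M + Mᵀ) *ᵥ v) = ∑ i, ∑ j, (M i j * (u i * v j) + M j i * (u i * v j)) := by
    simp only [dotProduct, Matrix.mulVec, Matrix.add_apply, Matrix.transpose_apply, Finset.mul_sum]
    refine Finset.sum_congr rfl fun i _ => Finset.sum_congr rfl fun j _ => ?_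
    ring
  rw [h1, h2]
  simp only [Finset.sum_add_distrib]
  congr 1
  rw [Finset.sum_comm]
  refine Finset.sum_congr rfl fun i _ => Finset.sum_congr rfl fun j _ => ?_
  ring

theorem h37_Q_smul {F : Type*} [Field F] {n : ℕ} (Q : (Fin n → F) → F)
    (M : Matrix (Fin n) (Fin n) F) (hM : ∀ x, Q x = ∑ i, ∑ j, M i j * x i * x j)
    (c : F) (u : Fin n → F) : Q (c • u) = c ^ 2 * Q u := by
  simp only [hM, Pi.smul_apply, smul_eq_mul, Finset.mul_sum]
  refine Finset.sum_congr rfl fun i _ => Finset.sum_congr rfl fun j _ => ?_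
  ring

theorem h37_sqrt {F : Type*} [Field F] [Finite F] (h2 : (2 : F) = 0) (d : F) :
    ∃ s : F, s ^ 2 = d := by
  have hinj : Function.Injective (fun x : F => x ^ 2) := by
    intro x y hxy
    have hxy' : x ^ 2 = y ^ 2 := hxy
    have h : (x - y) ^ 2 = 0 := by
      have e1 : (x - y) ^ 2 = x ^ 2 + y ^ 2 - 2 * (x * y) := by ring
      have e2 : y ^ 2 + y ^ 2 = 2 * y ^ 2 := by ring
      rw [e1, h2, zero_mul, sub_zero, hxy', e2, h2, zero_mul]
    have h' : x - y = 0 := by simpa using h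
    exact sub_eq_zero.mp h'
  exact (Finite.injective_iff_surjective.mp hinj) d

/-- ESTRUCT (L) -/
theorem ell_struct {F : Type*} [Field F] [Fintype F] {n : ℕ} (h2 : (2 : F) = 0)
    (Q : (Fin n → F) → F) (hQ : IsQF Q) (hE : ∀ u, Q u = 0 → ∀ v, polar Q u v = 0)
    (u₀ v₀ : Fin n → F) (h0 : polar Q u₀ v₀ ≠ 0) :
    ∃ (a b c : F) (l m : Fin n → F), b ≠ 0 ∧ (∀ s t : F, bq a b c s t = 0 → s = 0 ∧ t = 0) ∧
      Indep l m ∧ ∀ x, Q x = bq a b c (l ⬝ᵥ x) (m ⬝ᵥ x) := by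
  obtain ⟨M, hM⟩ := hQ
  have hP : ∀ u v, polar Q u v = u ⬝ᵥ ((M + Mᵀ) *ᵥ v) := h37_polar_eq Q M hM
  have hadd : ∀ u u' v, polar Q (u + u') v = polar Q u v + polar Q u' v := by
    intro u u' v; rw [hP, hP, hP, add_dotProduct]
  have hsmul : ∀ (c : F) u v, polar Q (c • u) v = c * polar Q u v := by
    intro c u v; rw [hP, hP, smul_dotProduct, smul_eq_mul]
  have hsub : ∀ u u' v, polar Q (u - u') v = polar Q u v - polar Q u' v := by
    intro u u' v; rw [hP, hP, hP, sub_dotProduct]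
  have hsymm : ∀ u v, polar Q u v = polar Q v u := by
    intro u v; unfold polar; rw [add_comm u v]; ring
  have hQsm : ∀ (c : F) u, Q (c • u) = c ^ 2 * Q u := h37_Q_smul Q M hM
  have hQadd : ∀ u v, Q (u + v) = Q u + Q v + polar Q u v := by
    intro u v; unfold polar; ring
  have hQ0 : Q 0 = 0 := by
    have h := hQsm 0 0
    simpa using h
  have hself : ∀ u, polar Q u u = 0 := by
    intro u
    have h1 : u + u = 0 := by
      have e : u + u = (2 : F) • u := by rw [two_smul]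
      rw [e, h2, zero_smul]
    unfold polar
    rw [h1, hQ0]
    have e : (0 : F) - Q u - Q u = -(2 * Q u) := by ring
    rw [e, h2, zero_mul, neg_zero]
  obtain ⟨b, hb⟩ : ∃ b, b = polar Q u₀ v₀ := ⟨_, rfl⟩
  rw [← hb] at h0
  have hb' : polar Q v₀ u₀ = b := by rw [hb]; exact hsymm v₀ u₀
  have hcomb : ∀ s t : F, Q (s • u₀ + t • v₀) = bq (Q u₀) b (Q v₀) s t := by
    intro s t
    rw [hQadd, hQsm, hQsm, hsmul, hsymm, hsmul, hb']
    unfold bq; ring
  have haniso : ∀ s t : F, bq (Q u₀) b (Q v₀) s t = 0 → s = 0 ∧ t = 0 := by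
    intro s t hst
    have hw : Q (s • u₀ + t • v₀) = 0 := by rw [hcomb]; exact hst
    have h1 := hE _ hw v₀
    have h2' := hE _ hw u₀
    rw [hadd, hsmul, hsmul, hself, mul_zero, add_zero, ← hb] at h1
    rw [hadd, hsmul, hsmul, hself, mul_zero, zero_add, hb'] at h2'
    exact ⟨(mul_eq_zero.mp h1).resolve_right h0, (mul_eq_zero.mp h2').resolve_right h0⟩
  obtain ⟨l, hl⟩ : ∃ l : Fin n → F, ∀ x, l ⬝ᵥ x = b⁻¹ * polar Q x v₀ :=
    ⟨b⁻¹ • ((M + Mᵀ) *ᵥ v₀), fun x => by rw [hP, smul_dotProduct, smul_eq_mul, dotProduct_comm]⟩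
  obtain ⟨m, hm⟩ : ∃ m : Fin n → F, ∀ x, m ⬝ᵥ x = b⁻¹ * polar Q x u₀ :=
    ⟨b⁻¹ • ((M + Mᵀ) *ᵥ u₀), fun x => by rw [hP, smul_dotProduct, smul_eq_mul, dotProduct_comm]⟩
  refine ⟨Q u₀, b, Q v₀, l, m, h0, haniso, ?_, ?_⟩
  · intro s t hst
    have e1 : (s • l + t • m) ⬝ᵥ u₀ = s := by
      rw [add_dotProduct, smul_dotProduct, smul_dotProduct, hl, hm, hself, ← hb, smul_eq_mul,
        smul_eq_mul, mul_zero, mul_zero, add_zero, inv_mul_cancel₀ h0, mul_one]
    have e2 : (s • l + t • m) ⬝ᵥ v₀ = t := by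
      rw [add_dotProduct, smul_dotProduct, smul_dotProduct, hl, hm, hself, hb', smul_eq_mul,
        smul_eq_mul, mul_zero, mul_zero, zero_add, inv_mul_cancel₀ h0, mul_one]
    rw [hst, zero_dotProduct] at e1 e2
    exact ⟨e1.symm, e2.symm⟩
  · intro x
    obtain ⟨α, hα⟩ : ∃ α, α = l ⬝ᵥ x := ⟨_, rfl⟩
    obtain ⟨β, hβ⟩ : ∃ β, β = m ⬝ᵥ x := ⟨_, rfl⟩
    rw [← hα, ← hβ]
    obtain ⟨z, hz⟩ : ∃ z, z = x - (α • u₀ + β • v₀) := ⟨_, rfl⟩
    have hx : x = z + (α • u₀ + β • v₀) := by rw [hz]; abel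
    have hzu : polar Q z u₀ = 0 := by
      rw [hz, hsub, hadd, hsmul, hsmul, hself, hb', hβ, hm]
      field_simp
      ring
    have hzv : polar Q z v₀ = 0 := by
      rw [hz, hsub, hadd, hsmul, hsmul, hself, ← hb, hα, hl]
      field_simp
      ring
    have hzw : polar Q z (α • u₀ + β • v₀) = 0 := by
      rw [hsymm, hadd, hsmul, hsmul, hsymm u₀ z, hsymm v₀ z, hzu, hzv]; ring
    have hQx : Q x = Q z + bq (Q u₀) b (Q v₀) α β := by
      conv_lhs => rw [hx]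
      rw [hQadd, hcomb, hzw, add_zero]
    have hQz : Q z = 0 := by
      by_contra hd
      have ha : Q u₀ ≠ 0 := fun ha => h0 (by rw [hb]; exact hE u₀ ha v₀)
      obtain ⟨s, hs⟩ := h37_sqrt h2 (Q z / Q u₀)
      have hw : Q (s • u₀ + z) = 0 := by
        rw [hQadd, hQsm, hsmul, hsymm u₀ z, hzu, hs, mul_zero, add_zero, div_mul_cancel₀ _ ha]
        have e : Q z + Q z = 2 * Q z := by ring
        rw [e, h2, zero_mul]
      have h1 := hE _ hw v₀
      rw [hadd, hsmul, hzv, add_zero, ← hb] at h1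
      have hs0 : s = 0 := (mul_eq_zero.mp h1).resolve_right h0
      rw [hs0] at hs
      have h3 : Q z / Q u₀ = 0 := by rw [← hs]; ring
      rcases div_eq_zero_iff.mp h3 with h | h
      · exact hd h
      · exact ha h
    rw [hQx, hQz, zero_add]

end Cfsg.Agent.Lib.helper49.SPE
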