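import Mathlib
import Cfsg.Agent.Lib.helper37.SqComm
import Cfsg.Agent.Lib.helper52.SupTools

set_option autoImplicit false

namespace Cfsg.Agent.Lib.helper37

theorem card_mul_card_le_inf_sup {K : Type*} [Group K] [Finite K] (X Y : Subgroup K) :
    Nat.card X * Nat.card Y ≤ Nat.card ↥(X ⊓ Y) * Nat.card ↥(X ⊔ Y) := by
  have h1 : Nat.card ↥(X ⊓ Y) * (X ⊓ Y).relIndex Y = Nat.card Y := by
    have := Subgroup.relIndex_mul_relIndex ⊥ (X ⊓ Y) Y bot_le inf_le_right
    rwa [Subgroup.relIndex_bot_left, Subgroup.relIndex_bot_left] at this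
  have h2 : Nat.card X * X.relIndex (X ⊔ Y) = Nat.card ↥(X ⊔ Y) := by
    have := Subgroup.relIndex_mul_relIndex ⊥ X (X ⊔ Y) bot_le le_sup_left
    rwa [Subgroup.relIndex_bot_left, Subgroup.relIndex_bot_left] at this
  have h3 : (X ⊓ Y).relIndex Y = X.relIndex Y := Subgroup.inf_relIndex_right X Y
  have h4 : X.relIndex Y ≤ X.relIndex (X ⊔ Y) :=
    Subgroup.relIndex_le_of_le_right le_sup_right Subgroup.index_ne_zero_of_finite
  calc Nat.card X * Nat.card Y = Nat.card X * (Nat.card ↥(X ⊓ Y) * X.relIndex Y) := by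
        rw [← h3, h1]
    _ ≤ Nat.card X * (Nat.card ↥(X ⊓ Y) * X.relIndex (X ⊔ Y)) := by gcongr
    _ = Nat.card ↥(X ⊓ Y) * Nat.card ↥(X ⊔ Y) := by rw [← h2]; ring

/-- Two normal images of a group `S` whose Sylow `2`-subgroups have the square property, together
with an involution outside their product, give a large `2`-subgroup with the square property. -/
theorem sylow_prod_sqC {S K : Type*} [Group S] [Group K] [Finite S] [Finite K]
    (hS : ∀ Q : Sylow 2 S, SqC (Q : Subgroup S)) (c : ℕ)
    (hc : (Nat.card S).factorization 2 = c)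
    (α β : S →* K) (hα : Function.Injective α) (hβ : Function.Injective β)
    (hnA : α.range.Normal) (hnB : β.range.Normal)
    (t : K) (ht : t * t = 1) (htn : ∀ a b : S, t ≠ α a * β b)
    (z : K) (hz : ∀ a b : S, α a = β b → α a = 1 ∨ α a = z) :
    ∃ P : Subgroup K, IsPGroup 2 P ∧ SqC P ∧ 2 ^ (2 * c) ≤ Nat.card P := by
  classical
  have : Fact (Nat.Prime 2) := ⟨Nat.prime_two⟩
  have hZ : IsPGroup 2 (Subgroup.zpowers t) := by
    have h1 : orderOf t ∣ 2 := orderOf_dvd_of_pow_eq_one (by rw [pow_two, ht])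
    rcases (Nat.dvd_prime Nat.prime_two).mp h1 with h | h
    · exact IsPGroup.of_card (n := 0) (by rw [Nat.card_zpowers, h]; rfl)
    · exact IsPGroup.of_card (n := 1) (by rw [Nat.card_zpowers, h]; rfl)
  obtain ⟨T, hT⟩ := hZ.exists_le_sylow
  have key : ∀ (γ : S →* K), Function.Injective γ → γ.range.Normal →
      SqC ((T : Subgroup K) ⊓ γ.range) ∧ Nat.card ↥((T : Subgroup K) ⊓ γ.range) = 2 ^ c := by
    intro γ hγ hn
    have := hn
    obtain ⟨PA, hPA⟩ := Cfsg.Agent.Lib.helper52.exists_sylow_inf_of_le_normalizer T γ.range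
      (by rw [Subgroup.normalizer_eq_top]; exact le_top)
    let e : S ≃* γ.range := MonoidHom.ofInjective hγ
    have hsurj : Function.Surjective e.toMonoidHom := e.surjective
    let Q : Sylow 2 S := PA.comapOfInjective e.toMonoidHom e.injective
      (by intro x _; exact hsurj x)
    have hQ : SqC (Q : Subgroup S) := hS Q
    have h1 : SqC ((Q : Subgroup S).map e.toMonoidHom) := hQ.map _
    have h2 : (Q : Subgroup S).map e.toMonoidHom = (PA : Subgroup γ.range) := by
      show ((PA : Subgroup γ.range).comap e.toMonoidHom).map e.toMonoidHom = _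
      exact Subgroup.map_comap_eq_self_of_surjective hsurj _
    rw [h2] at h1
    have h3 : SqC ((PA : Subgroup γ.range).map γ.range.subtype) := h1.map _
    have h4 : (PA : Subgroup γ.range).map γ.range.subtype = (T : Subgroup K) ⊓ γ.range := by
      rw [hPA]
      exact Subgroup.map_subgroupOf_eq_of_le inf_le_right
    rw [h4] at h3
    refine ⟨h3, ?_⟩
    rw [← h4, Subgroup.card_map_of_injective (Subgroup.subtype_injective _),
      Sylow.card_eq_multiplicity, ← Nat.card_congr e.toEquiv, hc]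
  obtain ⟨hsA, hcA⟩ := key α hα hnA
  obtain ⟨hsB, hcB⟩ := key β hβ hnB
  set TA := (T : Subgroup K) ⊓ α.range with hTA
  set TB := (T : Subgroup K) ⊓ β.range with hTB
  set M := TA ⊔ TB with hM
  set P := M ⊔ Subgroup.zpowers t with hP
  have hPT : P ≤ T := sup_le (sup_le inf_le_left inf_le_left) hT
  have hMP : M ≤ P := le_sup_left
  have htP : t ∈ P := (le_sup_right : Subgroup.zpowers t ≤ P) (Subgroup.mem_zpowers t)
  refine ⟨P, T.isPGroup'.to_le hPT, ?_, ?_⟩
  · apply sqC_of_closure P ((TA : Set K) ∪ (TB : Set K) ∪ {t})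
    · rw [Subgroup.closure_union, Subgroup.closure_union, Subgroup.closure_eq,
        Subgroup.closure_eq, ← Subgroup.zpowers_eq_closure]
    · rintro s ((hs | hs) | hs)
      · exact Subgroup.commutator_mono (le_sup_left.trans hMP) (le_sup_left.trans hMP)
          (hsA s hs)
      · exact Subgroup.commutator_mono (le_sup_right.trans hMP) (le_sup_right.trans hMP)
          (hsB s hs)
      · rw [Set.mem_singleton_iff] at hs
        rw [hs, pow_two, ht]
        exact Subgroup.one_mem _
  · have h1 := card_mul_card_le_inf_sup TA TB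
    have h2 : Nat.card ↥(TA ⊓ TB) ≤ 2 := by
      have hsub : ((TA ⊓ TB : Subgroup K) : Set K) ⊆ {1, z} := by
        intro x hx
        obtain ⟨⟨_, a, rfl⟩, ⟨_, b, hb⟩⟩ := hx
        rcases hz a b hb.symm with h | h
        · left; exact h
        · right; exact h
      calc Nat.card ↥(TA ⊓ TB) = Set.ncard ((TA ⊓ TB : Subgroup K) : Set K) := rfl
        _ ≤ Set.ncard ({1, z} : Set K) := Set.ncard_le_ncard hsub (Set.toFinite _)
        _ ≤ 2 := (Set.ncard_insert_le 1 {z}).trans (by rw [Set.ncard_singleton])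
    have h3 : 2 ^ c * 2 ^ c ≤ 2 * Nat.card M := by
      rw [hcA, hcB] at h1
      calc 2 ^ c * 2 ^ c ≤ Nat.card ↥(TA ⊓ TB) * Nat.card M := h1
        _ ≤ 2 * Nat.card M := Nat.mul_le_mul_right _ h2
    have htM : t ∉ M := by
      intro h
      have hM' : M ≤ α.range ⊔ β.range := sup_le_sup inf_le_right inf_le_right
      have h5 := hM' h
      have := hnB
      rw [← SetLike.mem_coe, Subgroup.mul_normal] at h5
      obtain ⟨_, ⟨a, rfl⟩, _, ⟨b, rfl⟩, hab⟩ := h5
      exact htn a b hab.symm
    have h4 : 2 * Nat.card M ≤ Nat.card P := by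
      obtain ⟨k, hk⟩ := Subgroup.card_dvd_of_le hMP
      have hPpos : 0 < Nat.card P := Nat.card_pos
      have hk0 : k ≠ 0 := by
        rintro rfl
        rw [mul_zero] at hk
        omega
      have hk1 : k ≠ 1 := by
        rintro rfl
        have : M = P := Subgroup.eq_of_le_of_card_ge hMP (by omega)
        exact htM (this ▸ htP)
      have h2k : 2 ≤ k := by omega
      rw [hk, mul_comm]
      exact Nat.mul_le_mul_left _ h2k
    calc 2 ^ (2 * c) = 2 ^ c * 2 ^ c := by ring
      _ ≤ 2 * Nat.card M := h3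
      _ ≤ Nat.card P := h4

end Cfsg.Agent.Lib.helper37
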